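import Groth.Agent.H75.Sections
import Groth.Agent.AmpleVan.FinGen
import Groth.Agent.AmpleVan.Uniform
import Groth.Agent.QCoh.DevissageSum
import Groth.Agent.QCoh.Bound
import Groth.Agent.PnCoh.Finite.SerreVanishing
import Groth.Agent.KZ.LFRes
import Mathlib.AlgebraicGeometry.Noetherian

/-!
# Descending induction through presentations by a class of modules
-/

universe u

open CategoryTheory CategoryTheory.Limits AlgebraicGeometry TopologicalSpace Opposite
open Groth.Agent.H23.PicMul

set_option backward.isDefEq.respectTransparency false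
set_option backward.isDefEq.respectTransparency.types false
set_option linter.style.haveILetI false

attribute [local instance] Groth.Agent.QCoh.hasFiniteBiproducts
attribute [local instance] HasDerivedCategory.standard

namespace Groth.Agent.H75

open Groth.Agent

variable {X : Scheme.{u}}

/-- An inverse of an invertible module is invertible. -/
theorem isInvertible_inverse {L M : X.Modules} (hL : PicF.IsInvertible L) (hM : ClSub.IsInverseOf M L) :
    PicF.IsInvertible M := by
  obtain ⟨D, hD, ⟨e⟩⟩ := H23.PicInv.exists_inverse hL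
  have h1 : PicF.cl L * PicF.cl M = 1 := by
    rw [mul_comm, ← cl_tensor, H23.PicMul.one_def]
    exact cl_eq_iff.2 hM
  have h2 : PicF.cl L * PicF.cl D = 1 := by
    rw [← cl_tensor, H23.PicMul.one_def]
    exact cl_eq_iff.2 ⟨e⟩
  obtain ⟨φ⟩ : Nonempty (D ≅ M) := cl_eq_iff.1 ((isUnit_cl hL).mul_left_cancel (h2.trans h1.symm))
  exact H23.PicMul.isInvertible_of_iso φ hD

/-- If every coherent module is a quotient of one whose cohomology vanishes above `r`, then the
cohomology of every coherent module vanishes above `r`. -/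
theorem subsingleton_HH_of_quotients [CompactSpace X] [QuasiSeparatedSpace X] [IsNoetherian X] (r : ℕ)
    (hq : ∀ F : X.Modules, Coh.IsCoh F → ∃ (E : X.Modules) (p : E ⟶ F), Epi p ∧ Coh.IsCoh E ∧
      ∀ i, r < i → Subsingleton (Coh.HH X E i))
    (F : X.Modules) (hF : Coh.IsCoh F) (i : ℕ) (hi : r < i) : Subsingleton (Coh.HH X F i) := by
  obtain ⟨d, hd⟩ := QCoh.exists_HH_bound (X := X)
  suffices H : ∀ (t : ℕ) (F : X.Modules), Coh.IsCoh F → ∀ i, r < i → d ≤ i + t →
      Subsingleton (Coh.HH X F i) from H d F hF i hi (by omega)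
  intro t
  induction t with
  | zero => exact fun F hF i _ h => hd F hF.1 i (by omega)
  | succ t ih =>
    intro F hF i hi h
    obtain ⟨E, p, hp, hE, hEv⟩ := hq F hF
    haveI := hp
    exact PnCoh.Finite.subsingleton_HH_X₃ (KZ.kerSeq_shortExact p) i (hEv i hi)
      (ih _ (QCoh.isCoh_kernel hE hF p) (i + 1) (by omega) (by omega))

/-- Coherent modules are quotients of finite sums of a large negative power of an ample module. -/
theorem exists_epi_negPow [CompactSpace X] [X.IsSeparated] [IsNoetherian X] {L M : X.Modules}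
    (hL : CohB1.IsAmple L) (hM : ClSub.IsInverseOf M L) (m₀ : ℕ) (F : X.Modules) (hF : Coh.IsCoh F) :
    ∃ (n : ℕ) (_ : m₀ ≤ n) (k : ℕ) (p : (⨁ fun _ : ULift.{u} (Fin k) => CohB1.tensorPow M n) ⟶ F), Epi p := by
  obtain ⟨n₀, h⟩ := AmpleX.eventually_generated hL hF.1 hF.2
  let n := max m₀ n₀
  obtain ⟨G, iso, ι, s, hs⟩ := h n (le_max_right _ _)
  have hinvL : PicF.IsInvertible L := hL.1
  have hG : Coh.IsCoh G := KZ.isClosedUnderIsomorphisms_isCoh.of_iso iso.symm
    (AmpleVan.isCoh_tensor hF (AmpleVan.isCoh_invertible (InvX.isInvertible_tensorPow hinvL n)))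
  obtain ⟨k, j, hj⟩ := AmpleVan.exists_fin_generatedBy hG s hs
  let g : (⨁ fun _ : ULift.{u} (Fin k) => Coh.structureModule X) ⟶ G :=
    biproduct.desc fun a => InvX.ofSect (s (j a.down))
  haveI : Epi g := InvX.epi_of_generated hj g (fun a => biproduct.ι (fun _ : ULift.{u} (Fin k) => Coh.structureModule X) ⟨a⟩)
    fun a => (congrArg InvX.one (biproduct.ι_desc _ _)).trans (InvX.one_ofSect _)
  refine ⟨n, le_max_left _ _, k, ?_⟩
  let T := AmpleVan.tw (CohB1.tensorPow M n)
  obtain ⟨eO⟩ : Nonempty (CohB1.tensorPow M n ≅ T.obj (Coh.structureModule X)) := by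
    refine cl_eq_iff.1 ?_
    show PicF.cl (CohB1.tensorPow M n) = PicF.cl (CohB1.tensorMod (Coh.structureModule X) (CohB1.tensorPow M n))
    rw [cl_tensor, ← H23.PicMul.one_def, one_mul]
  obtain ⟨eG⟩ : Nonempty (T.obj G ≅ F) := by
    refine cl_eq_iff.1 ?_
    show PicF.cl (CohB1.tensorMod G (CohB1.tensorPow M n)) = PicF.cl F
    have h1 : PicF.cl M * PicF.cl L = 1 := by
      rw [← cl_tensor, H23.PicMul.one_def]
      exact cl_eq_iff.2 hM
    rw [cl_tensor, cl_eq_iff.2 ⟨iso⟩, cl_tensor, cl_tensorPow, cl_tensorPow, mul_assoc, ← mul_pow,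
      mul_comm (PicF.cl L), h1, one_pow, mul_one]
  haveI : T.IsEquivalence :=
    AmpleVan.isEquivalence_tw (InvX.isInvertible_tensorPow (isInvertible_inverse hinvL hM) n)
  haveI : PreservesBiproductsOfShape (ULift.{u} (Fin k)) T :=
    preservesBiproductsOfShape_of_preservesCoproductsOfShape T
  exact ⟨(biproduct.mapIso fun _ => eO).hom ≫
    (T.mapBiproduct fun _ : ULift.{u} (Fin k) => Coh.structureModule X).inv ≫ T.map g ≫ eG.hom, inferInstance⟩

end Groth.Agent.H75
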