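import Groth.Agent.H75.GGMul
import Groth.Agent.H23.PullPush
import Groth.Agent.FlatMisc.SteinUC
import Groth.Agent.ShStabX.Ascent
import Groth.Agent.AmpleX.Pow
import Groth.Agent.InvX.GenLocusPull
import Groth.Agent.S7616
import Groth.Prelude.Def_ClSub2

/-!
# Stein factorization of the maps of the globally generated powers
-/

universe u

open CategoryTheory CategoryTheory.Limits AlgebraicGeometry TopologicalSpace Opposite
open scoped Groth.Agent.H23.PicMul

set_option backward.isDefEq.respectTransparency false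
set_option backward.isDefEq.respectTransparency.types false
set_option linter.style.haveILetI false

noncomputable section

namespace Groth.Agent.H75.SteinPull

open Groth.Agent

/-- The sum of the pullbacks of ample modules on a product over an affine base is ample. -/
theorem isAmple_box {P Q S : Scheme.{u}} [IsAffine S] (p : P ⟶ S) (q : Q ⟶ S) {A : P.Modules} {B : Q.Modules}
    (hA : CohB1.IsAmple A) (hB : CohB1.IsAmple B) [CompactSpace ↥(pullback p q)] :
    CohB1.IsAmple (CohB1.tensorMod ((Scheme.Modules.pullback (pullback.fst p q)).obj A)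
      ((Scheme.Modules.pullback (pullback.snd p q)).obj B)) := by
  let a := pullback.fst p q
  let b := pullback.snd p q
  have ha := PicClLib.isInvertible_pullback a hA.1
  have hb := PicClLib.isInvertible_pullback b hB.1
  refine ⟨InvX.isInvertible_tensorMod ha hb, inferInstance, fun z => ?_⟩
  obtain ⟨n, s, hzs, hs⟩ := hA.2.2 (a z)
  obtain ⟨m, t, hzt, ht⟩ := hB.2.2 (b z)
  let s' := InvX.powHom s (m + 1)
  let t' := InvX.powHom t (n + 1)
  have hs' : CohB1.genLocus _ s' = CohB1.genLocus _ s := InvX.genLocus_powHom (InvX.isInvertible_tensorPow hA.1 _) s m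
  have ht' : CohB1.genLocus _ t' = CohB1.genLocus _ t := InvX.genLocus_powHom (InvX.isInvertible_tensorPow hB.1 _) t n
  have hAi := InvX.isInvertible_tensorPow (InvX.isInvertible_tensorPow hA.1 (n + 1)) (m + 1)
  have hBi := InvX.isInvertible_tensorPow (InvX.isInvertible_tensorPow hB.1 (m + 1)) (n + 1)
  obtain ⟨ea⟩ := PicClLib.nonempty_pullback_structureModule a
  obtain ⟨eb⟩ := PicClLib.nonempty_pullback_structureModule b
  have hla := InvX.genLocus_pullback a hAi s' ea.symm
  have hlb := InvX.genLocus_pullback b hBi t' eb.symm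
  let σ := InvX.mulHom (ea.symm.hom ≫ (Scheme.Modules.pullback a).map s')
    (eb.symm.hom ≫ (Scheme.Modules.pullback b).map t')
  have hσ : CohB1.genLocus _ σ = a ⁻¹ᵁ CohB1.genLocus _ s ⊓ b ⁻¹ᵁ CohB1.genLocus _ t := by
    rw [InvX.genLocus_mulHom (PicClLib.isInvertible_pullback a hAi) (PicClLib.isInvertible_pullback b hBi),
      hla, hlb, hs', ht']
  have hcl : ∀ {Z : Scheme.{u}} (c : pullback p q ⟶ Z) (M : Z.Modules) (i : ℕ),
      PicF.cl ((Scheme.Modules.pullback c).obj (CohB1.tensorPow M i)) =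
        PicF.cl ((Scheme.Modules.pullback c).obj M) ^ i := fun c M i =>
    (congrArg (PicF.pullCl c) (H23.PicMul.cl_tensorPow _ i)).trans (H23.PicMul.pullCl_pow c (PicF.cl M) i)
  let N := n + m + n * m
  obtain ⟨τ, hτ⟩ := AmpleX.exists_section_of_cl_eq
    (B := CohB1.tensorPow (CohB1.tensorMod ((Scheme.Modules.pullback a).obj A) ((Scheme.Modules.pullback b).obj B)) (N + 1))
    (by
      rw [H23.PicMul.cl_tensor, H23.PicMul.cl_tensorPow, H23.PicMul.cl_tensor, hcl, hcl, hcl, hcl, mul_pow,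
        ← pow_mul, ← pow_mul]
      congr 2 <;> (simp only [N]; ring)) σ
  refine ⟨N, τ, ?_, ?_⟩
  · rw [hτ, hσ]; exact ⟨hzs, hzt⟩
  · rw [hτ, hσ]
    let U := CohB1.genLocus _ s
    let V := CohB1.genLocus _ t
    haveI : IsAffine U.toScheme := hs
    haveI : IsAffine V.toScheme := ht
    let j := pullback.map (U.ι ≫ p) (V.ι ≫ q) p q U.ι V.ι (𝟙 S) (Category.comp_id _) (Category.comp_id _)
    have hr : j.opensRange = a ⁻¹ᵁ U ⊓ b ⁻¹ᵁ V := Opens.ext <| by
      show Set.range j = _
      rw [Scheme.Pullback.range_map, Scheme.Opens.range_ι, Scheme.Opens.range_ι]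
      rfl
    rw [← hr]
    exact isAffineOpen_opensRange j

variable {k : Type u} [Field k] {X : Scheme.{u}} (f : X ⟶ Spec (CommRingCat.of k)) [IsProper f]
  {L : X.Modules}

/-- A globally generated invertible module comes from an ample one. -/
theorem exists_projective (hL : PicF.IsInvertible L) (hLg : Curv2.IsGloballyGenerated L) :
    ∃ (P : Scheme.{u}) (p : P ⟶ Spec (CommRingCat.of k)) (T : P.Modules) (r : X ⟶ P),
      IsProper p ∧ CohB1.IsAmple T ∧ r ≫ p = f ∧ Nonempty ((Scheme.Modules.pullback r).obj T ≅ L) := by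
  haveI : CompactSpace X := QuasiCompact.compactSpace_of_compactSpace f
  haveI : IsLocallyNoetherian X := LocallyOfFiniteType.isLocallyNoetherian f
  obtain ⟨ι, s, hs⟩ := Growth22.exists_generatedBy_of_isGloballyGenerated hL hLg
  obtain ⟨m, j, hj⟩ := AmpleVan.exists_fin_generatedBy (CurveDeg.isCoh_of_isInvertible hL) s hs
  let t : Fin (m + 1) → ProjUP.Γm L := Fin.cons (0 : ProjUP.Γm L) (s ∘ j)
  have ht : ProjUP.GeneratedBy L t := fun x => top_le_iff.1 <| (hj x).ge.trans <| Submodule.span_mono <| by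
    rintro _ ⟨i, rfl⟩
    exact ⟨i.succ, by simp [t]⟩
  obtain ⟨r, hr, τ, -⟩ := S3572.result m f L hL t ht
  exact ⟨_, _, _, r, PnCoh.Chow.isProper_toSpec m k, GGMul.isAmple_one, hr, ⟨τ⟩⟩

/-- Finitely many globally generated powers come simultaneously from one proper scheme. -/
theorem exists_simultaneous (hL : PicF.IsInvertible L) (s : Finset ℕ) {m₀ : ℕ} (hm₀ : 0 < m₀)
    (h₀ : Curv2.IsGloballyGenerated (CohB1.tensorPow L m₀))
    (hs : ∀ i ∈ s, Curv2.IsGloballyGenerated (CohB1.tensorPow L i)) :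
    ∃ (Q : Scheme.{u}) (q : Q ⟶ Spec (CommRingCat.of k)) (T : Q.Modules) (r : X ⟶ Q) (M : ℕ),
      IsProper q ∧ CohB1.IsAmple T ∧ r ≫ q = f ∧ 0 < M ∧
        Nonempty ((Scheme.Modules.pullback r).obj T ≅ CohB1.tensorPow L M) ∧
        ∀ i ∈ s, ∃ N : Q.Modules, PicF.IsInvertible N ∧
          Nonempty ((Scheme.Modules.pullback r).obj N ≅ CohB1.tensorPow L i) := by
  classical
  induction s using Finset.induction with
  | empty =>
    obtain ⟨P, p, T, r, hp, hT, hr, e⟩ := exists_projective f (InvX.isInvertible_tensorPow hL m₀) h₀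
    exact ⟨P, p, T, r, m₀, hp, hT, hr, hm₀, e, fun i hi => absurd hi (Finset.notMem_empty i)⟩
  | insert i s _ ih =>
    obtain ⟨Q, q, T, r, M, hq, hT, hr, hM, ⟨e⟩, hN⟩ := ih fun j hj => hs j (Finset.mem_insert_of_mem hj)
    obtain ⟨P, p, B, r', hp, hB, hr', ⟨e'⟩⟩ := exists_projective f (InvX.isInvertible_tensorPow hL i)
      (hs i (Finset.mem_insert_self i s))
    let R := pullback.lift r r' (hr.trans hr'.symm)
    let a := pullback.fst q p
    let b := pullback.snd q p
    have hR1 : R ≫ a = r := pullback.lift_fst _ _ _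
    have hR2 : R ≫ b = r' := pullback.lift_snd _ _ _
    have hpull : ∀ {Z : Scheme.{u}} {c : pullback q p ⟶ Z} {d : X ⟶ Z} (_ : R ≫ c = d) (N : Z.Modules),
        PicF.cl ((Scheme.Modules.pullback R).obj ((Scheme.Modules.pullback c).obj N)) =
          PicF.cl ((Scheme.Modules.pullback d).obj N) := by
      intro Z c d h N
      subst h
      exact H23.PicMul.cl_eq_iff.2 ⟨(Scheme.Modules.pullbackComp R c).app N⟩
    haveI : IsProper (a ≫ q) := by
      haveI : IsProper a := MorphismProperty.pullback_fst _ _ hp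
      infer_instance
    haveI : CompactSpace ↥(pullback q p) := QuasiCompact.compactSpace_of_compactSpace (a ≫ q)
    refine ⟨pullback q p, a ≫ q, _, R, M + i, ‹_›, isAmple_box q p hT hB,
      by rw [← Category.assoc, hR1, hr], by omega, ?_, fun j hj => ?_⟩
    · refine H23.PicMul.cl_eq_iff.1 ?_
      refine (H23.PicMul.pullCl_mul R (PicF.cl _) (PicF.cl _)).trans ?_
      rw [show PicF.pullCl R (PicF.cl ((Scheme.Modules.pullback a).obj T)) = PicF.cl ((Scheme.Modules.pullback r).obj T)
          from hpull hR1 T,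
        show PicF.pullCl R (PicF.cl ((Scheme.Modules.pullback b).obj B)) = PicF.cl ((Scheme.Modules.pullback r').obj B)
          from hpull hR2 B,
        H23.PicMul.cl_eq_iff.2 ⟨e⟩, H23.PicMul.cl_eq_iff.2 ⟨e'⟩, H23.PicMul.cl_tensorPow, H23.PicMul.cl_tensorPow,
        H23.PicMul.cl_tensorPow, pow_add]
    · rcases Finset.mem_insert.1 hj with rfl | hj
      · exact ⟨_, PicClLib.isInvertible_pullback b hB.1, H23.PicMul.cl_eq_iff.1
          ((hpull hR2 B).trans (H23.PicMul.cl_eq_iff.2 ⟨e'⟩))⟩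
      · obtain ⟨N, hNi, ⟨eN⟩⟩ := hN j hj
        exact ⟨_, PicClLib.isInvertible_pullback a hNi, H23.PicMul.cl_eq_iff.1
          ((hpull hR1 N).trans (H23.PicMul.cl_eq_iff.2 ⟨eN⟩))⟩

/-- The invertible classes in the group of units of all classes. -/
def invSubgroup (Y : Scheme.{u}) : Subgroup (PicF.Cl Y)ˣ where
  carrier := {c | PicF.IsInvertibleCl (c : PicF.Cl Y)}
  mul_mem' h h' := H23.PicMul.isInvertibleCl_mul h h'
  one_mem' := ⟨_, rfl, InvX.isInvertible_structureModule⟩
  inv_mem' {c} h := by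
    obtain ⟨b, hb⟩ := H23.PicMul.exists_inv ⟨(c : PicF.Cl Y), h⟩
    show PicF.IsInvertibleCl _
    rw [← Units.eq_inv_of_mul_eq_one_right hb]
    exact b.2

/-- The Stein factorization for a semiample module. -/
theorem exists_fibreSpace [X.Over (Spec (CommRingCat.of k))] [IsProper (X ↘ Spec (CommRingCat.of k))]
    [IsIntegral X] (hL : PicF.IsInvertible L)
    (hsa : ∃ m : ℕ, 0 < m ∧ Curv2.IsGloballyGenerated (CohB1.tensorPow L m)) :
    ∃ (Y : Scheme.{u}) (g : Y ⟶ Spec (CommRingCat.of k)) (HY : Y.Modules) (φ : X ⟶ Y),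
      IsIntegral Y ∧ IsProper g ∧ CohB1.IsAmple HY ∧
      φ ≫ g = X ↘ Spec (CommRingCat.of k) ∧ Surjective φ ∧ IsIso (ClSub.unitToPush φ) ∧
      ∀ m : ℕ, 0 < m → Curv2.IsGloballyGenerated (CohB1.tensorPow L m) →
        ∃ A : Y.Modules, CohB1.IsAmple A ∧ Nonempty ((Scheme.Modules.pullback φ).obj A ≅ CohB1.tensorPow L m) := by
  classical
  obtain ⟨m₀, hm₀, h₀⟩ := hsa
  let G : Set ℤ := (fun m : ℕ => (m : ℤ)) '' {m : ℕ | Curv2.IsGloballyGenerated (CohB1.tensorPow L m)}
  obtain ⟨s', hs', hspan⟩ := (Submodule.fg_span_iff_fg_span_finset_subset G).1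
    (IsNoetherian.noetherian (Submodule.span ℤ G))
  have hsub : ∀ z ∈ s', ∃ i : ℕ, Curv2.IsGloballyGenerated (CohB1.tensorPow L i) ∧ z = (i : ℤ) := fun z hz => by
    obtain ⟨i, hi, rfl⟩ := hs' (Finset.mem_coe.2 hz)
    exact ⟨i, hi, rfl⟩
  obtain ⟨Q, q, T, r, M, hq, hT, hr, hM, ⟨eT⟩, hN⟩ := exists_simultaneous (X ↘ Spec (CommRingCat.of k)) hL
    (s'.image Int.toNat) hm₀ h₀ fun i hi => by
      obtain ⟨z, hz, rfl⟩ := Finset.mem_image.1 hi
      obtain ⟨i₁, hi₁, rfl⟩ := hsub z hz
      simpa using hi₁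
  letI : Q.Over (Spec (CommRingCat.of k)) := ⟨q⟩
  haveI : IsProper (Q ↘ Spec (CommRingCat.of k)) := hq
  haveI : r.IsOver (Spec (CommRingCat.of k)) := ⟨hr⟩
  haveI : IsProper r := by
    haveI : IsProper (r ≫ q) := hr ▸ ‹IsProper (X ↘ Spec (CommRingCat.of k))›
    exact IsProper.of_comp r q
  haveI : IsFinite r.fromNormalization := S7616.result k Q X r
  let φ := r.toNormalization
  haveI : IsProper φ := by
    haveI : IsProper (φ ≫ r.fromNormalization) := by rw [r.toNormalization_fromNormalization]; infer_instance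
    exact IsProper.of_comp φ r.fromNormalization
  haveI : Surjective φ := ⟨fun y => by
    have h1 : IsClosed (Set.range φ) := φ.isClosedMap.isClosed_range
    have h2 := φ.denseRange.closure_range
    rw [h1.closure_eq] at h2
    exact h2.ge (Set.mem_univ y)⟩
  have hiso : ∀ U, Function.Bijective (φ.app U) := fun U =>
    (ConcreteCategory.isIso_iff_bijective _).1 (FlatMisc.isIso_toNormalization_app r U)
  let g := r.fromNormalization ≫ q
  haveI : IsProper g := inferInstanceAs (IsProper (r.fromNormalization ≫ q))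
  haveI : CompactSpace ↥r.normalization := QuasiCompact.compactSpace_of_compactSpace g
  let HY := (Scheme.Modules.pullback r.fromNormalization).obj T
  have hHY : CohB1.IsAmple HY := ShStabX.isAmple_pullback_affine _ hT
  have hpull : ∀ N : Q.Modules,
      PicF.cl ((Scheme.Modules.pullback φ).obj ((Scheme.Modules.pullback r.fromNormalization).obj N)) =
        PicF.cl ((Scheme.Modules.pullback r).obj N) := fun N => by
    refine H23.PicMul.cl_eq_iff.2 ?_
    exact ⟨(Scheme.Modules.pullbackComp φ r.fromNormalization).app N ≪≫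
      (Scheme.Modules.pullbackCongr r.toNormalization_fromNormalization).app N⟩
  refine ⟨r.normalization, g, HY, φ, inferInstance, inferInstance, hHY, ?_, inferInstance, ?_, fun m hm hgg => ?_⟩
  · rw [← Category.assoc, r.toNormalization_fromNormalization]; exact hr
  · exact Scheme.Modules.Hom.isIso_iff_isIso_app.2 fun U => (ConcreteCategory.isIso_iff_bijective _).2 (hiso U)
  · let Φ : (PicF.Cl r.normalization)ˣ →* (PicF.Cl X)ˣ := Units.map (H23.PicMul.pullHom φ)
    let u := (H23.PicMul.isUnit_cl hL).unit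
    let D : Submodule ℤ ℤ := AddSubgroup.toIntSubmodule
      ((Subgroup.map Φ (invSubgroup r.normalization)).comap (zpowersHom (PicF.Cl X)ˣ u)).toAddSubgroup'
    have hmem : ∀ z : ℤ, z ∈ D ↔ u ^ z ∈ Subgroup.map Φ (invSubgroup r.normalization) := fun z => Iff.rfl
    have hD : ∀ z ∈ s', z ∈ D := fun z hz => by
      obtain ⟨i, hi, rfl⟩ := hsub z hz
      obtain ⟨N, hNi, ⟨eN⟩⟩ := hN i (Finset.mem_image.2 ⟨_, hz, rfl⟩)
      have hNY := PicClLib.isInvertible_pullback r.fromNormalization hNi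
      rw [hmem]
      refine ⟨(H23.PicMul.isUnit_cl hNY).unit, ⟨_, rfl, hNY⟩, Units.ext ?_⟩
      rw [zpow_natCast, Units.val_pow_eq_pow_val, IsUnit.unit_spec]
      show PicF.pullCl φ ((H23.PicMul.isUnit_cl hNY).unit : PicF.Cl r.normalization) = _
      rw [IsUnit.unit_spec, ← H23.PicMul.cl_tensorPow, ← H23.PicMul.cl_eq_iff.2 ⟨eN⟩]
      exact hpull N
    have hmD : (m : ℤ) ∈ D := by
      have h1 : Submodule.span ℤ (s' : Set ℤ) ≤ D := Submodule.span_le.2 hD
      refine h1 (hspan ▸ Submodule.subset_span ⟨m, hgg, rfl⟩)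
    obtain ⟨c, ⟨A, hA, hAi⟩, hc⟩ := (hmem _).1 hmD
    have hAL : PicF.cl ((Scheme.Modules.pullback φ).obj A) = PicF.cl (CohB1.tensorPow L m) := by
      have h2 := congrArg Units.val hc
      rw [zpow_natCast, Units.val_pow_eq_pow_val, IsUnit.unit_spec] at h2
      rw [H23.PicMul.cl_tensorPow, ← h2]
      show PicF.pullCl φ (PicF.cl A) = PicF.pullCl φ (c : PicF.Cl r.normalization)
      rw [hA]
    refine ⟨A, ?_, H23.PicMul.cl_eq_iff.1 hAL⟩
    -- pulling back invertible classes is injective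
    have hP : ∀ E : r.normalization.Modules, PicF.IsInvertible E →
        PicF.cl E = PicF.cl ((Scheme.Modules.pushforward φ).obj ((Scheme.Modules.pullback φ).obj E)) := fun E hE => by
      haveI := H23.PullPush.isIso_unit_of_isFinLocFree φ hiso E (H23.PullPush.isFinLocFree_of_isInvertible hE)
      exact H23.PicMul.cl_eq_iff.2 ⟨asIso ((Scheme.Modules.pullbackPushforwardAdjunction φ).unit.app E)⟩
    refine AmpleX.isAmple_of_tensorPow hAi hM (AmpleX.isAmple_of_iso ?_ (AmpleX.isAmple_tensorPow hHY hm))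
    refine (H23.PicMul.cl_eq_iff.1 ?_).some
    rw [hP _ (InvX.isInvertible_tensorPow hHY.1 m), hP _ (InvX.isInvertible_tensorPow hAi M)]
    refine H23.PicMul.cl_eq_iff.2 ⟨(Scheme.Modules.pushforward φ).mapIso (H23.PicMul.cl_eq_iff.1 ?_).some⟩
    have hpow : ∀ (E : r.normalization.Modules) (i : ℕ),
        PicF.cl ((Scheme.Modules.pullback φ).obj (CohB1.tensorPow E i)) =
          PicF.cl ((Scheme.Modules.pullback φ).obj E) ^ i := fun E i =>
      (congrArg (PicF.pullCl φ) (H23.PicMul.cl_tensorPow _ i)).trans (H23.PicMul.pullCl_pow φ (PicF.cl E) i)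
    rw [hpow, hpow, hAL, show PicF.cl ((Scheme.Modules.pullback φ).obj HY) = PicF.cl (CohB1.tensorPow L M) from
      (hpull T).trans (H23.PicMul.cl_eq_iff.2 ⟨eT⟩), H23.PicMul.cl_tensorPow, H23.PicMul.cl_tensorPow,
      ← pow_mul, ← pow_mul, mul_comm]

end Groth.Agent.H75.SteinPull
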