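import Groth.Agent.H75.ResReg
import Groth.Agent.Lib.CurveTensor
import Groth.Agent.QCoh.HHExact
import Groth.Agent.AmpleVan.Mul
import Groth.Agent.SurfInt.Ideal
import Mathlib.LinearAlgebra.TensorProduct.Quotient

/-!
# Surjectivity of multiplication of sections from surjectivity on a divisor
-/

universe u

open CategoryTheory CategoryTheory.Limits AlgebraicGeometry TopologicalSpace Opposite MonoidalCategory
open scoped TensorProduct
open Groth.Agent.InvX

set_option backward.isDefEq.respectTransparency false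
set_option backward.isDefEq.respectTransparency.types false
set_option linter.style.haveILetI false

attribute [local instance] HasDerivedCategory.standard

noncomputable section

namespace Groth.Agent.H75.MulR

open Groth.Agent

variable {X : Scheme.{u}} {M M' N : X.Modules}

lemma map_tmul_right (φ : N ⟶ M') {U : X.Opens} (a : Γ(M, U)) (b : Γ(N, U)) :
    ((DCoh.tensorBi.obj M).map φ).app U (tmul a b) = tmul a (φ.app U b) := by
  have h := KFlatLib.unitShP_naturality (DCoh.toP.obj M ◁ DCoh.toP.map φ)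
  exact congr(($h).app (op U) (KFlatLib.tm a b)).symm

lemma tmul_add_right {U : X.Opens} (a : Γ(M, U)) (b b' : Γ(N, U)) :
    tmul a (b + b') = tmul a b + tmul a b' :=
  QCoh.tmS_add_right M N a b b'

lemma tmul_zero_right {U : X.Opens} (a : Γ(M, U)) : tmul a (0 : Γ(N, U)) = 0 := by
  have h := tmul_add_right a (0 : Γ(N, U)) 0
  rw [add_zero] at h
  exact left_eq_add.1 h

/-- Tensoring with a frame is bijective on sections. -/
theorem bijective_tmul_frame (hM : Coh.IsQCoh M) (hN : Coh.IsQCoh N) {U : X.Opens} {e : Γ(N, U)}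
    (he : IsFrame e) : Function.Bijective fun a : Γ(M, U) => tmul a e := by
  have hinj : ∀ (V : X.Opens) (h : V ≤ U) (a a' : Γ(M, V)),
      tmul a (AModX.res N h e) = tmul a' (AModX.res N h e) → a = a' := by
    intro V h a a' haa
    refine AModX.eq_of_locally _ _ fun p hp => ?_
    obtain ⟨W, hW, hpW, hWV⟩ := exists_isAffineOpen_mem_and_subset hp
    refine ⟨W, hWV, hpW, sub_eq_zero.1 (eq_zero_of_tmul_frame hM hN hW (he.res (le_trans hWV h)) ?_)⟩
    have h1 := congrArg (AModX.res (CohB1.tensorMod M N) hWV) haa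
    rw [res_tmul, res_tmul, AModX.res_res] at h1
    have h2 := AmpleVan.tmul_add_left (AModX.res M hWV a - AModX.res M hWV a') (AModX.res M hWV a')
      (AModX.res N (le_trans hWV h) e)
    rw [sub_add_cancel, h1] at h2
    exact (add_eq_right.1 h2.symm)
  refine ⟨fun a a' h => hinj U le_rfl a a' (by rw [AModX.res_self]; exact h), fun z => ?_⟩
  have hloc : ∀ p : U, ∃ (V : X.Opens) (h : V ≤ U) (_ : p.1 ∈ V) (a : Γ(M, V)),
      tmul a (AModX.res N h e) = AModX.res (CohB1.tensorMod M N) h z := by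
    rintro ⟨p, hp⟩
    obtain ⟨V, hV, hpV, hVU⟩ := exists_isAffineOpen_mem_and_subset hp
    obtain ⟨w, hw⟩ := (QCoh.bijective_tmLin hM hN hV).2 (AModX.res (CohB1.tensorMod M N) hVU z)
    refine ⟨V, hVU, hpV, ?_⟩
    rw [← hw]
    clear hw
    induction w using TensorProduct.induction_on with
    | zero => exact ⟨0, (AmpleVan.tmul_zero_left _).trans (map_zero (QCoh.tmLin M N V)).symm⟩
    | add w w' h1 h2 =>
      obtain ⟨a, ha⟩ := h1
      obtain ⟨a', ha'⟩ := h2
      exact ⟨a + a', ((AmpleVan.tmul_add_left a a' _).trans (congrArg₂ (· + ·) ha ha')).trans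
        (map_add (QCoh.tmLin M N V) w w').symm⟩
    | tmul m n =>
      obtain ⟨r, rfl⟩ := he.exists_coord hVU n
      exact ⟨r • m, (tmul_smul_left r m _).trans (tmul_smul_right r m _).symm⟩
  choose V hVU hpV a ha using hloc
  obtain ⟨t, ht, -⟩ := AModX.existsUnique_glue (M := M) (V := U) V hVU
    (fun p hp => ⟨⟨p, hp⟩, hpV ⟨p, hp⟩⟩) a fun p q => by
      refine hinj _ (inf_le_left.trans (hVU p)) _ _ ?_
      have h1 := congrArg (AModX.res (CohB1.tensorMod M N) (inf_le_left : V p ⊓ V q ≤ V p)) (ha p)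
      have h2 := congrArg (AModX.res (CohB1.tensorMod M N) (inf_le_right : V p ⊓ V q ≤ V q)) (ha q)
      rw [res_tmul, AModX.res_res, AModX.res_res] at h1 h2
      exact h1.trans h2.symm
  refine ⟨t, AModX.eq_of_locally _ _ fun p hp => ⟨V ⟨p, hp⟩, hVU _, hpV _, ?_⟩⟩
  show AModX.res _ _ (tmul t e) = _
  rw [res_tmul, ht ⟨p, hp⟩, ha ⟨p, hp⟩]

variable (X) in
/-- The unit section. -/
abbrev oneS (U : X.Opens) : Γ(Coh.structureModule X, U) := show Γ(X, U) from 1

theorem isIso_mulSec_one (hM : Coh.IsQCoh M) : IsIso (AmpleVan.mulSec (oneS X ⊤) M) := by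
  refine Scheme.Modules.Hom.isIso_iff_isIso_app.2 fun U => (ConcreteCategory.isIso_iff_bijective _).2 ?_
  exact bijective_tmul_frame hM QCoh.isQCoh_structureModule
    ((InvX.isFrame_one (X := X) ⊤).res (le_top : U ≤ ⊤))

variable (I : X.IdealSheafData)

/-- The image of `1` in `O/I`. -/
def qSec : Γ(ClSub.quotMod I, ⊤) := (ClSub.toSubscheme I).app ⊤ (oneS X ⊤)

lemma mulSec_one_comp (M : X.Modules) :
    AmpleVan.mulSec (oneS X ⊤) M ≫ (DCoh.tensorBi.obj M).map (ClSub.toSubscheme I) =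
      AmpleVan.mulSec (qSec I) M := by
  refine QCoh.hom_ext_app fun U t => ?_
  show ((DCoh.tensorBi.obj M).map (ClSub.toSubscheme I)).app U
    (tmul t (AModX.res (Coh.structureModule X) (le_top : U ≤ ⊤) (oneS X ⊤))) = tmul t _
  rw [map_tmul_right]
  exact congrArg (tmul t) (AModX.app_res _ _ _)

/-- `E ⊗ O → E ⊗ O/I` is surjective on global sections when `H¹(E ⊗ I) = 0`. -/
theorem surjective_mulSec_top {E : X.Modules} (hE : FlatMod.IsFinLocFree E)
    (h1 : Subsingleton (Coh.HH X (CohB1.tensorMod E (ClSub.idealMod I)) 1)) :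
    Function.Surjective ((AmpleVan.mulSec (qSec I) E).app ⊤) := by
  intro c
  have hS := CurveTensor.shortExact_tensor hE (ClSub.idealModι I) (ClSub.toSubscheme I)
    (kernel.condition _) (SurfInt.idealSeq_shortExact I)
  obtain ⟨z, hz⟩ := QCoh.app_top_surjective_of_HH_one hS h1 c
  haveI := isIso_mulSec_one (X := X) (QCoh.isQCoh_of_isFinLocFree hE)
  obtain ⟨a, ha⟩ := (ConcreteCategory.bijective_of_isIso
    ((AmpleVan.mulSec (oneS X ⊤) E).app ⊤)).2 z
  refine ⟨a, ?_⟩
  rw [← mulSec_one_comp]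
  exact (congrArg (((DCoh.tensorBi.obj E).map (ClSub.toSubscheme I)).app ⊤) ha).trans hz

/-- `E ⊗ L → (E ⊗ O/I) ⊗ (L ⊗ O/I)`. -/
def Φ (E L : X.Modules) :
    CohB1.tensorMod E L ⟶
      CohB1.tensorMod (CohB1.tensorMod E (ClSub.quotMod I)) (CohB1.tensorMod L (ClSub.quotMod I)) :=
  (AmpleVan.tw L).map (AmpleVan.mulSec (qSec I) E) ≫
    (DCoh.tensorBi.obj (CohB1.tensorMod E (ClSub.quotMod I))).map (AmpleVan.mulSec (qSec I) L)

lemma Φ_tmul (E L : X.Modules) {U : X.Opens} (a : Γ(E, U)) (b : Γ(L, U)) :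
    (Φ I E L).app U (tmul a b) = tmul ((AmpleVan.mulSec (qSec I) E).app U a) ((AmpleVan.mulSec (qSec I) L).app U b) := by
  show ((DCoh.tensorBi.obj _).map (AmpleVan.mulSec (qSec I) L)).app U
    (((AmpleVan.tw L).map (AmpleVan.mulSec (qSec I) E)).app U (tmul a b)) = _
  rw [AmpleVan.map_tmul_left, map_tmul_right]

section Local

variable {U : X.Opens} (hU : IsAffineOpen U)

include hU in
lemma exists_quot_equiv :
    ∃ φ : Γ(ClSub.quotMod I, U) →ₗ[Γ(X, U)] Γ(X, U) ⧸ I.ideal ⟨U, hU⟩,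
      φ (AModX.res (ClSub.quotMod I) (le_top : U ≤ ⊤) (qSec I)) = Ideal.Quotient.mk _ 1 ∧
      ∀ r ∈ I.ideal ⟨U, hU⟩, r • AModX.res (ClSub.quotMod I) (le_top : U ≤ ⊤) (qSec I) = 0 := by
  let q := AModX.res (ClSub.quotMod I) (le_top : U ≤ ⊤) (qSec I)
  let π : Γ(X, U) →ₗ[Γ(X, U)] Γ(ClSub.quotMod I, U) := LinearMap.toSpanSingleton _ _ q
  have hπ : ∀ r : Γ(X, U), π r = (I.subschemeι.app U).hom r := fun r => by
    have h1 : q = (ClSub.toSubscheme I).app U (oneS X U) := by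
      refine (AModX.app_res (ClSub.toSubscheme I) (le_top : U ≤ ⊤) (oneS X ⊤)).symm.trans (congrArg _ ?_)
      exact map_one (X.presheaf.map (homOfLE (le_top : U ≤ ⊤)).op).hom
    show r • q = _
    rw [h1, ← Scheme.Modules.Hom.app_smul]
    show (ClSub.toSubscheme I).app U (r * 1 : Γ(X, U)) = _
    rw [mul_one]
    rfl
  have hker : LinearMap.ker π = (I.ideal ⟨U, hU⟩ : Submodule Γ(X, U) Γ(X, U)) := by
    ext r
    rw [LinearMap.mem_ker, hπ, ← I.ker_subschemeι_app ⟨U, hU⟩]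
    rfl
  have hsurj : LinearMap.range π = ⊤ := LinearMap.range_eq_top.2 fun z => by
    obtain ⟨r, hr⟩ := I.subschemeι_app_surjective ⟨U, hU⟩ z
    exact ⟨r, (hπ r).trans hr⟩
  let e := (Submodule.quotEquivOfEq _ _ hker.symm).trans
    ((LinearMap.quotKerEquivRange π).trans (LinearEquiv.ofTop _ hsurj))
  refine ⟨e.symm.toLinearMap, ?_, fun r hr => ?_⟩
  · show e.symm q = _
    rw [LinearEquiv.symm_apply_eq]
    exact (one_smul Γ(X, U) q).symm
  · have : r ∈ LinearMap.ker π := hker.symm ▸ hr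
    exact this

include hU in
/-- If `a ⊗ e` dies on the divisor then `a` is divisible by its ideal. -/
lemma mem_smul_of_Φ_eq_zero {E L : X.Modules} (hE : Coh.IsQCoh E) (hL : Coh.IsQCoh L)
    {e : Γ(L, U)} (he : IsFrame e) (a : Γ(E, U)) (h : (Φ I E L).app U (tmul a e) = 0) :
    a ∈ I.ideal ⟨U, hU⟩ • (⊤ : Submodule Γ(X, U) Γ(E, U)) := by
  have hQ : Coh.IsQCoh (ClSub.quotMod I) :=
    QCoh.isQCoh_pushforward I.subschemeι QCoh.isQCoh_structureModule
  obtain ⟨φ, hφ, -⟩ := exists_quot_equiv I hU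
  let J := I.ideal ⟨U, hU⟩
  let q := AModX.res (ClSub.quotMod I) (le_top : U ≤ ⊤) (qSec I)
  let eE := LinearEquiv.ofBijective _ (QCoh.bijective_tmLin hE hQ hU)
  let eL := LinearEquiv.ofBijective _ (QCoh.bijective_tmLin hL hQ hU)
  let eT := LinearEquiv.ofBijective _ (QCoh.bijective_tmLin (KFlatLib.isQCoh_tensor hE hQ)
    (KFlatLib.isQCoh_tensor hL hQ) hU)
  have hb : Function.Bijective (LinearMap.toSpanSingleton Γ(X, U) Γ(L, U) e) := by
    have := he U le_rfl
    rw [AModX.res_self] at this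
    exact this
  let c := LinearEquiv.ofBijective _ hb
  let ψE : Γ((DCoh.tensorBi.obj E).obj (ClSub.quotMod I), U) →ₗ[Γ(X, U)]
      Γ(E, U) ⧸ J • (⊤ : Submodule Γ(X, U) Γ(E, U)) :=
    (TensorProduct.tensorQuotEquivQuotSMul Γ(E, U) J).toLinearMap ∘ₗ
      LinearMap.lTensor Γ(E, U) φ ∘ₗ eE.symm.toLinearMap
  let ψL : Γ((DCoh.tensorBi.obj L).obj (ClSub.quotMod I), U) →ₗ[Γ(X, U)] Γ(X, U) ⧸ J :=
    (TensorProduct.lid Γ(X, U) (Γ(X, U) ⧸ J)).toLinearMap ∘ₗ
      TensorProduct.map c.symm.toLinearMap φ ∘ₗ eL.symm.toLinearMap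
  have hψE : ψE (QCoh.tmS E (ClSub.quotMod I) a q) = Submodule.Quotient.mk a := by
    have h1 : eE.symm (QCoh.tmS E (ClSub.quotMod I) a q) = a ⊗ₜ q :=
      eE.symm_apply_eq.2 rfl
    show TensorProduct.tensorQuotEquivQuotSMul Γ(E, U) J
      (LinearMap.lTensor Γ(E, U) φ (eE.symm (QCoh.tmS E (ClSub.quotMod I) a q))) = _
    rw [h1, LinearMap.lTensor_tmul, hφ, TensorProduct.tensorQuotEquivQuotSMul_tmul_mk, one_smul]
  have hψL : ψL (QCoh.tmS L (ClSub.quotMod I) e q) = Ideal.Quotient.mk J 1 := by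
    have h1 : eL.symm (QCoh.tmS L (ClSub.quotMod I) e q) = e ⊗ₜ q := eL.symm_apply_eq.2 rfl
    have h2 : c.symm e = 1 := c.symm_apply_eq.2 (one_smul Γ(X, U) e).symm
    show TensorProduct.lid Γ(X, U) (Γ(X, U) ⧸ J)
      (TensorProduct.map c.symm.toLinearMap φ (eL.symm (QCoh.tmS L (ClSub.quotMod I) e q))) = _
    rw [h1, TensorProduct.map_tmul, hφ, TensorProduct.lid_tmul]
    show c.symm e • _ = _
    rw [h2, one_smul]
  have h0 : eT (QCoh.tmS E (ClSub.quotMod I) a q ⊗ₜ QCoh.tmS L (ClSub.quotMod I) e q) = 0 := by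
    rw [← h, Φ_tmul]
    rfl
  have h3 := eT.map_eq_zero_iff.1 h0
  let μ : (Γ(E, U) ⧸ J • (⊤ : Submodule Γ(X, U) Γ(E, U))) ⊗[Γ(X, U)] (Γ(X, U) ⧸ J) →ₗ[Γ(X, U)]
      Γ(E, U) ⧸ J • (⊤ : Submodule Γ(X, U) Γ(E, U)) :=
    TensorProduct.lift (Submodule.liftQ _ (LinearMap.lsmul Γ(X, U) _) fun r hr => by
      refine LinearMap.mem_ker.2 (LinearMap.ext fun m => ?_)
      obtain ⟨m, rfl⟩ := Submodule.Quotient.mk_surjective _ m
      exact (Submodule.Quotient.mk_eq_zero _).2 (Submodule.smul_mem_smul hr trivial)).flip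
  have h4 := congrArg (μ ∘ₗ TensorProduct.map ψE ψL) h3
  rw [map_zero, LinearMap.comp_apply, TensorProduct.map_tmul, hψE, hψL] at h4
  have h5 : μ (Submodule.Quotient.mk a ⊗ₜ Ideal.Quotient.mk J 1) = Submodule.Quotient.mk a :=
    one_smul Γ(X, U) (Submodule.Quotient.mk a : Γ(E, U) ⧸ J • (⊤ : Submodule Γ(X, U) Γ(E, U)))
  rw [h5] at h4
  exact (Submodule.Quotient.mk_eq_zero _).1 h4

end Local

/-- The multiplication map on global sections. -/
abbrev mu (M N : X.Modules) :=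
  (toSheafify (Opens.grothendieckTopology X) (CohB1.tensorPre M N).presheaf).app (op (⊤ : X.Opens))

lemma mem_range_tmul {M N : X.Modules} (a : Γ(M, ⊤)) (b : Γ(N, ⊤)) :
    ∃ t, mu M N t = tmul a b := ⟨a ⊗ₜ b, rfl⟩

theorem surjective_mul_of_restrict
    (hreg : Subsingleton (Coh.HH X (Coh.structureModule X) 1))
    {E : X.Modules} (hE : FlatMod.IsFinLocFree E)
    {L : X.Modules} (hLi : PicF.IsInvertible L) (hLI : ClSub.IsInverseOf L (ClSub.idealMod I))
    (h1 : Subsingleton (Coh.HH X (CohB1.tensorMod E (ClSub.idealMod I)) 1))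
    (hD : Function.Surjective (mu (CohB1.tensorMod E (ClSub.quotMod I)) (CohB1.tensorMod L (ClSub.quotMod I)))) :
    Function.Surjective (mu E L) := by
  obtain ⟨φ⟩ := hLI
  have hLf := H23.PullPush.isFinLocFree_of_isInvertible hLi
  have hLq := QCoh.isQCoh_of_isFinLocFree hLf
  have hEq := QCoh.isQCoh_of_isFinLocFree hE
  have hL1 : Subsingleton (Coh.HH X (CohB1.tensorMod L (ClSub.idealMod I)) 1) := by
    exact QCoh.subsingleton_HH_of_iso φ.symm 1 hreg
  have sE := surjective_mulSec_top I hE h1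
  have sL := surjective_mulSec_top I hLf hL1
  -- everything on the divisor comes from `X`
  have hlift : ∀ y, ∃ t, (Φ I E L).app ⊤ (mu E L t) =
      mu (CohB1.tensorMod E (ClSub.quotMod I)) (CohB1.tensorMod L (ClSub.quotMod I)) y := by
    intro y
    induction y using TensorProduct.induction_on with
    | zero => exact ⟨0, by simp⟩
    | add y y' hy hy' =>
      obtain ⟨t, ht⟩ := hy
      obtain ⟨t', ht'⟩ := hy'
      exact ⟨t + t', by rw [map_add, map_add, map_add, ht, ht']⟩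
    | tmul a b =>
      obtain ⟨α, rfl⟩ := sE a
      obtain ⟨β, rfl⟩ := sL b
      exact ⟨α ⊗ₜ β, Φ_tmul I E L α β⟩
  intro z
  obtain ⟨y, hy⟩ := hD ((Φ I E L).app ⊤ z)
  obtain ⟨t, ht⟩ := hlift y
  let w : Γ(CohB1.tensorMod E L, ⊤) := z - mu E L t
  have hw : (Φ I E L).app ⊤ w = 0 := by
    show (Φ I E L).app ⊤ (z - mu E L t) = 0
    rw [map_sub, ht, hy, sub_self]
  -- the kernel on the divisor
  let Ψ := (DCoh.tensorBi.obj E).map (AmpleVan.mulSec (qSec I) L)
  have hΨ : Ψ.app ⊤ w = 0 := by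
    refine AModX.eq_of_locally _ _ fun p _ => ?_
    obtain ⟨U₀, hpU₀, e₀, he₀⟩ := InvX.exists_frame hLi p
    obtain ⟨U, hU, hpU, hle⟩ := exists_isAffineOpen_mem_and_subset hpU₀
    refine ⟨U, le_top, hpU, ?_⟩
    rw [map_zero, ← AModX.app_res]
    have he := he₀.res hle
    obtain ⟨a, ha⟩ := (bijective_tmul_frame hEq hLq he).2
      (AModX.res (CohB1.tensorMod E L) (le_top : U ≤ ⊤) w)
    have hΦ : (Φ I E L).app U (tmul a (AModX.res L hle e₀)) = 0 := by
      rw [show tmul a (AModX.res L hle e₀) = _ from ha, AModX.app_res, hw, map_zero]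
    have hmem := mem_smul_of_Φ_eq_zero I hU hEq hLq he a hΦ
    show Ψ.app U (AModX.res (CohB1.tensorMod E L) _ w) = 0
    rw [← ha]
    show ((DCoh.tensorBi.obj E).map (AmpleVan.mulSec (qSec I) L)).app U (tmul a _) = 0
    rw [map_tmul_right]
    clear ha hΦ
    induction hmem using Submodule.smul_induction_on' with
    | smul r hr m _ =>
      rw [tmul_smul_left, ← tmul_smul_right, AmpleVan.mulSec_app, ← tmul_smul_right,
        (exists_quot_equiv I hU).choose_spec.2 r hr, tmul_zero_right, tmul_zero_right]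
    | add m _ m' _ hm hm' => rw [AmpleVan.tmul_add_left, hm, hm', add_zero]
  haveI := isIso_mulSec_one (X := X) hLq
  let j := AmpleVan.mulSec (oneS X ⊤) L
  let ι := (DCoh.tensorBi.obj L).map (ClSub.idealModι I) ≫ inv j
  have hSL := CurveTensor.shortExact_tensor hLf (ClSub.idealModι I) (ClSub.toSubscheme I)
    (kernel.condition _) (SurfInt.idealSeq_shortExact I)
  have hj : inv j ≫ AmpleVan.mulSec (qSec I) L = (DCoh.tensorBi.obj L).map (ClSub.toSubscheme I) := by
    rw [IsIso.inv_comp_eq]; exact (mulSec_one_comp I L).symm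
  have hSL_zero : (DCoh.tensorBi.obj L).map (ClSub.idealModι I) ≫
      (DCoh.tensorBi.obj L).map (ClSub.toSubscheme I) = 0 := by
    rw [← Functor.map_comp, show ClSub.idealModι I ≫ ClSub.toSubscheme I = 0 from kernel.condition _, Functor.map_zero]
  have hw0 : ι ≫ AmpleVan.mulSec (qSec I) L = 0 := by
    rw [Category.assoc, hj, ← Functor.map_comp,
      show ClSub.idealModι I ≫ ClSub.toSubscheme I = 0 from kernel.condition _, Functor.map_zero]
  have hS : (ShortComplex.mk ι (AmpleVan.mulSec (qSec I) L) hw0).ShortExact :=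
    ShortComplex.shortExact_of_iso
      (ShortComplex.isoMk (S₁ := ShortComplex.mk _ _ hSL_zero) (S₂ := ShortComplex.mk ι _ hw0)
        (Iso.refl _) (asIso j).symm (Iso.refl _) (by simp [ι]) (by simpa using hj)) hSL
  have hSE := CurveTensor.shortExact_tensor hE _ _ hw0 hS
  obtain ⟨v, hv⟩ : ∃ v, ((DCoh.tensorBi.obj E).map ι).app ⊤ v = w :=
    TopCat.Sheaf.sections_exact_of_left_exact (U := (⊤ : X.Opens)) (QCoh.toAb_shortExact hSE).exact
      (QCoh.toAb_shortExact hSE).mono_f w hΨ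
  obtain ⟨e, he⟩ := (bijective_tmul_frame hEq QCoh.isQCoh_structureModule (InvX.isFrame_one (X := X) ⊤)).2
    (((DCoh.tensorBi.obj E).map φ.hom).app ⊤ v)
  have hv' : v = tmul e (φ.inv.app ⊤ (oneS X ⊤)) := by
    have h2 := congrArg (((DCoh.tensorBi.obj E).map φ.inv).app ⊤) he
    rw [show ((DCoh.tensorBi.obj E).map φ.inv).app ⊤ (((DCoh.tensorBi.obj E).map φ.hom).app ⊤ v) =
      ((DCoh.tensorBi.obj E).map φ.hom ≫ (DCoh.tensorBi.obj E).map φ.inv).app ⊤ v from rfl,
      ← Functor.map_comp, Iso.hom_inv_id, CategoryTheory.Functor.map_id] at h2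
    refine Eq.trans h2.symm ?_
    exact map_tmul_right φ.inv e _
  rw [hv', map_tmul_right] at hv
  obtain ⟨t', ht'⟩ := mem_range_tmul e (ι.app ⊤ (φ.inv.app ⊤ (oneS X ⊤)))
  refine ⟨t + t', ?_⟩
  rw [map_add]
  rw [ht']
  rw [hv]
  exact add_sub_cancel _ _

end Groth.Agent.H75.MulR
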