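import Groth.Agent.H75.Sections
import Groth.Agent.Lib.InvEnd
import Groth.Agent.AmpleX.Generated
import Groth.Prelude.Def_NumR
import Mathlib.Analysis.Convex.Basic
import Mathlib.Topology.Algebra.Module.ModuleTopology
import Mathlib.LinearAlgebra.FreeModule.Basic

/-!
# The ample, effective and big cones
-/

universe u

open CategoryTheory CategoryTheory.Limits AlgebraicGeometry TopologicalSpace Opposite
open Groth.Agent.H23.PicMul

set_option backward.isDefEq.respectTransparency false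
set_option backward.isDefEq.respectTransparency.types false
set_option linter.style.haveILetI false

noncomputable section

namespace Groth.Agent.H75.Cones

open Groth.Agent

variable {X : Scheme.{u}}

/-- Bigness, in the form of the statements. -/
abbrev IsBig (L : X.Modules) : Prop :=
  ∀ A : X.Modules, CohB1.IsAmple A → ∃ (m : ℕ) (φ : A ⟶ CohB1.tensorPow L m), 0 < m ∧ Mono φ

theorem mono_congr {M M' N N' : X.Modules} (hM : PicF.cl M = PicF.cl M') (hN : PicF.cl N = PicF.cl N')
    (h : ∃ φ : M ⟶ N, Mono φ) : ∃ φ : M' ⟶ N', Mono φ := by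
  obtain ⟨φ, hφ⟩ := h
  obtain ⟨e⟩ := cl_eq_iff.1 hM
  obtain ⟨f⟩ := cl_eq_iff.1 hN
  exact ⟨e.inv ≫ φ ≫ f.hom, inferInstance⟩

/-- Tensoring with a module having a nonzero section gives a monomorphism. -/
theorem exists_mono_of_section [IsIntegral X] {L E : X.Modules} (hL : PicF.IsInvertible L)
    (hE : PicF.IsInvertible E) (h : ∃ s : Coh.structureModule X ⟶ E, s ≠ 0) :
    ∃ φ : L ⟶ CohB1.tensorMod L E, Mono φ := by
  obtain ⟨s, hs⟩ := h
  haveI := InvEnd.mono_of_ne_zero (PicLoc.isInvertible_structureModule X) hE s hs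
  refine mono_congr ?_ ?_ (exists_mono_tensor hL s)
  · rw [cl_tensor, ← H23.PicMul.one_def, one_mul]
  · rw [cl_tensor, cl_tensor, mul_comm]

theorem isBig_of_isAmple [IsIntegral X] [CompactSpace X] [X.IsSeparated] {A : X.Modules}
    (hA : CohB1.IsAmple A) : IsBig A := fun B hB => by
  obtain ⟨D, hD, ⟨e⟩⟩ := H23.PicInv.exists_inverse hB.1
  have hBD : PicF.cl B * PicF.cl D = 1 := by
    rw [← cl_tensor, H23.PicMul.one_def]; exact cl_eq_iff.2 ⟨e⟩
  obtain ⟨n, hn, h⟩ := exists_ne_zero_twist hA hD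
  obtain ⟨φ, hφ⟩ := mono_congr (M' := B) (N' := CohB1.tensorPow A n) rfl
    (by rw [cl_tensor, cl_tensor, mul_left_comm, hBD, mul_one])
    (exists_mono_of_section hB.1 (InvX.isInvertible_tensorMod (InvX.isInvertible_tensorPow hA.1 n) hD) (h n le_rfl))
  exact ⟨n, φ, hn, hφ⟩

theorem isBig_tensor [IsIntegral X] {L E : X.Modules} (hL : PicF.IsInvertible L) (hE : PicF.IsInvertible E)
    (hbig : IsBig L) (h : ∃ s : Coh.structureModule X ⟶ E, s ≠ 0) : IsBig (CohB1.tensorMod L E) := fun A hA => by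
  obtain ⟨m, φ, hm, hφ⟩ := hbig A hA
  obtain ⟨ψ, hψ⟩ := exists_mono_of_section (InvX.isInvertible_tensorPow hL m)
    (InvX.isInvertible_tensorPow hE m) (exists_ne_zero_tensorPow hE h m)
  haveI := hφ
  haveI := hψ
  obtain ⟨χ, hχ⟩ := mono_congr (M' := A) (N' := CohB1.tensorPow (CohB1.tensorMod L E) m) rfl
    (by rw [cl_tensor, cl_tensorPow, cl_tensorPow, cl_tensorPow, cl_tensor, mul_pow]) ⟨φ ≫ ψ, inferInstance⟩
  exact ⟨m, χ, hm, hχ⟩

/-- A big module has a power which is an ample module plus an effective one. -/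
theorem exists_decomp [IsIntegral X] {H L : X.Modules} (hH : CohB1.IsAmple H) (hL : PicF.IsInvertible L)
    (hbig : IsBig L) : ∃ (m : ℕ) (E : X.Modules), 0 < m ∧ PicF.IsInvertible E ∧
      (∃ s : Coh.structureModule X ⟶ E, s ≠ 0) ∧
      PicF.cl (CohB1.tensorPow L m) = PicF.cl (CohB1.tensorMod H E) := by
  obtain ⟨m, φ, hm, hφ⟩ := hbig H hH
  obtain ⟨D, hD, ⟨e⟩⟩ := H23.PicInv.exists_inverse hH.1
  have hHD : PicF.cl H * PicF.cl D = 1 := by
    rw [← cl_tensor, H23.PicMul.one_def]; exact cl_eq_iff.2 ⟨e⟩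
  haveI := hφ
  obtain ⟨ψ, hψ⟩ := exists_mono_tensor hD φ
  refine ⟨m, CohB1.tensorMod (CohB1.tensorPow L m) D, hm,
    InvX.isInvertible_tensorMod (InvX.isInvertible_tensorPow hL m) hD,
    @exists_ne_zero_of_mono _ _ _ ψ hψ (exists_ne_zero_of_cl (cl_eq_iff.2 ⟨e.symm⟩) exists_ne_zero_one), ?_⟩
  rw [cl_tensor, cl_tensor, mul_left_comm, hHD, mul_one]

/-- A big module has a power with a nonzero section. -/
theorem exists_section_pow [IsIntegral X] [CompactSpace X] [X.IsSeparated] {H L : X.Modules}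
    (hH : CohB1.IsAmple H) (hL : PicF.IsInvertible L)
    (hbig : IsBig L) : ∃ m : ℕ, 0 < m ∧ ∃ s : Coh.structureModule X ⟶ CohB1.tensorPow L m, s ≠ 0 := by
  obtain ⟨n, hn, h⟩ := exists_ne_zero_twist hH (InvX.isInvertible_structureModule (X := X))
  obtain ⟨m, φ, hm, hφ⟩ := hbig _ (AmpleX.isAmple_tensorPow hH hn)
  haveI := hφ
  exact ⟨m, hm, exists_ne_zero_of_mono φ (exists_ne_zero_of_cl (cl_eq_iff.2 (H23.PicMul.unit _)) (h n le_rfl))⟩

variable (k : Type u) [Field k] [X.Over (Spec (CommRingCat.of k))] [PicGrp.Law X]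

theorem clR_mul {L M N : X.Modules} (hL : PicF.IsInvertible L) (hM : PicF.IsInvertible M)
    (hN : PicF.IsInvertible N) (h : PicF.cl N = PicF.cl (CohB1.tensorMod L M)) :
    NumR.clR k X N hN = NumR.clR k X L hL + NumR.clR k X M hM := by
  have h1 : PicGrp.cls N hN = PicGrp.cls L hL * PicGrp.cls M hM := by
    apply Subtype.ext
    rw [PicGrp.cls_mul_cls_val, PicGrp.cls_val]
    exact h
  simp only [NumR.clR_def, NumR.cl, h1, ofMul_mul, map_add]

theorem clR_one (hO : PicF.IsInvertible (Coh.structureModule X)) :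
    NumR.clR k X (Coh.structureModule X) hO = 0 := by
  simp only [NumR.clR_def, NumR.cl, PicGrp.cls_structureModule_eq_one, ofMul_one, map_zero]

theorem clR_tensorPow {L : X.Modules} (hL : PicF.IsInvertible L) (n : ℕ) :
    NumR.clR k X (CohB1.tensorPow L n) (InvX.isInvertible_tensorPow hL n) = (n : ℝ) • NumR.clR k X L hL := by
  induction n with
  | zero => rw [Nat.cast_zero, zero_smul]; exact clR_one k _
  | succ n ih =>
    rw [Nat.cast_succ, add_smul, one_smul, ← ih]
    exact clR_mul k (InvX.isInvertible_tensorPow hL n) hL _ rfl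

variable (X) in
/-- The big cone. -/
abbrev bigCone : ConvexCone ℝ (NumR.N1R k X) := NumR.coneOf k X IsBig

theorem mem_coneOf {P : X.Modules → Prop} {L : X.Modules} (hL : PicF.IsInvertible L) (hP : P L) :
    NumR.clR k X L hL ∈ NumR.coneOf k X P :=
  ConvexCone.subset_hull ⟨L, hL, hP, rfl⟩

theorem ample_le_big [IsIntegral X] [CompactSpace X] [X.IsSeparated] :
    NumR.ampleCone k X ≤ bigCone X k := by
  refine ConvexCone.hull_min ?_
  rintro _ ⟨L, hL, hA, rfl⟩
  exact mem_coneOf k hL (isBig_of_isAmple hA)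

theorem big_le_eff [IsIntegral X] [CompactSpace X] [X.IsSeparated] {H : X.Modules} (hH : CohB1.IsAmple H) :
    bigCone X k ≤ NumR.effCone k X := by
  refine ConvexCone.hull_min ?_
  rintro _ ⟨L, hL, hb, rfl⟩
  obtain ⟨m, hm, hs⟩ := exists_section_pow hH hL hb
  have h1 := mem_coneOf k (P := NumR.HasSection) (InvX.isInvertible_tensorPow hL m) hs
  rw [clR_tensorPow k hL] at h1
  have h2 := (NumR.effCone k X).smul_mem (inv_pos.2 (Nat.cast_pos.2 hm)) h1
  rwa [inv_smul_smul₀ (Nat.cast_ne_zero.2 hm.ne')] at h2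

theorem add_mem_big [IsIntegral X] {b e : NumR.N1R k X} (hb : b ∈ bigCone X k)
    (he : e ∈ NumR.effCone k X) : b + e ∈ bigCone X k := by
  let C : ConvexCone ℝ (NumR.N1R k X) :=
    { carrier := {e | ∀ b ∈ bigCone X k, b + e ∈ bigCone X k}
      smul_mem' := fun c hc e he b hb => by
        have := (bigCone X k).smul_mem hc (he _ ((bigCone X k).smul_mem (inv_pos.2 hc) hb))
        rwa [smul_add, smul_inv_smul₀ hc.ne'] at this
      add_mem' := fun e₁ h₁ e₂ h₂ b hb => by
        rw [← add_assoc]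
        exact h₂ _ (h₁ b hb) }
  refine ConvexCone.hull_min (C := C) ?_ he b hb
  rintro _ ⟨E, hE, hs, rfl⟩ b hb
  suffices H : ∀ s : ℝ, 0 < s → b + s • NumR.clR k X E hE ∈ bigCone X k by simpa using H 1 one_pos
  let D : ConvexCone ℝ (NumR.N1R k X) :=
    { carrier := {b | b ∈ bigCone X k ∧ ∀ s : ℝ, 0 < s → b + s • NumR.clR k X E hE ∈ bigCone X k}
      smul_mem' := fun c hc b hb => ⟨(bigCone X k).smul_mem hc hb.1, fun s hs => by
        have := (bigCone X k).smul_mem hc (hb.2 (c⁻¹ * s) (by positivity))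
        rwa [smul_add, smul_smul, mul_inv_cancel_left₀ hc.ne'] at this⟩
      add_mem' := fun b₁ h₁ b₂ h₂ => ⟨(bigCone X k).add_mem h₁.1 h₂.1, fun s hs => by
        rw [add_right_comm]
        exact (bigCone X k).add_mem (h₁.2 s hs) h₂.1⟩ }
  refine (ConvexCone.hull_min (C := D) ?_ hb).2
  rintro _ ⟨L, hL, hbL, rfl⟩
  refine ⟨mem_coneOf k hL hbL, fun s hs' => ?_⟩
  obtain ⟨N, hN⟩ := exists_nat_gt s
  have hN0 : (0 : ℝ) < N := hs'.trans hN
  have hEN := InvX.isInvertible_tensorPow hE N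
  have h1 := mem_coneOf k (P := IsBig) (InvX.isInvertible_tensorMod hL hEN)
    (isBig_tensor hL hEN hbL (exists_ne_zero_tensorPow hE hs N))
  rw [clR_mul k hL hEN _ rfl, clR_tensorPow k hE] at h1
  have h2 := (bigCone X k).add_mem ((bigCone X k).smul_mem (sub_pos.2 ((div_lt_one hN0).2 hN)) (mem_coneOf k hL hbL))
    ((bigCone X k).smul_mem (div_pos hs' hN0) h1)
  rwa [smul_add, smul_smul, div_mul_cancel₀ _ hN0.ne', ← add_assoc, ← add_smul, sub_add_cancel, one_smul] at h2

theorem mem_big_iff [IsIntegral X] [CompactSpace X] [X.IsSeparated] {H : X.Modules} (hH : CohB1.IsAmple H)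
    (x : NumR.N1R k X) :
    x ∈ bigCone X k ↔ ∃ a ∈ NumR.ampleCone k X, x - a ∈ NumR.effCone k X := by
  constructor
  · intro hx
    let C : ConvexCone ℝ (NumR.N1R k X) :=
      { carrier := {x | ∃ a ∈ NumR.ampleCone k X, x - a ∈ NumR.effCone k X}
        smul_mem' := fun c hc x ⟨a, ha, he⟩ => ⟨c • a, (NumR.ampleCone k X).smul_mem hc ha, by
          rw [← smul_sub]; exact (NumR.effCone k X).smul_mem hc he⟩
        add_mem' := fun x ⟨a, ha, he⟩ y ⟨b, hb, hf⟩ => ⟨a + b, (NumR.ampleCone k X).add_mem ha hb, by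
          rw [add_sub_add_comm]; exact (NumR.effCone k X).add_mem he hf⟩ }
    refine ConvexCone.hull_min (C := C) ?_ hx
    rintro _ ⟨L, hL, hb, rfl⟩
    obtain ⟨m, E, hm, hE, hs, hcl⟩ := exists_decomp hH hL hb
    have hm' : (0 : ℝ) < m := Nat.cast_pos.2 hm
    refine ⟨(m : ℝ)⁻¹ • NumR.clR k X H hH.1, (NumR.ampleCone k X).smul_mem (inv_pos.2 hm') (mem_coneOf k hH.1 hH), ?_⟩
    have h1 := clR_mul k hH.1 hE (InvX.isInvertible_tensorPow hL m) hcl
    rw [clR_tensorPow k hL] at h1
    have h2 : NumR.clR k X L hL - (m : ℝ)⁻¹ • NumR.clR k X H hH.1 = (m : ℝ)⁻¹ • NumR.clR k X E hE := by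
      rw [sub_eq_iff_eq_add, ← smul_add, add_comm, ← h1, inv_smul_smul₀ hm'.ne']
    rw [h2]
    exact (NumR.effCone k X).smul_mem (inv_pos.2 hm') (mem_coneOf k hE hs)
  · rintro ⟨a, ha, he⟩
    have := add_mem_big k (ample_le_big k ha) he
    rwa [add_sub_cancel] at this

section Topology

variable [IsIntegral X] [CompactSpace X] [X.IsSeparated] [Module.Finite ℝ (NumR.N1R k X)]

/-- An ample class stays in the ample cone after a small move in any direction. -/
theorem exists_eps_ample {a : NumR.N1R k X} (ha : a ∈ NumR.ampleCone k X) {M : X.Modules}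
    (hM : PicF.IsInvertible M) :
    ∃ δ : ℝ, 0 < δ ∧ ∀ t : ℝ, |t| < δ → a + t • NumR.clR k X M hM ∈ NumR.ampleCone k X := by
  let y := NumR.clR k X M hM
  let C : ConvexCone ℝ (NumR.N1R k X) :=
    { carrier := {a | a ∈ NumR.ampleCone k X ∧ ∃ δ : ℝ, 0 < δ ∧ ∀ t : ℝ, |t| < δ → a + t • y ∈ NumR.ampleCone k X}
      smul_mem' := fun c hc a ⟨ha, δ, hδ, h⟩ => ⟨(NumR.ampleCone k X).smul_mem hc ha, c * δ, mul_pos hc hδ,
        fun t ht => by
          have := (NumR.ampleCone k X).smul_mem hc (h (c⁻¹ * t) (by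
            rw [abs_mul, abs_inv, abs_of_pos hc, ← div_eq_inv_mul, div_lt_iff₀ hc, mul_comm δ]; exact ht))
          rwa [smul_add, smul_smul, mul_inv_cancel_left₀ hc.ne'] at this⟩
      add_mem' := fun a ⟨ha, δ, hδ, h⟩ b ⟨hb, _⟩ => ⟨(NumR.ampleCone k X).add_mem ha hb, δ, hδ, fun t ht => by
        rw [add_right_comm]
        exact (NumR.ampleCone k X).add_mem (h t ht) hb⟩ }
  refine (ConvexCone.hull_min (C := C) ?_ ha).2
  rintro _ ⟨A, hA, hamp, rfl⟩
  refine ⟨mem_coneOf k hA hamp, ?_⟩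
  obtain ⟨D, hD, ⟨e⟩⟩ := H23.PicInv.exists_inverse hM
  have hy : NumR.clR k X D hD = -y := by
    rw [eq_neg_iff_add_eq_zero, add_comm, ← clR_one k (InvX.isInvertible_structureModule (X := X))]
    exact (clR_mul k hM hD _ (cl_eq_iff.2 ⟨e.symm⟩)).symm
  obtain ⟨n₁, hn₁, h₁⟩ := AmpleX.eventually_ample_tensor hamp hM
  obtain ⟨n₂, -, h₂⟩ := AmpleX.eventually_ample_tensor hamp hD
  let n := n₁ + n₂
  have hn : (0 : ℝ) < n := Nat.cast_pos.2 (by omega)
  have h1 := mem_coneOf k (P := CohB1.IsAmple) (InvX.isInvertible_tensorMod (InvX.isInvertible_tensorPow hA n) hM)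
    (h₁ n (by omega)).1
  have h2 := mem_coneOf k (P := CohB1.IsAmple) (InvX.isInvertible_tensorMod (InvX.isInvertible_tensorPow hA n) hD)
    (h₂ n (by omega)).1
  rw [clR_mul k (InvX.isInvertible_tensorPow hA n) hM _ rfl, clR_tensorPow k hA] at h1
  rw [clR_mul k (InvX.isInvertible_tensorPow hA n) hD _ rfl, clR_tensorPow k hA, hy] at h2
  refine ⟨(n : ℝ)⁻¹, inv_pos.2 hn, fun t ht => ?_⟩
  have htn : |t * n| < 1 := by
    rw [abs_mul, abs_of_pos hn, ← lt_div_iff₀ hn, one_div]; exact ht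
  obtain ⟨hlo, hhi⟩ := abs_lt.1 htn
  have h3 := (NumR.ampleCone k X).smul_mem (inv_pos.2 hn) ((NumR.ampleCone k X).add_mem
    ((NumR.ampleCone k X).smul_mem (show (0 : ℝ) < (1 + t * n) / 2 by linarith) h1)
    ((NumR.ampleCone k X).smul_mem (show (0 : ℝ) < (1 - t * n) / 2 by linarith) h2))
  have h4 : (n : ℝ)⁻¹ • (((1 + t * n) / 2) • ((n : ℝ) • NumR.clR k X A hA + y) +
      ((1 - t * n) / 2) • ((n : ℝ) • NumR.clR k X A hA + -y)) = NumR.clR k X A hA + t • y := by
    rw [inv_smul_eq_iff₀ hn.ne']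
    module
  exact h4 ▸ h3

theorem ample_mem_nhds {a : NumR.N1R k X} (ha : a ∈ NumR.ampleCone k X) :
    (NumR.ampleCone k X : Set (NumR.N1R k X)) ∈ nhds a := by
  let C := NumR.ampleCone k X
  let b := Module.finBasis ℝ (NumR.N1R k X)
  let d := Module.finrank ℝ (NumR.N1R k X)
  have hdir : ∀ y : NumR.N1R k X, ∃ δ : ℝ, 0 < δ ∧ ∀ t : ℝ, |t| < δ → a + t • y ∈ C := by
    have hspan := NumR.span_clR (k := k) (X := X)
    intro y
    have hy : y ∈ Submodule.span ℝ {x : NumR.N1R k X | ∃ (L : X.Modules) (hL : PicF.IsInvertible L),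
        x = NumR.clR k X L hL} := hspan ▸ trivial
    induction hy using Submodule.span_induction with
    | mem y hy =>
      obtain ⟨M, hM, rfl⟩ := hy
      exact exists_eps_ample k ha hM
    | zero => exact ⟨1, one_pos, fun t _ => by rw [smul_zero, add_zero]; exact ha⟩
    | add y z _ _ hy hz =>
      obtain ⟨δ, hδ, h⟩ := hy
      obtain ⟨δ', hδ', h'⟩ := hz
      refine ⟨min δ δ' / 2, by positivity, fun t ht => ?_⟩
      have h2 : |2 * t| < min δ δ' := by rw [abs_mul, abs_two]; linarith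
      have := C.smul_mem (show (0 : ℝ) < 1 / 2 by norm_num)
        (C.add_mem (h _ (lt_min_iff.1 h2).1) (h' _ (lt_min_iff.1 h2).2))
      convert this using 1
      module
    | smul c y _ hy =>
      obtain ⟨δ, hδ, h⟩ := hy
      refine ⟨δ / (|c| + 1), by positivity, fun t ht => ?_⟩
      rw [smul_smul]
      refine h _ ?_
      rw [abs_mul]
      rw [lt_div_iff₀ (by positivity)] at ht
      nlinarith [abs_nonneg t, abs_nonneg c]
  choose δ hδ hδ' using fun i => hdir (b i)
  let O : Set (NumR.N1R k X) := {y | ∀ i, |b.repr (y - a) i| * d < δ i}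
  have hO : IsOpen O := by
    simp only [O, Set.setOf_forall]
    refine isOpen_iInter_of_finite fun i => ?_
    have hc : Continuous fun y : NumR.N1R k X => b.repr y i := IsModuleTopology.continuous_of_linearMap (b.coord i)
    have hc' : Continuous fun y : NumR.N1R k X => |b.repr (y - a) i| * (d : ℝ) := by
      have : (fun y : NumR.N1R k X => |b.repr (y - a) i| * (d : ℝ)) =
          fun y => |b.repr y i - b.repr a i| * (d : ℝ) := by
        funext y; rw [map_sub, Finsupp.sub_apply]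
      rw [this]
      fun_prop
    exact isOpen_lt hc' continuous_const
  refine Filter.mem_of_superset (hO.mem_nhds fun i => by simp [hδ i]) fun y hy => ?_
  rcases Nat.eq_zero_or_pos d with hd | hd
  · haveI := Module.finrank_zero_iff.1 (show Module.finrank ℝ (NumR.N1R k X) = 0 from hd)
    rwa [Subsingleton.elim y a]
  · have hd' : (0 : ℝ) < d := Nat.cast_pos.2 hd
    have h1 : ∀ i, a + (b.repr (y - a) i * d) • b i ∈ C := fun i =>
      hδ' i _ (by rw [abs_mul, abs_of_pos hd']; exact hy i)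
    have h2 : ∑ i, (d : ℝ)⁻¹ • (a + (b.repr (y - a) i * d) • b i) = y := by
      have hs : ∀ i, (d : ℝ)⁻¹ • (a + (b.repr (y - a) i * d) • b i) =
          (d : ℝ)⁻¹ • a + b.repr (y - a) i • b i := fun i => by
        rw [smul_add, smul_smul, mul_comm _ (d : ℝ), inv_mul_cancel_left₀ hd'.ne']
      simp only [hs, Finset.sum_add_distrib, b.sum_repr, Finset.sum_const, Finset.card_univ, Fintype.card_fin]
      rw [← Nat.cast_smul_eq_nsmul ℝ, smul_smul, mul_inv_cancel₀ hd'.ne', one_smul, add_sub_cancel]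
    have hC : Convex ℝ (C : Set (NumR.N1R k X)) := C.convex
    have := hC.sum_mem (t := Finset.univ) (w := fun _ : Fin d => (d : ℝ)⁻¹)
      (z := fun i => a + (b.repr (y - a) i * d) • b i) (fun _ _ => by positivity)
      (by simp [mul_inv_cancel₀ hd'.ne']) (fun i _ => h1 i)
    exact h2 ▸ this

theorem isOpen_big {H : X.Modules} (hH : CohB1.IsAmple H) :
    IsOpen (bigCone X k : Set (NumR.N1R k X)) := by
  refine isOpen_iff_mem_nhds.2 fun x hx => ?_
  obtain ⟨a, ha, he⟩ := (mem_big_iff k hH x).1 hx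
  have hc : Continuous fun y : NumR.N1R k X => y + -(x - a) := continuous_id.add continuous_const
  refine Filter.mem_of_superset (hc.continuousAt.preimage_mem_nhds (t := (NumR.ampleCone k X : Set (NumR.N1R k X)))
    (ample_mem_nhds k (by rwa [neg_sub, add_sub_cancel]))) fun y hy => ?_
  have := add_mem_big k (ample_le_big k hy) he
  rwa [neg_add_cancel_right] at this

theorem psef_eq_closure_big {H : X.Modules} (hH : CohB1.IsAmple H) :
    NumR.psefCone k X = closure (bigCone X k : Set (NumR.N1R k X)) := by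
  refine subset_antisymm (closure_minimal (fun e he => ?_) isClosed_closure)
    (closure_mono (big_le_eff k hH))
  let h := NumR.clR k X H hH.1
  have hlim : Filter.Tendsto (fun n : ℕ => (1 / ((n : ℝ) + 1)) • h + e) Filter.atTop (nhds e) := by
    have h1 : Filter.Tendsto (fun n : ℕ => 1 / ((n : ℝ) + 1)) Filter.atTop (nhds 0) :=
      tendsto_one_div_add_atTop_nhds_zero_nat
    have h2 := (h1.smul_const h).add_const e
    rwa [zero_smul, zero_add] at h2
  exact mem_closure_of_tendsto hlim (Filter.Eventually.of_forall fun n => add_mem_big k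
    (ample_le_big k ((NumR.ampleCone k X).smul_mem (by positivity) (mem_coneOf k hH.1 hH))) he)

theorem big_eq_interior_psef {H : X.Modules} (hH : CohB1.IsAmple H) :
    (bigCone X k : Set (NumR.N1R k X)) = interior (NumR.psefCone k X) := by
  refine subset_antisymm (interior_maximal ((SetLike.coe_subset_coe.2 (big_le_eff k hH)).trans subset_closure)
    (isOpen_big k hH)) fun x hx => ?_
  let h := NumR.clR k X H hH.1
  have hc : Continuous fun t : ℝ => x + (-t) • h := by fun_prop
  have h0 : ∀ᶠ t : ℝ in nhds 0, x - t • h ∈ interior (NumR.psefCone k X) := by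
    simp only [sub_eq_add_neg, ← neg_smul]
    exact hc.continuousAt.eventually_mem (by rw [neg_zero, zero_smul, add_zero]; exact isOpen_interior.mem_nhds hx)
  obtain ⟨ε, hε, hεpos⟩ : ∃ ε, x - ε • h ∈ interior (NumR.psefCone k X) ∧ 0 < ε :=
    ((h0.filter_mono nhdsWithin_le_nhds).and (self_mem_nhdsWithin (s := Set.Ioi (0 : ℝ)))).exists
  have hmem : x - ε • h ∈ closure (bigCone X k : Set (NumR.N1R k X)) :=
    psef_eq_closure_big k hH ▸ interior_subset hε
  have ha := ample_mem_nhds k ((NumR.ampleCone k X).smul_mem hεpos (mem_coneOf k (P := CohB1.IsAmple) hH.1 hH))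
  have hc' : Continuous fun b : NumR.N1R k X => x + (-1 : ℝ) • b :=
    by fun_prop
  have hU : (fun b => x + (-1 : ℝ) • b) ⁻¹' (NumR.ampleCone k X : Set (NumR.N1R k X)) ∈ nhds (x - ε • h) :=
    hc'.continuousAt.preimage_mem_nhds (by rwa [neg_one_smul, neg_sub, add_sub_cancel])
  obtain ⟨b, hb, hbB⟩ := mem_closure_iff_nhds.1 hmem _ hU
  have := (bigCone X k).add_mem hbB (ample_le_big k (show x + (-1 : ℝ) • b ∈ NumR.ampleCone k X from hb))
  rwa [neg_one_smul, add_comm x, add_neg_cancel_left] at this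

end Topology

end Groth.Agent.H75.Cones
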