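import Groth.Agent.H75.Sections
import Groth.Agent.VanGrowth.Big
import Groth.Agent.Growth22.Sect

/-!
# Big invertible modules through their tensor powers
-/

universe u

open CategoryTheory CategoryTheory.Limits AlgebraicGeometry TopologicalSpace Opposite
open Groth.Agent.H23.PicMul

set_option backward.isDefEq.respectTransparency false
set_option backward.isDefEq.respectTransparency.types false
set_option linter.style.haveILetI false

attribute [local instance] HasDerivedCategory.standard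

noncomputable section

namespace Groth.Agent.H75

open Groth.Agent

variable {X : Scheme.{u}}

/-- Every ample module maps monomorphically into a power of a module dominating one ample module. -/
theorem exists_mono_of_dominates [IsIntegral X] [CompactSpace X] [X.IsSeparated] {L B A : X.Modules}
    (hL : PicF.IsInvertible L) (hB : CohB1.IsAmple B) (hA : PicF.IsInvertible A)
    {ν : ℕ} (hν : 0 < ν) (φ : B ⟶ CohB1.tensorPow L ν) [Mono φ] :
    ∃ (m : ℕ) (ψ : A ⟶ CohB1.tensorPow L m), 0 < m ∧ Mono ψ := by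
  obtain ⟨D, hD, ⟨e⟩⟩ := H23.PicInv.exists_inverse hA
  have hAD : PicF.cl A * PicF.cl D = 1 := by
    rw [← cl_tensor, H23.PicMul.one_def]; exact cl_eq_iff.2 ⟨e⟩
  obtain ⟨q, hq, hq'⟩ := exists_ne_zero_twist hB hD
  obtain ⟨s, hs⟩ := hq' q le_rfl
  have hBq := InvX.isInvertible_tensorPow hB.1 q
  haveI := InvEnd.mono_of_ne_zero (PicLoc.isInvertible_structureModule X)
    (InvX.isInvertible_tensorMod hBq hD) s hs
  obtain ⟨s₁, hs₁⟩ := exists_mono_tensor hA s
  obtain ⟨ψ, hψ⟩ := VanGrowth.exists_mono_pow hB.1 (InvX.isInvertible_tensorPow hL ν) φ q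
  obtain ⟨e₁⟩ := cl_eq_iff.1 (show PicF.cl A = PicF.cl (CohB1.tensorMod (Coh.structureModule X) A) by
    rw [cl_tensor, ← H23.PicMul.one_def, one_mul])
  obtain ⟨e₂⟩ := cl_eq_iff.1 (show PicF.cl (CohB1.tensorMod (CohB1.tensorMod (CohB1.tensorPow B q) D) A) =
      PicF.cl (CohB1.tensorPow B q) by
    rw [cl_tensor, cl_tensor, mul_assoc, mul_comm (PicF.cl D), hAD, mul_one])
  obtain ⟨e₃⟩ := cl_eq_iff.1 (show PicF.cl (CohB1.tensorPow (CohB1.tensorPow L ν) q) =
      PicF.cl (CohB1.tensorPow L (ν * q)) by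
    rw [cl_tensorPow, cl_tensorPow, cl_tensorPow, ← pow_mul])
  haveI := hs₁
  haveI := hψ
  exact ⟨ν * q, e₁.hom ≫ s₁ ≫ e₂.hom ≫ ψ ≫ e₃.hom, Nat.mul_pos hν hq, inferInstance⟩

/-- All large powers of a big module have nonzero sections. -/
theorem exists_ne_zero_eventually_of_big [IsIntegral X] [CompactSpace X] [X.IsSeparated] {H L : X.Modules}
    (hH : CohB1.IsAmple H) (hL : PicF.IsInvertible L)
    (hbig : ∀ A : X.Modules, CohB1.IsAmple A → ∃ (m : ℕ) (φ : A ⟶ CohB1.tensorPow L m), 0 < m ∧ Mono φ) :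
    ∃ N₀ : ℕ, ∀ N, N₀ ≤ N → ∃ s : Coh.structureModule X ⟶ CohB1.tensorPow L N, s ≠ 0 := by
  obtain ⟨n₁, -, h₁⟩ := exists_ne_zero_twist hH (InvX.isInvertible_structureModule (X := X))
  obtain ⟨n₂, hn₂, h₂⟩ := exists_ne_zero_twist hH hL
  obtain ⟨m, φ, hm, hφ⟩ := hbig (CohB1.tensorPow H (n₁ + n₂)) (AmpleX.isAmple_tensorPow hH (by omega))
  haveI := hφ
  have hs : ∃ s : Coh.structureModule X ⟶ CohB1.tensorPow L m, s ≠ 0 :=
    exists_ne_zero_of_mono φ (exists_ne_zero_of_cl (cl_eq_iff.2 (H23.PicMul.unit _)) (h₁ _ (by omega)))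
  obtain ⟨ψ, hψ⟩ := exists_mono_tensor hL φ
  have hs' : ∃ s : Coh.structureModule X ⟶ CohB1.tensorPow L (m + 1), s ≠ 0 :=
    @exists_ne_zero_of_mono _ _ _ ψ hψ (h₂ _ (by omega))
  exact ⟨m * (m + 1), fun N hN => exists_ne_zero_eventually hL hm hs hs' N hN⟩

variable (k : Type u) [Field k] [X.Over (Spec (CommRingCat.of k))] [IsProper (X ↘ Spec (CommRingCat.of k))]

/-- Bigness gives maximal growth of sections. -/
theorem exists_growth_of_big [IsIntegral X] [CompactSpace X] [X.IsSeparated] {H L : X.Modules}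
    (hH : CohB1.IsAmple H) (hL : PicF.IsInvertible L) {n : ℕ} (hn : topologicalKrullDim X = n)
    (hbig : ∀ A : X.Modules, CohB1.IsAmple A → ∃ (m : ℕ) (φ : A ⟶ CohB1.tensorPow L m), 0 < m ∧ Mono φ) :
    ∃ b m₁ : ℕ, 0 < b ∧ ∀ m, m₁ ≤ m → m ^ n ≤ b * VanGrowth.h0 k (CohB1.tensorPow L m) := by
  obtain ⟨ν, φ, hν, hφ⟩ := hbig H hH
  haveI := hφ
  obtain ⟨ν', a, hν', ha, hg⟩ := VanGrowth.exists_growth_of_mono k hL hH hn hν φ
  obtain ⟨N₀, hN₀⟩ := exists_ne_zero_eventually_of_big hH hL hbig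
  refine ⟨(2 * ν') ^ n * a, 2 * (N₀ + ν') + 1, by positivity, fun m hm => ?_⟩
  set μ := (m - N₀) / ν' with hμ
  have hle : ν' * μ ≤ m - N₀ := Nat.mul_div_le _ _
  have hlt : m - N₀ < ν' * μ + ν' := by
    have h1 := Nat.lt_mul_div_succ (m - N₀) hν'
    rw [Nat.mul_add, Nat.mul_one] at h1
    exact h1
  have hm2 : m ≤ 2 * ν' * μ := by rw [mul_assoc]; omega
  have hμ1 : 1 ≤ μ := Nat.one_le_iff_ne_zero.2 fun h => by simp [h] at hm2; omega
  obtain ⟨s, hs⟩ := hN₀ (m - ν' * μ) (by omega)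
  have hcl : PicF.cl (CohB1.tensorPow L m) =
      PicF.cl (CohB1.tensorPow L (m - ν' * μ)) * PicF.cl (CohB1.tensorPow L (ν' * μ)) := by
    rw [cl_tensorPow, cl_tensorPow, cl_tensorPow, ← pow_add, Nat.sub_add_cancel (by omega)]
  have hh : VanGrowth.h0 k (CohB1.tensorPow L (ν' * μ)) ≤ VanGrowth.h0 k (CohB1.tensorPow L m) :=
    Growth22.h_zero_le_tensor k (InvX.isInvertible_tensorPow hL _) hs
      (InvX.isInvertible_tensorPow hL _) hcl
  calc m ^ n ≤ (2 * ν' * μ) ^ n := Nat.pow_le_pow_left hm2 n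
    _ = (2 * ν') ^ n * μ ^ n := mul_pow _ _ _
    _ ≤ (2 * ν') ^ n * (a * VanGrowth.h0 k (CohB1.tensorPow L m)) :=
        Nat.mul_le_mul_left _ ((hg μ hμ1).trans (Nat.mul_le_mul_left _ hh))
    _ = _ := (mul_assoc _ _ _).symm

end Groth.Agent.H75
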