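import Groth.Agent.H75.Kleiman
import Groth.Agent.H75.Big
import Groth.Agent.H75.Cones
import Groth.Agent.VanGrowth.Big
import Groth.Agent.AmpleX.Generated
import Groth.Agent.IntNum47.Basic
import Groth.Agent.IntNum47.Binom

/-!
# Nef modules are big exactly when their top self-intersection is positive
-/

universe u

open CategoryTheory CategoryTheory.Limits AlgebraicGeometry TopologicalSpace
open Groth.Agent.HilbPoly (iterD mult DimLT additive_iterD additive_euler pw)
open Groth.Agent.H23.PicMul

set_option backward.isDefEq.respectTransparency false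
set_option backward.isDefEq.respectTransparency.types false
set_option linter.style.haveILetI false
set_option linter.unusedSectionVars false

attribute [local instance] HasDerivedCategory.standard

noncomputable section

namespace Groth.Agent.H75.NefBig

open Groth.Agent Groth.Agent.H75.Kleiman
open Groth.Agent.VanGrowth (h0)

variable (k : Type u) [Field k] {X : Scheme.{u}} [X.Over (Spec (CommRingCat.of k))]
  [IsProper (X ↘ Spec (CommRingCat.of k))]

theorem h0_congr_cl {A B : X.Modules} (h : PicF.cl A = PicF.cl B) : h0 k A = h0 k B := by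
  obtain ⟨e⟩ := cl_eq_iff.1 h
  exact HilbPoly.finrank_HH_iso k e 0

/-- Comparing the twists by `L^a ⊗ H^c` with the powers of `H`, uniformly. -/
theorem exists_mixed_bound {H L : X.Modules} (hH : CohB1.IsAmple H) (hL : PicF.IsInvertible L) :
    ∃ b : ℕ, ∀ (d : ℕ) (F : X.Modules), Coh.IsCoh F →
      topologicalKrullDim ↥(CohB1.support F) ≤ (d : WithBot ℕ∞) →
      ∃ B : ℕ, ∀ a c : ℕ, h0 k (CohB1.tensorMod F (comb L H a c)) ≤ B * (a * b + c + 1) ^ d := by
  haveI := CurveCohLib.isNoetherian_of_proper (k := k) (X := X)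
  haveI := AmpleVan.isSeparated_of_proper (X := X) (A := k)
  obtain ⟨D, hD, ⟨u⟩⟩ := H23.PicInv.exists_inverse hL
  have hLD : PicF.cl L * PicF.cl D = 1 := by
    rw [← cl_tensor, H23.PicMul.one_def]; exact cl_eq_iff.2 ⟨u⟩
  obtain ⟨b, hb⟩ := AmpleX.eventually_generated hH (ProjUPX.isQCoh_of_isInvertible hD)
    (AmpleVan.isCoh_invertible hD).2
  obtain ⟨G, iso, ι, σ, hσ⟩ := hb b le_rfl
  have hG : PicF.IsInvertible G := H23.PicMul.isInvertible_of_iso iso.symm
    (InvX.isInvertible_tensorMod hD (InvX.isInvertible_tensorPow hH.1 b))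
  refine ⟨b, fun d F hF hd => ?_⟩
  have hmap : ∀ {S : ShortComplex X.Modules}, S.ShortExact → ∀ a c,
      (S.map (AmpleVan.tw (comb L H a c))).ShortExact := fun hS a c => by
    haveI := AmpleVan.isEquivalence_tw (inv_comb hL hH.1 a c)
    haveI : (AmpleVan.tw (comb L H a c)).Additive := Functor.additive_of_preserves_binary_products _
    exact hS.map_of_exact _
  have hcoh : ∀ {N : X.Modules}, Coh.IsCoh N → ∀ a c, Coh.IsCoh (CohB1.tensorMod N (comb L H a c)) :=
    fun h a c => AmpleVan.isCoh_tensor h (AmpleVan.isCoh_invertible (inv_comb hL hH.1 a c))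
  refine QCoh.devissage
    (fun N => ∃ B : ℕ, ∀ a c : ℕ, h0 k (CohB1.tensorMod N (comb L H a c)) ≤ B * (a * b + c + 1) ^ d)
    ?_ ?_ (CohB1.support F) ?_ ?_ ?_ hF subset_rfl
  · rintro M N ⟨e⟩ ⟨B, hB⟩
    exact ⟨B, fun a c => (HilbPoly.finrank_HH_iso k ((AmpleVan.tw (comb L H a c)).mapIso e) 0).symm.le.trans (hB a c)⟩
  · intro M hM
    refine ⟨0, fun a c => ?_⟩
    haveI := AmpleVan.isEquivalence_tw (inv_comb hL hH.1 a c)
    exact le_of_eq_of_le (CurveCohLib.finrank_HH_zero_eq_zero_of_isZero
      ((AmpleVan.tw (comb L H a c)).map_isZero hM)) (Nat.zero_le _)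
  · rintro S hS h₁ h₂ h₃ - ⟨B₁, hB₁⟩ ⟨B₃, hB₃⟩
    refine ⟨B₁ + B₃, fun a c => ?_⟩
    have h := (VanGrowth.h0_le_add k (hmap hS a c) (hcoh h₁ a c) (hcoh h₂ a c) (hcoh h₃ a c)).2
    exact (h.trans (add_le_add (hB₁ a c) (hB₃ a c))).trans_eq (add_mul _ _ _).symm
  · intro ξ hξ _ Z i _ _ hr
    set M := (Coh.push i).obj (Coh.structureModule Z)
    have hM : Coh.IsCoh M := QCoh.isCoh_push_structure i
    have hMd : topologicalKrullDim ↥(CohB1.support M) ≤ (d : WithBot ℕ∞) :=
      (H23.TopDim.dim_le_dim_of_subset ((QCoh.support_push_subset i QCoh.isQCoh_structureModule).trans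
        (hr ▸ hξ))).trans hd
    obtain ⟨P, m₀, hdeg, -, hP⟩ := VanGrowth.exists_h0_poly k hH hM hMd
    obtain ⟨B, hB⟩ := VanGrowth.exists_poly_bound (fun T => h0 k (pw H M T)) P hdeg m₀ hP
    obtain ⟨j, W, hxW, hW⟩ := InvX.exists_frame_of_generated hG σ (i (genericPoint Z)) (hσ _)
    refine ⟨B, fun a c => le_trans ?_ (hB (a * b + c))⟩
    have hmem : i (genericPoint Z) ∈ CohB1.genLocus _ (InvX.powHom (InvX.ofSect (σ j)) a) := by
      match a with
      | 0 =>
        refine (InvX.le_genLocus (U := ⊤) _ ?_) trivial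
        rw [AModX.res_self]
        exact InvX.isFrame_one ⊤
      | n + 1 =>
        rw [InvX.genLocus_powHom hG]
        exact InvX.le_genLocus _ (by rw [InvX.one_ofSect]; exact hW) hxW
    haveI := VanGrowth.mono_mulHom_push i (InvX.powHom (InvX.ofSect (σ j)) a) hmem
    haveI := AmpleVan.isEquivalence_tw (inv_comb hL hH.1 a c)
    generalize HilbPoly.mulHom (InvX.powHom (InvX.ofSect (σ j)) a) M = μ at *
    haveI : Mono ((AmpleVan.tw (comb L H a c)).map μ) := Functor.map_mono _ _
    obtain ⟨e⟩ := cl_eq_iff.1 (show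
        PicF.cl ((AmpleVan.tw (comb L H a c)).obj (CohB1.tensorMod M (CohB1.tensorPow G a))) =
          PicF.cl (pw H M (a * b + c)) by
      show PicF.cl (CohB1.tensorMod (CohB1.tensorMod _ _) (comb L H a c)) = _
      simp only [cl_tensor, cl_tensorPow, cl_eq_iff.2 ⟨iso⟩, mul_pow, pow_add, ← pow_mul, mul_comm a b]
      calc _ = PicF.cl M * ((PicF.cl L * PicF.cl D) ^ a * (PicF.cl H ^ (b * a) * PicF.cl H ^ c)) := by
            rw [mul_pow]; ac_rfl
        _ = _ := by rw [hLD, one_pow, one_mul])
    exact @VanGrowth.h0_le_of_mono k _ X _ _ ((AmpleVan.tw (comb L H a c)).obj M) _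
      (hcoh hM a c) (HilbPoly.isCoh_pw hH.1 hM _)
      ((AmpleVan.tw (comb L H a c)).map μ ≫ e.hom) (mono_comp _ _)
  · rintro S hS h₁ h₂ h₃ - ⟨B, hB⟩ -
    exact ⟨B, fun a c => (VanGrowth.h0_le_add k (hmap hS a c) (hcoh h₁ a c) (hcoh h₂ a c) (hcoh h₃ a c)).1.trans (hB a c)⟩

theorem poly_ge_top (f : ℕ → ℕ → ℝ) {t : ℝ} (ht : 0 ≤ t) : ∀ r a b,
    (∀ a' b', a' + b' = r + a + b → b ≤ b' → 0 ≤ f a' b') → f (a + r) b ≤ poly f r a b t
  | 0, _, _, _ => le_rfl
  | r + 1, a, b, h => by
    have h1 := poly_ge_top f ht r (a + 1) b fun a' b' e hb => h a' b' (by omega) hb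
    have h2 := (poly_ge f ht r a (b + 1) fun a' b' e hb => h a' b' (by omega) (by omega)).1
    rw [show a + (r + 1) = a + 1 + r by omega]
    exact h1.trans (le_add_of_nonneg_right (mul_nonneg ht h2))

variable [IsIntegral X]

theorem genLocus_mem_generic {E : X.Modules} (hE : PicF.IsInvertible E) {s : Coh.structureModule X ⟶ E}
    (hs : s ≠ 0) : genericPoint X ∈ CohB1.genLocus E s := by
  obtain ⟨x, hx⟩ : (CohB1.genLocus E s : Set X).Nonempty :=
    (TopologicalSpace.Opens.ne_bot_iff_nonempty _).1 ((ne_zero_iff hE s).1 hs)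
  exact ((genericPoint_spec X).mem_open_set_iff (CohB1.genLocus E s).2).2 (by simpa using ⟨x, hx⟩)

/-- A positive top power of a nef module forces maximal growth. -/
theorem exists_growth_of_mult_pos {L H : X.Modules} (hL : PicF.IsInvertible L) (hnef : NumR.IsNef k X L)
    (hH : CohB1.IsAmple H) {n : ℕ} (hn : topologicalKrullDim X = (n : WithBot ℕ∞)) (hn0 : 0 < n)
    (hpos : 0 < mult k L n (Coh.structureModule X)) :
    ∃ ν : ℕ, 0 < ν ∧ ∀ μ : ℕ, 1 ≤ μ → μ ^ n ≤ 1 * h0 k (CohB1.tensorPow L (ν * μ)) := by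
  haveI := CurveCohLib.isNoetherian_of_proper (k := k) (X := X)
  haveI := AmpleVan.isSeparated_of_proper (X := X) (A := k)
  obtain ⟨d, rfl⟩ := Nat.exists_eq_add_of_le' hn0
  have hO : Coh.IsCoh (Coh.structureModule X) := QCoh.isCoh_structureModule'
  have hOd : topologicalKrullDim ↥(CohB1.support (Coh.structureModule X)) ≤ ((d + 1 : ℕ) : WithBot ℕ∞) := by
    rw [VanGrowth.support_structureModule, VanGrowth.dim_univ, hn]
  obtain ⟨q, hq, s, hs, -⟩ := (AmpleX.isAmple_iff.1 hH).2.2 (genericPoint X)
  have hG := InvX.isInvertible_tensorPow hH.1 q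
  have hs0 := VanGrowth.ne_zero_of_mem_genLocus hG hs
  haveI := InvEnd.mono_of_ne_zero CurveDeg.isInvertible_structureModule hG s hs0
  have hGc := AmpleVan.isCoh_invertible hG
  have hC := QCoh.isCoh_cokernel QCoh.isQCoh_structureModule hGc s
  obtain ⟨U, hU, hηU⟩ : ∃ U : X.Opens,
      IsIso ((Scheme.Modules.restrictFunctor U.ι).map s) ∧ genericPoint X ∈ U := Opens.mem_sSup.1 hs
  haveI : IsIso ((Scheme.Modules.restrictFunctor U.ι).map s) := hU
  have hcl : (Set.univ : Set X) = closure {genericPoint X} := (genericPoint_spec X).def.symm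
  have hCd : topologicalKrullDim ↥(CohB1.support (cokernel s)) ≤ (d : WithBot ℕ∞) :=
    HilbPoly.le_of_lt_succ (HilbPoly.dim_lt_closure (by rw [← hcl, VanGrowth.dim_univ, hn])
      (QCoh.isClosed_support_of_isFT hC.1 hC.2) (hcl ▸ Set.subset_univ _)
      (HilbPoly.notMem_support_of_isZero_restrict (HilbPoly.isZero_restrict_cokernel U s) hηU))
  obtain ⟨b, hb⟩ := exists_mixed_bound k hH hL
  obtain ⟨B, hB⟩ := hb d _ hC hCd
  let W := B * (b + q + 1) ^ d + 1
  let p := 2 * (d + 1).factorial * W
  have hp : 0 < p := by positivity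
  let F := comb L H p q
  have hFamp : CohB1.IsAmple F := isAmple_comb hL hnef hH hp hq
  obtain ⟨P, m₀, hdeg, hα, hP⟩ := VanGrowth.exists_h0_poly k hFamp hO hOd
  -- the leading coefficient
  have hlead : (p : ℝ) ^ (d + 1) * 1 ≤ (mult k F (d + 1) (Coh.structureModule X) : ℝ) := by
    have h0 := num_eq_poly k hL hH.1 hO (p := p) (q := q) hp (d + 1) 0 0 (by
      simpa using dimLT_structure hn)
    simp only [lst, List.replicate_zero, List.append_nil] at h0
    show _ ≤ (num k (List.replicate (d + 1) (comb L H p q)) (Coh.structureModule X) : ℝ)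
    rw [h0]
    refine mul_le_mul_of_nonneg_left ?_ (by positivity)
    refine le_trans ?_ (poly_ge_top _ (by positivity) (d + 1) 0 0 fun a' b' hab _ => ?_)
    · have h1 : num k (lst L H (0 + (d + 1)) 0) (Coh.structureModule X) = mult k L (d + 1) (Coh.structureModule X) := by
        simp [num, lst, mult, HilbPoly.lead]
      exact_mod_cast (show (1 : ℤ) ≤ _ from h1 ▸ hpos)
    · exact Int.cast_nonneg (num_nonneg hL hnef hH hO (hOd.trans (le_of_eq (by rw [show a' + b' = d + 1 by omega]))))
  have hc : (2 * W : ℚ) * (p : ℚ) ^ d ≤ P.coeff (d + 1) := by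
    have h1 : ((p : ℚ) ^ (d + 1)) ≤ StabCat.alpha (d + 1) P := by
      rw [hα]
      have h2 : ((p : ℤ) ^ (d + 1) : ℤ) ≤ mult k F (d + 1) (Coh.structureModule X) := by
        have : (((p : ℤ) ^ (d + 1) : ℤ) : ℝ) ≤ (mult k F (d + 1) (Coh.structureModule X) : ℝ) := by
          push_cast; simpa using hlead
        exact_mod_cast this
      exact_mod_cast h2
    rw [StabCat.alpha] at h1
    have hfac : (0 : ℚ) < (d + 1).factorial := by exact_mod_cast (d + 1).factorial_pos
    have hpq : (p : ℚ) = 2 * ((d + 1).factorial : ℚ) * (W : ℚ) := by simp [p]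
    refine le_of_mul_le_mul_left ?_ hfac
    calc ((d + 1).factorial : ℚ) * (2 * W * (p : ℚ) ^ d) = (p : ℚ) ^ (d + 1) := by
          rw [pow_succ (p : ℚ) d, hpq]; ring
      _ ≤ _ := h1
  have hc0 : 0 < P.coeff (d + 1) := lt_of_lt_of_le (by positivity) hc
  obtain ⟨K, hK, hlow⟩ := VanGrowth.exists_poly_lower P hdeg hc0
  -- peeling off copies of `H^q`
  have hS : (ShortComplex.mk s (cokernel.π s) (cokernel.condition s)).ShortExact :=
    .mk' (ShortComplex.exact_of_g_is_cokernel _ (cokernelIsCokernel s)) inferInstance inferInstance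
  have hpeel : ∀ m i : ℕ, i ≤ m →
      h0 k (comb L H (p * m) (q * i)) ≤ h0 k (CohB1.tensorPow L (p * m)) + i * (B * (p * m * b + q * m + 1) ^ d) := by
    intro m i
    induction i with
    | zero =>
      intro _
      rw [Nat.zero_mul, Nat.add_zero]
      exact (h0_congr_cl k (by rw [Nat.mul_zero, cl_tensor, cl_tensorPow, cl_tensorPow, pow_zero, mul_one])).le
    | succ i ih =>
      intro hi
      let N := comb L H (p * m) (q * i)
      have hN := inv_comb hL hH.1 (p * m) (q * i)
      haveI := AmpleVan.isEquivalence_tw hN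
      haveI : (AmpleVan.tw N).Additive := Functor.additive_of_preserves_binary_products _
      have hNc := AmpleVan.isCoh_invertible hN
      have h2 := (VanGrowth.h0_le_add k (hS.map_of_exact (AmpleVan.tw N)) (AmpleVan.isCoh_tensor hO hNc)
        (AmpleVan.isCoh_tensor hGc hNc) (AmpleVan.isCoh_tensor hC hNc)).2
      have e₁ : h0 k (CohB1.tensorMod (Coh.structureModule X) N) = h0 k N :=
        h0_congr_cl k (by rw [cl_tensor, ← H23.PicMul.one_def, one_mul])
      have e₂ : h0 k (CohB1.tensorMod (CohB1.tensorPow H q) N) = h0 k (comb L H (p * m) (q * (i + 1))) :=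
        h0_congr_cl k (by simp only [N, cl_tensor, cl_tensorPow, Nat.mul_succ, pow_add]; ac_rfl)
      rw [← e₂]
      refine h2.trans ?_
      show h0 k (CohB1.tensorMod (Coh.structureModule X) N) + h0 k (CohB1.tensorMod (cokernel s) N) ≤ _
      rw [e₁, Nat.succ_mul, ← Nat.add_assoc]
      refine Nat.add_le_add (ih (by omega)) ((hB _ _).trans ?_)
      exact Nat.mul_le_mul_left _ (Nat.pow_le_pow_left (by
        have := Nat.mul_le_mul_left q (show i ≤ m by omega); omega) d)
  refine ⟨p * (K + m₀), Nat.mul_pos hp (by omega), fun μ hμ => ?_⟩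
  set m := (K + m₀) * μ with hmdef
  have hm : K + m₀ ≤ m := Nat.le_mul_of_pos_right _ hμ
  have h1 : P.coeff (d + 1) / 2 * (m : ℚ) ^ (d + 1) ≤ (h0 k (comb L H (p * m) (q * m)) : ℚ) := by
    refine (hlow m (by omega)).trans_eq ?_
    rw [← hP m (by omega)]
    exact_mod_cast h0_congr_cl k (A := pw F (Coh.structureModule X) m) (by
      simp only [F, cl_tensor, cl_tensorPow, ← H23.PicMul.one_def, one_mul, mul_pow, ← pow_mul])
  have h2 := hpeel m m le_rfl
  have h3 : p * m * b + q * m + 1 ≤ (b + q + 1) * p * m := by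
    have h31 : 1 ≤ p * m := Nat.one_le_iff_ne_zero.2 (Nat.mul_ne_zero hp.ne' (by omega))
    have h32 : q * m ≤ q * (p * m) := Nat.mul_le_mul_left q (Nat.le_mul_of_pos_left m hp)
    rw [show (b + q + 1) * p * m = p * m * b + q * (p * m) + p * m by ring]
    omega
  have h4 : m * (B * (p * m * b + q * m + 1) ^ d) ≤ (B * (b + q + 1) ^ d) * p ^ d * m ^ (d + 1) := by
    refine (Nat.mul_le_mul_left _ (Nat.mul_le_mul_left _ (Nat.pow_le_pow_left h3 d))).trans_eq ?_
    rw [mul_pow, mul_pow]; ring
  have h5 : (W : ℚ) * (p : ℚ) ^ d * (m : ℚ) ^ (d + 1) ≤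
      (h0 k (CohB1.tensorPow L (p * m)) : ℚ) + ((B : ℚ) * ((b : ℚ) + q + 1) ^ d) * (p : ℚ) ^ d * (m : ℚ) ^ (d + 1) := by
    refine le_trans ?_ (le_trans h1 ?_)
    · refine mul_le_mul_of_nonneg_right ?_ (by positivity)
      linarith
    · exact_mod_cast h2.trans (Nat.add_le_add_left h4 _)
  have h6 : (p : ℚ) ^ d * (m : ℚ) ^ (d + 1) ≤ (h0 k (CohB1.tensorPow L (p * m)) : ℚ) := by
    have hW : (W : ℚ) = (B : ℚ) * ((b : ℚ) + q + 1) ^ d + 1 := by simp [W]
    rw [hW, add_mul, add_mul, one_mul] at h5
    linarith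
  rw [one_mul, mul_assoc, ← hmdef, ← Nat.cast_le (α := ℚ)]
  refine le_trans ?_ h6
  have hp1 : (1 : ℚ) ≤ (p : ℚ) ^ d := one_le_pow₀ (by exact_mod_cast hp)
  push_cast
  refine le_trans ?_ (le_mul_of_one_le_left (by positivity) hp1)
  refine pow_le_pow_left₀ (by positivity) ?_ _
  exact_mod_cast Nat.le_mul_of_pos_left μ (by omega)

/-- A nef module dominated from below by an ample one has positive top power. -/
theorem mult_pos_of_mono {L H : X.Modules} (hL : PicF.IsInvertible L) (hnef : NumR.IsNef k X L)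
    (hH : CohB1.IsAmple H) {n : ℕ} (hn : topologicalKrullDim X = (n : WithBot ℕ∞))
    {ν : ℕ} (φ : H ⟶ CohB1.tensorPow L ν) [Mono φ] :
    0 < mult k L n (Coh.structureModule X) := by
  haveI := CurveCohLib.isNoetherian_of_proper (k := k) (X := X)
  have hO : Coh.IsCoh (Coh.structureModule X) := QCoh.isCoh_structureModule'
  have hOd : topologicalKrullDim ↥(CohB1.support (Coh.structureModule X)) = (n : WithBot ℕ∞) := by
    rw [VanGrowth.support_structureModule, VanGrowth.dim_univ, hn]
  obtain ⟨D, hD, ⟨e⟩⟩ := H23.PicInv.exists_inverse hH.1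
  have hHD : PicF.cl H * PicF.cl D = 1 := by rw [← cl_tensor, H23.PicMul.one_def]; exact cl_eq_iff.2 ⟨e⟩
  let E := CohB1.tensorMod (CohB1.tensorPow L ν) D
  have hE : PicF.IsInvertible E := InvX.isInvertible_tensorMod (InvX.isInvertible_tensorPow hL ν) hD
  obtain ⟨ψ, hψ⟩ := exists_mono_tensor hD φ
  obtain ⟨σ, hσ⟩ : ∃ σ : Coh.structureModule X ⟶ E, σ ≠ 0 :=
    @exists_ne_zero_of_mono _ _ _ ψ hψ (exists_ne_zero_of_cl (cl_eq_iff.2 ⟨e.symm⟩) exists_ne_zero_one)
  obtain ⟨iso⟩ : Nonempty (CohB1.tensorPow L ν ≅ CohB1.tensorMod H E) := cl_eq_iff.1 (by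
    simp only [E, cl_tensor]; rw [mul_left_comm, hHD, mul_one])
  -- each step trades a copy of `H` for one of `ν L`
  have step : ∀ a b, a + b + 1 = n →
      num k (lst L H a (b + 1)) (Coh.structureModule X) ≤
        (ν : ℤ) * num k (lst L H (a + 1) b) (Coh.structureModule X) := by
    intro a b hab
    have hl := inv_lst hL hH.1 a b
    have hlen : (lst L H a b).length = a + b := by simp [lst]
    have hd2 : DimLT (Coh.structureModule X) ((lst L H a b).length + 2) := by
      rw [hlen, show a + b + 2 = n + 1 by omega]; exact dimLT_structure hn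
    have h1 := num_pow k hL hl hO hd2 ν
    rw [num, IntNum47.iterD_congr_head (IntNum47.isoInv_euler k) iso,
      IntNum47.iterD_tensor_one k hH.1 hE hO hl rfl hd2] at h1
    have h2 := cut_nonneg k hE hσ (d := a + b) (by rw [hn, ← hab]) hl
      fun C hC hCd => num_nonneg hL hnef hH hC hCd
    have e1 : num k (lst L H a (b + 1)) (Coh.structureModule X) = num k (H :: lst L H a b) (Coh.structureModule X) :=
      IntNum47.iterD_perm (IntNum47.isoInv_euler k) (by rw [lst, List.replicate_succ]; exact List.perm_middle) _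
    have e2 : num k (lst L H (a + 1) b) (Coh.structureModule X) = num k (L :: lst L H a b) (Coh.structureModule X) :=
      congrArg (fun l => num k l (Coh.structureModule X)) (by simp [lst, List.replicate_succ])
    rw [e1, e2]
    simp only [num] at h2 h1 ⊢
    linarith
  have hall : ∀ a, a ≤ n → num k (lst L H 0 n) (Coh.structureModule X) ≤
      (ν : ℤ) ^ a * num k (lst L H a (n - a)) (Coh.structureModule X) := by
    intro a
    induction a with
    | zero => intro _; simp
    | succ a ih =>
      intro ha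
      refine (ih (by omega)).trans ?_
      rw [pow_succ, mul_assoc, show n - a = n - (a + 1) + 1 by omega]
      exact mul_le_mul_of_nonneg_left (step a _ (by omega)) (by positivity)
  have h1 := hall n le_rfl
  rw [Nat.sub_self, num_lst_zero] at h1
  have hpos := (HilbPoly.mult_nonneg_and_pos k hH n _ hO hOd.le).2 hOd
  have h2 : num k (lst L H n 0) (Coh.structureModule X) = mult k L n (Coh.structureModule X) := by
    simp [num, lst, mult, HilbPoly.lead]
  rw [h2] at h1
  exact pos_of_mul_pos_right (hpos.trans_le h1) (by positivity)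

/-- The intersection number fed with the inverse. -/
theorem intNum_inverse {L Linv : X.Modules} (hL : PicF.IsInvertible L) (h : ClSub.IsInverseOf Linv L) {n : ℕ}
    (hn : topologicalKrullDim X = (n : WithBot ℕ∞)) :
    FGA.intNum k X n (fun _ : Fin n => Linv) (Coh.structureModule X) = mult k L n (Coh.structureModule X) := by
  haveI := CurveCohLib.isNoetherian_of_proper (k := k) (X := X)
  have hM : PicF.IsInvertible Linv := isInvertible_inverse' hL h
  have hO : Coh.IsCoh (Coh.structureModule X) := QCoh.isCoh_structureModule'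
  obtain ⟨e⟩ := h
  rw [IntNum47.intNum_eq k hn.le (fun _ => hM) hO, List.ofFn_const]
  have key : ∀ j i, i + j = n → num k (lst L Linv i j) (Coh.structureModule X) =
      (-1) ^ j * mult k L n (Coh.structureModule X) := by
    intro j
    induction j with
    | zero =>
      intro i hi
      obtain rfl : i = n := by omega
      simp [num, lst, mult, HilbPoly.lead]
    | succ j ih =>
      intro i hi
      have hl := inv_lst hL hM i j
      have hd2 : DimLT (Coh.structureModule X) ((lst L Linv i j).length + 2) := by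
        rw [show (lst L Linv i j).length + 2 = n + 1 by simp [lst]; omega]; exact dimLT_structure hn
      have h1 := IntNum47.iterD_tensor_one k hM hL hO hl rfl hd2
      rw [IntNum47.iterD_congr_head (IntNum47.isoInv_euler k) e,
        IntNum47.iterD_structure (IntNum47.isoInv_euler k)] at h1
      have e1 : num k (lst L Linv i (j + 1)) (Coh.structureModule X) =
          num k (Linv :: lst L Linv i j) (Coh.structureModule X) :=
        IntNum47.iterD_perm (IntNum47.isoInv_euler k) (by rw [lst, List.replicate_succ]; exact List.perm_middle) _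
      have e2 : num k (L :: lst L Linv i j) (Coh.structureModule X) =
          num k (lst L Linv (i + 1) j) (Coh.structureModule X) :=
        congrArg (fun l => num k l (Coh.structureModule X)) (by simp [lst, List.replicate_succ])
      have h3 := ih (i + 1) (by omega)
      rw [← e2] at h3
      rw [e1, pow_succ]
      simp only [num] at h3 ⊢
      linarith
  have h4 := key n 0 (Nat.zero_add n)
  simp only [lst, List.replicate_zero, List.nil_append, num] at h4
  rw [h4, ← mul_assoc, ← mul_pow]
  simp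
where
  isInvertible_inverse' {L M : X.Modules} (hL : PicF.IsInvertible L) (hM : ClSub.IsInverseOf M L) :
      PicF.IsInvertible M := by
    obtain ⟨e⟩ := hM
    exact IntNum47.isInvertible_of_inverse hL (CurveTensor.commIso L M ≪≫ e)

/-- For nef modules bigness is positivity of the top power. -/
theorem isBig_of_mult_pos {L H : X.Modules} (hL : PicF.IsInvertible L) (hnef : NumR.IsNef k X L)
    (hH : CohB1.IsAmple H) {n : ℕ} (hn : topologicalKrullDim X = (n : WithBot ℕ∞))
    (hpos : 0 < mult k L n (Coh.structureModule X)) : Cones.IsBig L := by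
  haveI := CurveCohLib.isNoetherian_of_proper (k := k) (X := X)
  haveI := AmpleVan.isSeparated_of_proper (X := X) (A := k)
  rcases Nat.eq_zero_or_pos n with rfl | hn0
  · exact Cones.isBig_of_isAmple (VarBase.isAmple_of_dim_le_zero k (hn.le) hL)
  obtain ⟨ν, hν, hg⟩ := exists_growth_of_mult_pos k hL hnef hH hn hn0 hpos
  obtain ⟨ν', A, φ, hν', hA, hφ⟩ := VanGrowth.exists_mono_of_growth k hH hL hn hν hg
  intro A' hA'
  haveI := hφ
  exact exists_mono_of_dominates hL hA hA'.1 hν' φ

end Groth.Agent.H75.NefBig
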