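import Groth.Agent.H75.OrdBound
import Groth.Agent.H75.MulRestrict
import Groth.Agent.H75.NefBig
import Groth.Agent.H75.Cones
import Groth.Agent.AmpleX.Generated
import Groth.Agent.AmpleX.Pow
import Groth.Agent.VarBase.GenCurves
import Groth.Agent.ZClosLib.Basic
import Groth.Agent.Lib.AVAmple
import Groth.Agent.InvX.GenEpi
import Groth.Agent.InvX.GenLocusPull

/-!
# A nef and big module with sections generated in degree one is globally generated
-/

universe u

open CategoryTheory CategoryTheory.Limits AlgebraicGeometry TopologicalSpace Opposite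
open Groth.Agent.InvX
open scoped Groth.Agent.H23.PicMul

set_option backward.isDefEq.respectTransparency false
set_option backward.isDefEq.respectTransparency.types false
set_option linter.style.haveILetI false
set_option linter.unusedSectionVars false

noncomputable section

namespace Groth.Agent.H75.BasePt

open Groth.Agent
open Groth.Agent.H23.TrivBasic (locus mem_locus_iff)

variable {X : Scheme.{u}} {M N A B : X.Modules} {x : X}

/-- The section vanishes at `x` to order at least `j`. -/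
def Deep (x : X) (j : ℕ) (t : Γ(M, ⊤)) : Prop :=
  ∀ (U : X.Opens) (hx : x ∈ U) (e : Γ(M, U)), IsFrame e → ∀ c : Γ(X, U),
    AModX.res M (le_top : U ≤ ⊤) t = c • e →
      X.presheaf.germ U x hx c ∈ IsLocalRing.maximalIdeal (X.presheaf.stalk x) ^ j

/-- One frame suffices. -/
theorem deep_of_frame {j : ℕ} {t : Γ(M, ⊤)} {U : X.Opens} (hx : x ∈ U) {e : Γ(M, U)} (he : IsFrame e)
    {c : Γ(X, U)} (hc : AModX.res M (le_top : U ≤ ⊤) t = c • e)
    (h : X.presheaf.germ U x hx c ∈ IsLocalRing.maximalIdeal (X.presheaf.stalk x) ^ j) : Deep x j t := by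
  intro V hxV f hf d hd
  obtain ⟨r, hr⟩ := hf.exists_coord (inf_le_right : U ⊓ V ≤ V) (AModX.res M inf_le_left e)
  have h1 := congrArg (AModX.res M (inf_le_left : U ⊓ V ≤ U)) hc
  have h2 := congrArg (AModX.res M (inf_le_right : U ⊓ V ≤ V)) hd
  rw [AModX.res_res, AModX.res_smul, hr, ← mul_smul] at h1
  rw [AModX.res_res, AModX.res_smul] at h2
  have h3 := hf.coord_unique (inf_le_right : U ⊓ V ≤ V) (h2.symm.trans h1)
  have hxUV : x ∈ U ⊓ V := ⟨hx, hxV⟩
  have h4 := congrArg (X.presheaf.germ (U ⊓ V) x hxUV) h3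
  rw [map_mul, InvX.germ_resR' inf_le_right hxUV, InvX.germ_resR' inf_le_left hxUV] at h4
  rw [h4]
  exact Ideal.mul_mem_right _ _ h

theorem deep_zero_degree (hM : PicF.IsInvertible M) (t : Γ(M, ⊤)) : Deep x 0 t := by
  intro U hx e _ c _
  simp

theorem deep_zero (j : ℕ) : Deep x j (0 : Γ(M, ⊤)) := by
  intro U hx e he c hc
  have : c = 0 := he.coord_unique le_rfl (by rw [AModX.res_self, zero_smul, ← hc, map_zero])
  rw [this, map_zero]
  exact Submodule.zero_mem _

theorem Deep.add {j : ℕ} {t t' : Γ(M, ⊤)} (h : Deep x j t) (h' : Deep x j t') : Deep x j (t + t') := by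
  intro U hx e he c hc
  obtain ⟨a, ha⟩ := he.exists_coord le_rfl (AModX.res M (le_top : U ≤ ⊤) t)
  obtain ⟨a', ha'⟩ := he.exists_coord le_rfl (AModX.res M (le_top : U ≤ ⊤) t')
  rw [AModX.res_self] at ha ha'
  have hca : c = a + a' := he.coord_unique le_rfl (by
    rw [AModX.res_self, ← hc, map_add, ha, ha', add_smul])
  rw [hca, map_add]
  exact Ideal.add_mem _ (h U hx e he a ha) (h' U hx e he a' ha')

theorem Deep.tmul (hM : PicF.IsInvertible M) (hN : PicF.IsInvertible N) {i j : ℕ} {t : Γ(M, ⊤)} {s : Γ(N, ⊤)}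
    (ht : Deep x i t) (hs : Deep x j s) : Deep x (i + j) (InvX.tmul t s) := by
  obtain ⟨U, hU, e, he⟩ := InvX.exists_frame hM x
  obtain ⟨V, hV, f, hf⟩ := InvX.exists_frame hN x
  have he' := he.res (inf_le_left : U ⊓ V ≤ U)
  have hf' := hf.res (inf_le_right : U ⊓ V ≤ V)
  obtain ⟨a, ha⟩ := he'.exists_coord le_rfl (AModX.res M (le_top : U ⊓ V ≤ ⊤) t)
  obtain ⟨b, hb⟩ := hf'.exists_coord le_rfl (AModX.res N (le_top : U ⊓ V ≤ ⊤) s)
  rw [AModX.res_self] at ha hb
  refine deep_of_frame (c := a * b) (show x ∈ U ⊓ V from ⟨hU, hV⟩) (InvX.isFrame_tmul he' hf') ?_ ?_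
  · rw [InvX.res_tmul, ha, hb, tmul_smul_left, tmul_smul_right, ← mul_smul]
  · rw [map_mul, pow_add]
    exact Ideal.mul_mem_mul (ht _ _ _ he' a ha) (hs _ _ _ hf' b hb)

theorem Deep.map_iso (hM : PicF.IsInvertible M) (φ : M ≅ N) {j : ℕ} {t : Γ(M, ⊤)} (ht : Deep x j t) :
    Deep x j (φ.hom.app ⊤ t) := by
  obtain ⟨U, hU, e, he⟩ := InvX.exists_frame hM x
  obtain ⟨a, ha⟩ := he.exists_coord le_rfl (AModX.res M (le_top : U ≤ ⊤) t)
  rw [AModX.res_self] at ha
  refine deep_of_frame (c := a) hU (IsFrame.map_iso φ he) ?_ (ht U hU e he a ha)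
  rw [← AModX.app_res, ha, Scheme.Modules.Hom.app_smul]

/-- Outside the locus of a section it vanishes. -/
theorem deep_one_of_not_mem (hM : PicF.IsInvertible M) {t : Γ(M, ⊤)} (h : x ∉ locus t) : Deep x 1 t := by
  intro U hx e he c hc
  rw [pow_one]
  by_contra hcm
  have hu : IsUnit (X.presheaf.germ U x hx c) := not_not.1 hcm
  refine h (mem_locus_iff.2 ⟨X.basicOpen c, (Scheme.mem_basicOpen X c x hx).2 hu, ?_⟩)
  have h1 := congrArg (AModX.res M (X.basicOpen_le c)) hc
  rw [AModX.res_res, AModX.res_smul] at h1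
  rw [h1]
  exact (he.res _).isUnit_smul (AModX.isUnit_resR _ _ le_rfl)

/-- A morphism with coordinate `a` at `x`. -/
def HasCoord (x : X) (ψ : A ⟶ B) (a : X.presheaf.stalk x) : Prop :=
  ∃ (U : X.Opens) (hx : x ∈ U) (e : Γ(A, U)) (f : Γ(B, U)) (c : Γ(X, U)),
    IsFrame e ∧ IsFrame f ∧ ψ.app U e = c • f ∧ X.presheaf.germ U x hx c = a

/-- Monomorphisms of invertible modules on integral schemes have nonzero coordinates. -/
theorem exists_hasCoord_of_mono [IsIntegral X] (hA : PicF.IsInvertible A) (hB : PicF.IsInvertible B)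
    (ψ : A ⟶ B) [Mono ψ] : ∃ a, a ≠ 0 ∧ HasCoord x ψ a := by
  obtain ⟨U, hU, e, he⟩ := InvX.exists_frame hA x
  obtain ⟨V, hV, f, hf⟩ := InvX.exists_frame hB x
  have he' := he.res (inf_le_left : U ⊓ V ≤ U)
  have hf' := hf.res (inf_le_right : U ⊓ V ≤ V)
  obtain ⟨c, hc⟩ := hf'.exists_coord le_rfl (ψ.app (U ⊓ V) (AModX.res A inf_le_left e))
  rw [AModX.res_self] at hc
  have hx : x ∈ U ⊓ V := ⟨hU, hV⟩
  refine ⟨_, fun h0 => ?_, U ⊓ V, hx, _, _, c, he', hf', hc, rfl⟩
  haveI : Nonempty (U ⊓ V : X.Opens) := ⟨⟨x, hx⟩⟩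
  have hc0 : c = 0 := germ_injective_of_isIntegral X x hx (h0.trans (map_zero _).symm)
  rw [hc0, zero_smul] at hc
  have hinj : Function.Injective (ψ.app (U ⊓ V)) := ZClosLib.app_injective_of_mono ψ (U ⊓ V)
  have he0 : AModX.res A inf_le_left e = 0 := hinj (hc.trans (map_zero _).symm)
  have h10 : (1 : Γ(X, U ⊓ V)) = 0 := he'.coord_unique le_rfl (by rw [AModX.res_self, he0, smul_zero, smul_zero])
  exact one_ne_zero h10

theorem HasCoord.tensor {A' B' : X.Modules} {ψ : A ⟶ B} {ψ' : A' ⟶ B'} {a a' : X.presheaf.stalk x}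
    (h : HasCoord x ψ a) (h' : HasCoord x ψ' a') :
    HasCoord x ((AmpleVan.tw A').map ψ ≫ (DCoh.tensorBi.obj B).map ψ') (a * a') := by
  obtain ⟨U, hU, e, f, c, he, hf, hc, ha⟩ := h
  obtain ⟨V, hV, e', f', c', he', hf', hc', ha'⟩ := h'
  have hx : x ∈ U ⊓ V := ⟨hU, hV⟩
  let l : U ⊓ V ≤ U := inf_le_left
  let r : U ⊓ V ≤ V := inf_le_right
  refine ⟨U ⊓ V, hx, InvX.tmul (AModX.res A l e) (AModX.res A' r e'),
    InvX.tmul (AModX.res B l f) (AModX.res B' r f'), AModX.resR l c * AModX.resR r c',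
    InvX.isFrame_tmul (he.res l) (he'.res r), InvX.isFrame_tmul (hf.res l) (hf'.res r), ?_, ?_⟩
  · show ((DCoh.tensorBi.obj B).map ψ').app _ (((AmpleVan.tw A').map ψ).app _ (InvX.tmul _ _)) = _
    rw [AmpleVan.map_tmul_left, MulR.map_tmul_right, AModX.app_res, AModX.app_res, hc, hc', AModX.res_smul,
      AModX.res_smul, tmul_smul_left, tmul_smul_right, ← mul_smul]
  · rw [map_mul, InvX.germ_resR' l hx, InvX.germ_resR' r hx, ha, ha']

/-- The tensor powers of a morphism. -/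
def powMap (ψ : A ⟶ B) : ∀ N : ℕ, CohB1.tensorPow A N ⟶ CohB1.tensorPow B N
  | 0 => 𝟙 _
  | N + 1 => (AmpleVan.tw A).map (powMap ψ N) ≫ (DCoh.tensorBi.obj (CohB1.tensorPow B N)).map ψ

theorem hasCoord_id (M : X.Modules) (hM : PicF.IsInvertible M) : HasCoord x (𝟙 M) 1 := by
  obtain ⟨U, hU, e, he⟩ := InvX.exists_frame hM x
  exact ⟨U, hU, e, e, 1, he, he, (one_smul _ e).symm, map_one _⟩

theorem HasCoord.powMap {ψ : A ⟶ B} {a : X.presheaf.stalk x} (h : HasCoord x ψ a) :
    ∀ N : ℕ, HasCoord x (BasePt.powMap ψ N) (a ^ N)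
  | 0 => by
    rw [pow_zero]
    exact hasCoord_id _ InvX.isInvertible_structureModule
  | N + 1 => by
    rw [pow_succ]
    exact (h.powMap N).tensor h

/-- The image of a section generating at `x` vanishes exactly as much as the coordinate. -/
theorem coord_mem_of_deep {ψ : A ⟶ B} {a : X.presheaf.stalk x} (h : HasCoord x ψ a) {σ : Γ(A, ⊤)}
    (hσ : x ∈ locus σ) {j : ℕ} (hd : Deep x j (ψ.app ⊤ σ)) :
    a ∈ IsLocalRing.maximalIdeal (X.presheaf.stalk x) ^ j := by
  obtain ⟨U, hU, e, f, c, he, hf, hc, ha⟩ := h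
  obtain ⟨W, hW, hσW⟩ := mem_locus_iff.1 hσ
  have hx : x ∈ U ⊓ W := ⟨hU, hW⟩
  let l : U ⊓ W ≤ U := inf_le_left
  let r : U ⊓ W ≤ W := inf_le_right
  obtain ⟨w, hw⟩ := he.exists_coord l (AModX.res A (le_top : U ⊓ W ≤ ⊤) σ)
  have hfr : IsFrame (AModX.res A (le_top : U ⊓ W ≤ ⊤) σ) := by
    have := hσW.res r
    rwa [AModX.res_res] at this
  obtain ⟨v, hv⟩ := hfr.exists_coord le_rfl (AModX.res A l e)
  rw [AModX.res_self] at hv
  have hvw : v * w = 1 := (he.res l).coord_unique le_rfl (by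
    rw [AModX.res_self, one_smul, mul_smul, ← hw, ← hv])
  have h1 : AModX.res B (le_top : U ⊓ W ≤ ⊤) (ψ.app ⊤ σ) = (w * AModX.resR l c) • AModX.res B l f := by
    rw [← AModX.app_res, hw, Scheme.Modules.Hom.app_smul, AModX.app_res, hc, AModX.res_smul, ← mul_smul]
  have h2 := hd _ hx _ (hf.res l) _ h1
  rw [map_mul, InvX.germ_resR' l hx, ha] at h2
  have hu : IsUnit (X.presheaf.germ (U ⊓ W) x hx w) := by
    refine IsUnit.map _ ?_
    exact IsUnit.of_mul_eq_one v (by rw [mul_comm]; exact hvw)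
  exact (Ideal.unit_mul_mem_iff_mem _ hu).1 h2

section Main

variable (k : Type u) [Field k] {X : Scheme.{u}} [X.Over (Spec (CommRingCat.of k))] [IsIntegral X]
  [IsProper (X ↘ Spec (CommRingCat.of k))] {x : X}

include k in
theorem isGloballyGenerated_pow {H L : X.Modules} (hH : CohB1.IsAmple H) (hL : PicF.IsInvertible L)
    (hnef : NumR.IsNef k X L) {c : ℕ} (hc : 0 < c) (φ : H ⟶ CohB1.tensorPow L c) [Mono φ]
    {n : ℕ} (hn : 0 < n)
    (hgen : ∀ j : ℕ, 0 < j → Function.Surjective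
      (MulR.mu (CohB1.tensorPow (CohB1.tensorPow L n) j) (CohB1.tensorPow L n))) :
    Curv2.IsGloballyGenerated (CohB1.tensorPow L n) := by
  haveI : CompactSpace X := QuasiCompact.compactSpace_of_compactSpace (X ↘ Spec (CommRingCat.of k))
  haveI : X.IsSeparated := ⟨by
    rw [Subsingleton.elim (terminal.from X) ((X ↘ Spec (CommRingCat.of k)) ≫ terminal.from _)]
    infer_instance⟩
  haveI : IsLocallyNoetherian X := LocallyOfFiniteType.isLocallyNoetherian (X ↘ Spec (CommRingCat.of k))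
  have hLn := InvX.isInvertible_tensorPow hL n
  refine InvX.isGloballyGenerated_of_generated (s := fun t : Γ(CohB1.tensorPow L n, ⊤) => t)
    (AVAmple.generatedBy_of_locus _ fun x => ?_)
  by_contra hbase
  push Not at hbase
  haveI : IsNoetherianRing (X.presheaf.stalk x) := inferInstance
  haveI : IsDomain (X.presheaf.stalk x) := inferInstance
  -- every section of a power vanishes deeply at `x`
  have hdeep : ∀ j : ℕ, ∀ t : Γ(CohB1.tensorPow (CohB1.tensorPow L n) (j + 1), ⊤), Deep x (j + 1) t := by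
    intro j
    induction j with
    | zero =>
      intro t
      obtain ⟨e⟩ : Nonempty (CohB1.tensorPow L n ≅ CohB1.tensorPow (CohB1.tensorPow L n) 1) :=
        H23.PicMul.cl_eq_iff.1 (by rw [H23.PicMul.cl_tensorPow (CohB1.tensorPow L n) 1, pow_one])
      have h1 := (deep_one_of_not_mem hLn (hbase (e.inv.app ⊤ t))).map_iso hLn e
      rwa [show e.hom.app ⊤ (e.inv.app ⊤ t) = t from
        congrArg (fun g : CohB1.tensorPow (CohB1.tensorPow L n) 1 ⟶ _ => g.app ⊤ t) e.inv_hom_id] at h1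
    | succ j ih =>
      intro t
      obtain ⟨y, rfl⟩ := hgen (j + 1) (Nat.succ_pos j) t
      induction y using TensorProduct.induction_on with
      | zero => rw [map_zero]; exact deep_zero _
      | add y y' hy hy' => rw [map_add]; exact hy.add hy'
      | tmul a b =>
        exact Deep.tmul (InvX.isInvertible_tensorPow hLn _) hLn (ih a) (deep_one_of_not_mem hLn (hbase b))
  -- the coordinate of `φ`
  obtain ⟨a, ha0, hφ⟩ := exists_hasCoord_of_mono (x := x) hH.1 (InvX.isInvertible_tensorPow hL _) φ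
  obtain ⟨N, hN⟩ := exists_pow_not_mem ha0
  -- an ample module dominating
  let q := N * n + 1
  have hqc : 0 < q * c := Nat.mul_pos (Nat.succ_pos _) hc
  have hA : CohB1.IsAmple (CohB1.tensorMod (CohB1.tensorPow L (q * c)) H) := by
    refine AmpleX.isAmple_of_iso ?_ (Kleiman.isAmple_comb (k := k) hL hnef hH hqc Nat.one_pos)
    refine (H23.PicMul.cl_eq_iff.1 ?_).some
    rw [Kleiman.comb, H23.PicMul.cl_tensor, H23.PicMul.cl_tensor, H23.PicMul.cl_tensorPow H 1, pow_one]
  let A := CohB1.tensorMod (CohB1.tensorPow L (q * c)) H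
  obtain ⟨T, hT⟩ := AmpleX.eventually_isGloballyGenerated hA QCoh.isQCoh_structureModule
    (QCoh.isFT_of_isFP (QCoh.isFP_of_isFinLocFree
      (H23.PullPush.isFinLocFree_of_isInvertible InvX.isInvertible_structureModule)))
  let P := n * (T + 1)
  have hAi := InvX.isInvertible_tensorPow hA.1 P
  obtain ⟨eA⟩ : Nonempty (CohB1.tensorMod (Coh.structureModule X) (CohB1.tensorPow A P) ≅ CohB1.tensorPow A P) :=
    H23.PicMul.cl_eq_iff.1 (by rw [H23.PicMul.cl_tensor, ← H23.PicMul.one_def, one_mul])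
  have hgg : Curv2.IsGloballyGenerated (CohB1.tensorPow A P) :=
    AmpleX.isGloballyGenerated_of_iso eA (hT P (le_trans (Nat.le_succ T) (Nat.le_mul_of_pos_left _ hn)))
  obtain ⟨σ, hi⟩ := VarBase.exists_mem_locus hAi hgg x
  let ψ : A ⟶ CohB1.tensorMod (CohB1.tensorPow L (q * c)) (CohB1.tensorPow L c) :=
    (DCoh.tensorBi.obj (CohB1.tensorPow L (q * c))).map φ
  have hψ : HasCoord x ψ a := by
    have h := (hasCoord_id (x := x) _ (InvX.isInvertible_tensorPow hL (q * c))).tensor hφ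
    rw [one_mul, CategoryTheory.Functor.map_id, Category.id_comp] at h
    exact h
  obtain ⟨Φ⟩ : Nonempty (CohB1.tensorPow (CohB1.tensorMod (CohB1.tensorPow L (q * c)) (CohB1.tensorPow L c)) P ≅
      CohB1.tensorPow (CohB1.tensorPow L n) ((q + 1) * c * (T + 1))) := H23.PicMul.cl_eq_iff.1 (by
    simp only [H23.PicMul.cl_tensorPow, H23.PicMul.cl_tensor, ← pow_add, ← pow_mul]
    congr 1
    show (q * c + c) * (n * (T + 1)) = _
    ring)
  obtain ⟨j, hj⟩ : ∃ j, (q + 1) * c * (T + 1) = j + 1 :=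
    Nat.exists_eq_add_one.2 (Nat.mul_pos (Nat.mul_pos (Nat.succ_pos _) hc) (Nat.succ_pos _))
  have hd : Deep x ((q + 1) * c * (T + 1)) ((powMap ψ P).app ⊤ σ) := by
    have h0 : ∀ m, m = j + 1 → ∀ t : Γ(CohB1.tensorPow (CohB1.tensorPow L n) m, ⊤), Deep x m t := by
      rintro m rfl t; exact hdeep j t
    have h1 := h0 _ hj (Φ.hom.app ⊤ ((powMap ψ P).app ⊤ σ))
    have h2 := h1.map_iso (InvX.isInvertible_tensorPow hLn _) Φ.symm
    rwa [show Φ.symm.hom.app ⊤ (Φ.hom.app ⊤ ((powMap ψ P).app ⊤ σ)) = (powMap ψ P).app ⊤ σ from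
      congrArg (fun g : CohB1.tensorPow _ P ⟶ _ => g.app ⊤ ((powMap ψ P).app ⊤ σ)) Φ.hom_inv_id] at h2
  have hmem := coord_mem_of_deep (hψ.powMap P) hi hd
  refine hN P (Nat.mul_pos hn (Nat.succ_pos T)) (Ideal.pow_le_pow_right ?_ hmem)
  calc N * P = (N * n) * (T + 1) := (Nat.mul_assoc _ _ _).symm
    _ ≤ (q + 1) * c * (T + 1) := Nat.mul_le_mul_right _
      (le_trans (show N * n ≤ q + 1 by omega) (Nat.le_mul_of_pos_right _ hc))

end Main

end Groth.Agent.H75.BasePt
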