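import Mathlib

/-! The colength of powers of a maximal ideal with two generators modulo its square. -/

universe u

namespace Groth.Agent.H75

open Finset

variable {k B : Type u} [Field k] [CommRing B] [Algebra k B] {M : Ideal B} {a b : B}

theorem span_pair_pow_le_span (hsurj : Function.Surjective ((Ideal.Quotient.mk M).comp (algebraMap k B)))
    (ha : a ∈ M) (hb : b ∈ M) (j : ℕ) :
    ((Ideal.span {a, b}) ^ j).restrictScalars k ≤
      Submodule.span k ((fun i => a ^ i * b ^ (j - i)) '' (Finset.range (j + 1) : Set ℕ)) ⊔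
        (M ^ (j + 1)).restrictScalars k := by
  classical
  set V := Submodule.span k ((fun i => a ^ i * b ^ (j - i)) '' (Finset.range (j + 1) : Set ℕ))
  have hmem : ∀ i ≤ j, a ^ i * b ^ (j - i) ∈ M ^ j := fun i hi => by
    have h := Ideal.mul_mem_mul (Ideal.pow_mem_pow ha i) (Ideal.pow_mem_pow hb (j - i))
    rwa [← pow_add, Nat.add_sub_cancel' hi] at h
  have hI : (Ideal.span {a, b}) ^ j ≤
      Ideal.span ((fun i => a ^ i * b ^ (j - i)) '' (Finset.range (j + 1) : Set ℕ)) := by
    clear V hmem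
    induction j with
    | zero => simp
    | succ j ih =>
      rw [pow_succ]
      refine (Ideal.mul_mono ih le_rfl).trans ?_
      rw [Ideal.span_mul_span', Ideal.span_le]
      rintro _ ⟨_, ⟨i, hi, rfl⟩, c, hc, rfl⟩
      have hi' : i ≤ j := Nat.lt_succ_iff.1 (Finset.mem_range.1 hi)
      rcases (Set.mem_insert_iff.1 hc) with hc' | hc' <;>
        [skip; rw [Set.mem_singleton_iff] at hc'] <;> subst c
      · refine Ideal.subset_span ⟨i + 1, Finset.mem_range.2 (by omega), ?_⟩
        show a ^ (i + 1) * b ^ (j + 1 - (i + 1)) = a ^ i * b ^ (j - i) * _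
        rw [Nat.add_sub_add_right]; ring
      · refine Ideal.subset_span ⟨i, Finset.mem_range.2 (by omega), ?_⟩
        show a ^ i * b ^ (j + 1 - i) = a ^ i * b ^ (j - i) * _
        rw [Nat.sub_add_comm hi']; ring
  intro z hz
  refine Submodule.span_induction (p := fun z _ => z ∈ V ⊔ (M ^ (j + 1)).restrictScalars k) ?_ (zero_mem _)
    (fun x y _ _ hx hy => add_mem hx hy) ?_ (hI hz)
  · exact fun x hx => Submodule.mem_sup_left (Submodule.subset_span hx : x ∈ V)
  · intro r x hx hxV
    obtain ⟨c, hc⟩ := hsurj (Ideal.Quotient.mk M r)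
    have hr : r - algebraMap k B c ∈ M := Ideal.Quotient.eq.1 hc.symm
    have hxM : x ∈ M ^ j := by
      refine (Ideal.span_le.2 ?_) hx
      rintro _ ⟨i, hi, rfl⟩
      exact hmem i (Nat.lt_succ_iff.1 (Finset.mem_range.1 hi))
    have h2 : (r - algebraMap k B c) * x ∈ M ^ (j + 1) := by
      rw [pow_succ']
      exact Ideal.mul_mem_mul hr hxM
    have e : r • x = c • x + (r - algebraMap k B c) * x := by
      rw [smul_eq_mul, Algebra.smul_def]; ring
    rw [e]
    exact add_mem (Submodule.smul_mem _ c hxV) (le_sup_right (a := V) h2)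

theorem pow_le_span_sup (hab : M ≤ Ideal.span {a, b} ⊔ M ^ 2) (ha : a ∈ M) (hb : b ∈ M) :
    ∀ j : ℕ, M ^ j ≤ (Ideal.span {a, b}) ^ j ⊔ M ^ (j + 1)
  | 0 => by simp
  | j + 1 => by
    have hI : Ideal.span {a, b} ≤ M := Ideal.span_le.2 (by simp [Set.insert_subset_iff, ha, hb])
    calc M ^ (j + 1) = M ^ j * M := pow_succ M j
      _ ≤ ((Ideal.span {a, b}) ^ j ⊔ M ^ (j + 1)) * (Ideal.span {a, b} ⊔ M ^ 2) :=
        Ideal.mul_mono (pow_le_span_sup hab ha hb j) hab
      _ ≤ _ := by
        rw [Ideal.sup_mul, Ideal.mul_sup, Ideal.mul_sup, ← pow_succ, ← pow_add]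
        refine sup_le (sup_le le_sup_left (le_trans ?_ le_sup_right)) (le_trans (sup_le ?_ ?_) le_sup_right)
        · exact (Ideal.mul_mono (Ideal.pow_right_mono hI j) le_rfl).trans (le_of_eq (pow_add M j 2).symm)
        · exact (Ideal.mul_mono le_rfl hI).trans (le_of_eq (pow_succ M (j + 1)).symm)
        · exact Ideal.pow_le_pow_right (by omega)

/-- `B ⧸ M^(s+1)` has dimension at most `(s+1)(s+2)/2`. -/
theorem finite_and_finrank_quot_pow_le
    (hsurj : Function.Surjective ((Ideal.Quotient.mk M).comp (algebraMap k B)))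
    (ha : a ∈ M) (hb : b ∈ M) (hab : M ≤ Ideal.span {a, b} ⊔ M ^ 2) (s : ℕ) :
    Module.Finite k (B ⧸ M ^ (s + 1)) ∧
      2 * Module.finrank k (B ⧸ M ^ (s + 1)) ≤ (s + 1) * (s + 2) := by
  classical
  let S : ℕ → Finset B := fun s =>
    (Finset.range (s + 1)).biUnion fun j => (Finset.range (j + 1)).image fun i => a ^ i * b ^ (j - i)
  have hcard : ∀ s, 2 * (S s).card ≤ (s + 1) * (s + 2) := by
    intro s
    refine (Nat.mul_le_mul_left 2 (Finset.card_biUnion_le.trans
      (Finset.sum_le_sum fun j _ => Finset.card_image_le))).trans ?_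
    simp only [Finset.card_range]
    clear hab ha hb hsurj
    induction s with
    | zero => simp
    | succ n ih => rw [Finset.sum_range_succ]; nlinarith
  have hsub : ∀ s, S s ⊆ S (s + 1) := fun s =>
    Finset.biUnion_subset_biUnion_of_subset_left _ (Finset.range_mono (by omega))
  have key : ∀ s, (⊤ : Submodule k B) ≤ Submodule.span k (S s : Set B) ⊔ (M ^ (s + 1)).restrictScalars k := by
    intro s
    induction s with
    | zero =>
      intro z _
      obtain ⟨c, hc⟩ := hsurj (Ideal.Quotient.mk M z)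
      have h1 : z - algebraMap k B c ∈ M ^ (0 + 1) := by simpa using Ideal.Quotient.eq.1 hc.symm
      have h2 : algebraMap k B c ∈ Submodule.span k (S 0 : Set B) := by
        rw [Algebra.algebraMap_eq_smul_one]
        exact Submodule.smul_mem _ c (Submodule.subset_span (by simp [S]))
      have := add_mem (le_sup_left (b := (M ^ (0 + 1)).restrictScalars k) h2) (le_sup_right (a := Submodule.span k (S 0 : Set B)) h1)
      simpa using this
    | succ s ih =>
      refine ih.trans (sup_le (le_sup_of_le_left (Submodule.span_mono (by exact_mod_cast hsub s))) ?_)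
      intro z hz
      obtain ⟨x, hx, y, hy, rfl⟩ := Submodule.mem_sup.1 (pow_le_span_sup hab ha hb (s + 1) hz)
      refine add_mem ?_ (le_sup_right (a := Submodule.span k (S (s + 1) : Set B)) hy)
      refine (span_pair_pow_le_span hsurj ha hb (s + 1)).trans (sup_le_sup_right (Submodule.span_mono ?_) _) hx
      rintro _ ⟨i, hi, rfl⟩
      exact Finset.mem_biUnion.2 ⟨s + 1, Finset.self_mem_range_succ _, Finset.mem_image.2 ⟨i, hi, rfl⟩⟩
  let π : B →ₗ[k] B ⧸ M ^ (s + 1) := (Ideal.Quotient.mkₐ k (M ^ (s + 1))).toLinearMap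
  have htop : Submodule.span k ((S s).image π : Set (B ⧸ M ^ (s + 1))) = ⊤ := by
    rw [eq_top_iff]
    intro q _
    obtain ⟨z, rfl⟩ := Ideal.Quotient.mk_surjective q
    obtain ⟨x, hx, y, hy, rfl⟩ := Submodule.mem_sup.1 (key s (Submodule.mem_top (x := z)))
    rw [Finset.coe_image, ← Submodule.map_span]
    exact ⟨x, hx, by
      rw [map_add, Ideal.Quotient.eq_zero_iff_mem.2 hy, add_zero]; rfl⟩
  have : Module.Finite k (B ⧸ M ^ (s + 1)) := ⟨⟨_, htop⟩⟩
  refine ⟨inferInstance, ?_⟩
  have h := finrank_span_finset_le_card (R := k) ((S s).image π)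
  rw [Set.finrank, htop, finrank_top] at h
  exact (Nat.mul_le_mul_left 2 (h.trans Finset.card_image_le)).trans (hcard s)

end Groth.Agent.H75
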