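import Groth.Agent.H75.Descend
import Groth.Agent.AmpleVan.FinGen
import Groth.Agent.AmpleVan.Uniform
import Groth.Agent.QCoh.DevissageSum
import Groth.Agent.QCoh.Bound
import Groth.Agent.PnCoh.Finite.SerreVanishing
import Groth.Agent.KZ.LFRes
import Mathlib.AlgebraicGeometry.Noetherian

/-!
# Descending induction for finiteness
-/

universe u

open CategoryTheory CategoryTheory.Limits AlgebraicGeometry TopologicalSpace Opposite
open Groth.Agent.H23.PicMul

set_option backward.isDefEq.respectTransparency false
set_option backward.isDefEq.respectTransparency.types false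
set_option linter.style.haveILetI false

attribute [local instance] Groth.Agent.QCoh.hasFiniteBiproducts
attribute [local instance] HasDerivedCategory.standard

namespace Groth.Agent.H75

open Groth.Agent

variable {X : Scheme.{u}}

/-- The same for finiteness. -/
theorem finite_HH_of_quotients {A : Type u} [CommRing A] [IsNoetherianRing A]
    [X.Over (Spec (CommRingCat.of A))] [CompactSpace X] [QuasiSeparatedSpace X] [IsNoetherian X] (r : ℕ)
    (hq : ∀ F : X.Modules, Coh.IsCoh F → ∃ (E : X.Modules) (p : E ⟶ F), Epi p ∧ Coh.IsCoh E ∧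
      ∀ i, r < i → Module.Finite A (Coh.HH X E i))
    (F : X.Modules) (hF : Coh.IsCoh F) (i : ℕ) (hi : r < i) : Module.Finite A (Coh.HH X F i) := by
  obtain ⟨d, hd⟩ := QCoh.exists_HH_bound (X := X)
  suffices H : ∀ (t : ℕ) (F : X.Modules), Coh.IsCoh F → ∀ i, r < i → d ≤ i + t →
      Module.Finite A (Coh.HH X F i) from H d F hF i hi (by omega)
  intro t
  induction t with
  | zero =>
    intro F hF i _ h
    haveI := hd F hF.1 i (by omega)
    infer_instance
  | succ t ih =>
    intro F hF i hi h
    obtain ⟨E, p, hp, hE, hEv⟩ := hq F hF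
    haveI := hp
    exact PnCoh.Finite.finite_HH_X₃ A (KZ.kerSeq_shortExact p) i (hEv i hi)
      (ih _ (QCoh.isCoh_kernel hE hF p) (i + 1) (by omega) (by omega))

end Groth.Agent.H75
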