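import Mathlib

/-! Morphisms of extensions from equalities of classes. -/

universe w v u

open CategoryTheory CategoryTheory.Limits CategoryTheory.Abelian

namespace Groth.Agent.H75

variable {C : Type u} [Category.{v} C] [Abelian C] [HasExt.{w} C]

/-- A map of the quotients lifts to a map of extensions fixing the kernel exactly when the classes agree. -/
theorem exists_lift_of_extClass_eq {M F F' Q Q' : C} {a : M ⟶ F} {b : F ⟶ Q} {a' : M ⟶ F'} {b' : F' ⟶ Q'}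
    {w : a ≫ b = 0} {w' : a' ≫ b' = 0} (h : (ShortComplex.mk a b w).ShortExact)
    (h' : (ShortComplex.mk a' b' w').ShortExact) (φ : Q ⟶ Q')
    (he : (Ext.mk₀ φ).comp h'.extClass (zero_add 1) = h.extClass) :
    ∃ g : F ⟶ F', a ≫ g = a' ∧ g ≫ b' = b ≫ φ := by
  obtain ⟨x, hx⟩ := Ext.covariant_sequence_exact₃ (X := F) h' (n₀ := 0) (Ext.mk₀ (b ≫ φ)) (n₁ := 1) rfl (by
    rw [← Ext.mk₀_comp_mk₀, Ext.comp_assoc_of_second_deg_zero, he]
    exact h.comp_extClass)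
  obtain ⟨g₀, rfl⟩ := Ext.addEquiv₀.symm.surjective x
  have hg₀ : g₀ ≫ b' = b ≫ φ := by
    apply Ext.addEquiv₀.symm.injective
    refine Eq.trans ?_ hx
    exact (Ext.mk₀_comp_mk₀ g₀ b').symm
  obtain ⟨c, hc⟩ : ∃ c : M ⟶ M, c ≫ a' = a ≫ g₀ := by
    obtain ⟨c, hc⟩ := KernelFork.IsLimit.lift' h'.fIsKernel (a ≫ g₀) (by
      show (a ≫ g₀) ≫ b' = 0
      rw [Category.assoc, hg₀, ← Category.assoc, w, zero_comp])
    exact ⟨c, hc⟩
  have hnat := ShortComplex.ShortExact.extClass_naturality h h'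
    (ShortComplex.homMk (S₁ := ShortComplex.mk a b w) (S₂ := ShortComplex.mk a' b' w') c g₀ φ hc hg₀)
  simp only [ShortComplex.homMk_τ₁, ShortComplex.homMk_τ₃] at hnat
  rw [he] at hnat
  have h0 : h.extClass.comp (Ext.mk₀ (c - 𝟙 M)) (add_zero 1) = 0 := by
    rw [show Ext.mk₀ (c - 𝟙 M) = Ext.mk₀ c + -Ext.mk₀ (𝟙 M) from
      (map_sub (Ext.addEquiv₀ (X := M) (Y := M)).symm c (𝟙 M)).trans (sub_eq_add_neg _ _),
      Ext.comp_add, Ext.comp_neg, hnat, Ext.comp_mk₀_id, add_neg_cancel]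
  obtain ⟨y, hy⟩ := Ext.contravariant_sequence_exact₁ h (Y := M) (n₀ := 0) (n₁ := 1) (Ext.mk₀ (c - 𝟙 M)) rfl h0
  obtain ⟨q, rfl⟩ := Ext.addEquiv₀.symm.surjective y
  have hq : a ≫ q = c - 𝟙 M := by
    apply Ext.addEquiv₀.symm.injective
    refine Eq.trans ?_ hy
    exact (Ext.mk₀_comp_mk₀ a q).symm
  refine ⟨g₀ - q ≫ a', ?_, ?_⟩
  · rw [Preadditive.comp_sub, ← Category.assoc, hq, ← hc, Preadditive.sub_comp, Category.id_comp, sub_sub_cancel]
  · rw [Preadditive.sub_comp, Category.assoc, w', comp_zero, sub_zero, hg₀]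

end Groth.Agent.H75
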