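import Groth.Agent.PBasisLib.Field
import Mathlib.RingTheory.Kaehler.Basic

/-!
# Functions with vanishing differential are `p`-th powers
-/

universe u

open EGA41

set_option linter.style.haveILetI false

namespace Groth.Agent.H75.FrobKerAlg

open Groth.Agent

variable (p : ℕ) [hp : Fact p.Prime] (k : Type u) [Field k] [IsAlgClosed k]

/-- In a field over an algebraically closed field, `d z = 0` only for `p`-th powers. -/
theorem exists_pow_eq_of_D_eq_zero {K : Type u} [Field K] [Algebra k K] [CharP K p] {z : K}
    (h : KaehlerDifferential.D k K z = 0) : ∃ b : K, b ^ p = z := by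
  have hz : z ∈ PBasisLib.Fp p k (∅ : Set K) := by
    by_contra hz
    have hfree : PBasisLib.Free p k (fun _ : PUnit.{u + 1} => z) := fun a => by
      have : ((fun _ : PUnit.{u + 1} => z) '' {b | b ≠ a}) = (∅ : Set K) := by
        ext w; simp
      rw [this]; exact hz
    exact ((PBasisLib.free_iff_linearIndependent_D p k _).1 hfree).ne_zero PUnit.unit h
  let S : IntermediateField k K :=
    { carrier := {w | ∃ b : K, b ^ p = w}
      mul_mem' := by rintro _ _ ⟨a, rfl⟩ ⟨b, rfl⟩; exact ⟨a * b, mul_pow a b p⟩
      one_mem' := ⟨1, one_pow p⟩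
      add_mem' := by rintro _ _ ⟨a, rfl⟩ ⟨b, rfl⟩; exact ⟨a + b, add_pow_char (p := p) a b⟩
      zero_mem' := ⟨0, zero_pow hp.out.ne_zero⟩
      algebraMap_mem' := fun c => by
        obtain ⟨d, hd⟩ := IsAlgClosed.exists_pow_nat_eq c hp.out.pos
        exact ⟨algebraMap k K d, by rw [← map_pow, hd]⟩
      inv_mem' := by rintro _ ⟨a, rfl⟩; exact ⟨a⁻¹, inv_pow a p⟩ }
  have hle : PBasisLib.Fp p k (∅ : Set K) ≤ S :=
    IntermediateField.adjoin_le_iff.2 (Set.union_subset (fun w ⟨b, hb⟩ => ⟨b, hb⟩) (Set.empty_subset _))
  exact hle hz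

/-- In a normal domain over an algebraically closed field, `d a = 0` only for `p`-th powers. -/
theorem exists_pow_eq_of_D_eq_zero_normal {B : Type u} [CommRing B] [IsDomain B] [IsIntegrallyClosed B]
    [Algebra k B] [CharP B p] {a : B} (h : KaehlerDifferential.D k B a = 0) : ∃ c : B, c ^ p = a := by
  let K := FractionRing B
  haveI : CharP K p := charP_of_injective_algebraMap (IsFractionRing.injective B K) p
  have h1 : KaehlerDifferential.D k K (algebraMap B K a) = 0 := by
    rw [← KaehlerDifferential.map_D k k B K a, h, map_zero]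
  obtain ⟨b, hb⟩ := exists_pow_eq_of_D_eq_zero p k h1
  have hint : IsIntegral B b := IsIntegral.of_pow hp.out.pos (hb ▸ isIntegral_algebraMap)
  obtain ⟨c, rfl⟩ := IsIntegrallyClosed.isIntegral_iff.1 hint
  exact ⟨c, IsFractionRing.injective B K (by rw [map_pow]; exact hb)⟩

/-- Two base rings with the same image have the same vanishing differentials. -/
theorem D_eq_zero_of_surjective {R k B : Type u} [CommRing R] [CommRing k] [CommRing B]
    [Algebra R B] [Algebra k B] (φ : k →+* R) (hφ : Function.Surjective φ)
    (hcomp : ∀ c, algebraMap R B (φ c) = algebraMap k B c) {a : B}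
    (h : KaehlerDifferential.D R B a = 0) : KaehlerDifferential.D k B a = 0 := by
  let D' : Derivation R B (Ω[B⁄k]) :=
    Derivation.mk'
      { toFun := KaehlerDifferential.D k B
        map_add' := map_add _
        map_smul' := fun r b => by
          obtain ⟨c, rfl⟩ := hφ r
          rw [RingHom.id_apply, ← IsScalarTower.algebraMap_smul B (φ c) (KaehlerDifferential.D k B b),
            Algebra.smul_def, hcomp, Derivation.leibniz, Derivation.map_algebraMap, smul_zero, add_zero] }
      (fun x y => (KaehlerDifferential.D k B).leibniz x y)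
  have := D'.liftKaehlerDifferential_comp_D a
  rw [h, map_zero] at this
  exact this.symm

end Groth.Agent.H75.FrobKerAlg
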