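import Groth.Agent.SerreVan45.ProjAffine
import Groth.Agent.H75.MulRestrict
import Groth.Agent.InvX.Pullback
import Groth.Agent.InvX.Tensor

/-!
# The projection map for invertible modules, and multiplication of sections of pullbacks
-/

universe u

open CategoryTheory CategoryTheory.Limits AlgebraicGeometry TopologicalSpace Opposite
open Groth.Agent.InvX

set_option backward.isDefEq.respectTransparency false
set_option backward.isDefEq.respectTransparency.types false
set_option linter.style.haveILetI false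

noncomputable section

namespace Groth.Agent.H75.ProjPush

open Groth.Agent

variable {X Y : Scheme.{u}}

/-- A morphism bijective on all small enough opens around each point is invertible. -/
theorem isIso_of_locally {A B : Y.Modules} (φ : A ⟶ B)
    (h : ∀ y : Y, ∃ U : Y.Opens, y ∈ U ∧ ∀ W ≤ U, Function.Bijective (φ.app W)) : IsIso φ := by
  refine Scheme.Modules.Hom.isIso_iff_isIso_app.2 fun V => (ConcreteCategory.isIso_iff_bijective _).2 ?_
  choose U hU hb using h
  have hinj : ∀ (W : Y.Opens) (a a' : Γ(A, W)), φ.app W a = φ.app W a' → a = a' := by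
    intro W a a' haa
    refine AModX.eq_of_locally _ _ fun p hp => ⟨W ⊓ U p, inf_le_left, ⟨hp, hU p⟩, ?_⟩
    refine (hb p _ inf_le_right).1 ?_
    rw [AModX.app_res, AModX.app_res, haa]
  refine ⟨hinj V, fun z => ?_⟩
  have hs : ∀ p : V, ∃ a : Γ(A, V ⊓ U p.1), φ.app _ a = AModX.res B inf_le_left z :=
    fun p => (hb p.1 _ inf_le_right).2 _
  choose a ha using hs
  obtain ⟨t, ht, -⟩ := AModX.existsUnique_glue (M := A) (V := V) (fun p : V => V ⊓ U p.1)
    (fun _ => inf_le_left) (fun p hp => ⟨⟨p, hp⟩, hp, hU p⟩) a fun p q => by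
      refine hinj _ _ _ ?_
      rw [AModX.app_res, AModX.app_res, ha, ha, AModX.res_res, AModX.res_res]
  refine ⟨t, AModX.eq_of_locally _ _ fun p hp => ⟨V ⊓ U p, inf_le_left, ⟨hp, hU p⟩, ?_⟩⟩
  rw [← AModX.app_res, ht ⟨p, hp⟩, ha ⟨p, hp⟩]

/-- The projection map on elementary tensors. -/
theorem projMod_tmul (f : X ⟶ Y) (M : X.Modules) (N : Y.Modules) {U : Y.Opens} (m : Γ(M, f ⁻¹ᵁ U))
    (n : Γ(N, U)) :
    (KFlatLib.projMod f M N).app U
        (tmul (M := (Scheme.Modules.pushforward f).obj M) (N := N)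
          (show Γ((Scheme.Modules.pushforward f).obj M, U) from m) n) =
      (tmul m (pullElt f n) : Γ(CohB1.tensorMod M ((Scheme.Modules.pullback f).obj N), f ⁻¹ᵁ U)) :=
  SerreVan45.projMod_tmS f M N U m n

/-- The projection formula for an invertible module. -/
theorem isIso_projMod_invertible (f : X ⟶ Y) {M : X.Modules} (hM : Coh.IsQCoh M)
    (hfM : Coh.IsQCoh ((Scheme.Modules.pushforward f).obj M)) {N : Y.Modules} (hN : PicF.IsInvertible N) :
    IsIso (KFlatLib.projMod f M N) := by
  refine isIso_of_locally _ fun y => ?_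
  obtain ⟨U, hU, e, he⟩ := InvX.exists_frame hN y
  refine ⟨U, hU, fun W hW => ?_⟩
  have heW := he.res hW
  have hNq : Coh.IsQCoh N :=
    QCoh.isQCoh_of_isFP (QCoh.isFP_of_isFinLocFree (H23.PullPush.isFinLocFree_of_isInvertible hN))
  have hs := MulR.bijective_tmul_frame hfM hNq heW
  have ht := MulR.bijective_tmul_frame hM (QCoh.isQCoh_pullback f hNq) (InvX.isFrame_pullElt f heW)
  have hcomp : Function.Bijective ((fun z => (KFlatLib.projMod f M N).app W z) ∘
      fun m => tmul (M := (Scheme.Modules.pushforward f).obj M) (N := N) m (AModX.res N hW e)) := by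
    refine Eq.mp ?_ ht
    congr 1
    funext m
    exact (projMod_tmul f M N m _).symm
  refine ⟨fun z z' h => ?_, fun w => ?_⟩
  · obtain ⟨m, rfl⟩ := hs.2 z
    obtain ⟨m', rfl⟩ := hs.2 z'
    rw [hcomp.1 (a₁ := m) (a₂ := m') h]
  · obtain ⟨m, hm⟩ := hcomp.2 w
    exact ⟨_, hm⟩

/-- Surjectivity of multiplication transports along isomorphisms. -/
theorem surjective_mu_of_iso {M M' N N' : X.Modules} (φ : M ≅ M') (ψ : N ≅ N')
    (h : Function.Surjective (MulR.mu M N)) : Function.Surjective (MulR.mu M' N') := by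
  intro z
  let a : CohB1.tensorMod M N ≅ CohB1.tensorMod M' N' :=
    (AmpleVan.tw N).mapIso φ ≪≫ (DCoh.tensorBi.obj M').mapIso ψ
  obtain ⟨t, ht⟩ := h (a.inv.app ⊤ z)
  have hlift : ∀ y, ∃ t', MulR.mu M' N' t' = a.hom.app ⊤ (MulR.mu M N y) := by
    intro y
    induction y using TensorProduct.induction_on with
    | zero => exact ⟨0, by simp⟩
    | add y y' hy hy' =>
      obtain ⟨t, ht⟩ := hy
      obtain ⟨t', ht'⟩ := hy'
      exact ⟨t + t', by rw [map_add, map_add, map_add, ht, ht']⟩
    | tmul m n =>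
      refine ⟨(φ.hom.app ⊤ m) ⊗ₜ (ψ.hom.app ⊤ n), ?_⟩
      show tmul (φ.hom.app ⊤ m) (ψ.hom.app ⊤ n) =
        ((DCoh.tensorBi.obj M').map ψ.hom).app ⊤ (((AmpleVan.tw N).map φ.hom).app ⊤ (tmul m n))
      rw [AmpleVan.map_tmul_left, MulR.map_tmul_right]
  obtain ⟨t', ht'⟩ := hlift t
  refine ⟨t', ht'.trans ?_⟩
  rw [ht]
  exact congrArg (fun g : CohB1.tensorMod M' N' ⟶ CohB1.tensorMod M' N' => g.app ⊤ z) a.inv_hom_id

/-- Multiplication with the inverse image of an invertible module is onto when it is onto after direct image. -/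
theorem surjective_mu_pullback (f : X ⟶ Y) {M L : X.Modules} {N : Y.Modules} (hM : Coh.IsQCoh M)
    (hfM : Coh.IsQCoh ((Scheme.Modules.pushforward f).obj M)) (hN : PicF.IsInvertible N)
    (τ : (Scheme.Modules.pullback f).obj N ≅ L)
    (h : Function.Surjective (MulR.mu ((Scheme.Modules.pushforward f).obj M) N)) :
    Function.Surjective (MulR.mu M L) := by
  refine surjective_mu_of_iso (Iso.refl M) τ fun z => ?_
  haveI := isIso_projMod_invertible f hM hfM hN
  obtain ⟨w, hw⟩ := (ConcreteCategory.bijective_of_isIso ((KFlatLib.projMod f M N).app ⊤)).2 z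
  obtain ⟨y, rfl⟩ := h w
  have hlift : ∀ y, ∃ t, MulR.mu M ((Scheme.Modules.pullback f).obj N) t =
      (KFlatLib.projMod f M N).app ⊤ (MulR.mu ((Scheme.Modules.pushforward f).obj M) N y) := by
    intro y
    induction y using TensorProduct.induction_on with
    | zero => exact ⟨0, by rw [map_zero, map_zero]; exact (map_zero ((KFlatLib.projMod f M N).app ⊤).hom).symm⟩
    | add y y' hy hy' =>
      obtain ⟨t, ht⟩ := hy
      obtain ⟨t', ht'⟩ := hy'
      exact ⟨t + t', by rw [map_add, map_add, map_add, ht, ht']⟩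
    | tmul m n => exact ⟨(show Γ(M, ⊤) from m) ⊗ₜ pullElt f n, (projMod_tmul f M N (U := ⊤) m n).symm⟩
  obtain ⟨t, ht⟩ := hlift y
  exact ⟨t, ht.trans hw⟩

end Groth.Agent.H75.ProjPush
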