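import Groth.Agent.H75.FrobUnit
import Groth.Agent.H75.ProjPush
import Groth.Agent.H23.PicMul

/-!
# The inverse image of an invertible module by Frobenius is its `p`-th power
-/

universe u

open CategoryTheory CategoryTheory.Limits AlgebraicGeometry TopologicalSpace Opposite
open Groth.Agent.InvX

set_option backward.isDefEq.respectTransparency false
set_option backward.isDefEq.respectTransparency.types false
set_option linter.style.haveILetI false

noncomputable section

namespace Groth.Agent.H75.FrobPow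

open Groth.Agent

variable {X : Scheme.{u}} {L : X.Modules}

/-- The powers of a section. -/
def powS : ∀ (n : ℕ) {W : X.Opens}, Γ(L, W) → Γ(CohB1.tensorPow L n, W)
  | 0, W, _ => (show Γ(X, W) from 1)
  | n + 1, _, m => InvX.tmul (powS n m) m

theorem powS_res : ∀ (n : ℕ) {V W : X.Opens} (h : W ≤ V) (m : Γ(L, V)),
    AModX.res (CohB1.tensorPow L n) h (powS n m) = powS n (AModX.res L h m)
  | 0, _, _, h, _ => map_one (X.presheaf.map (homOfLE h).op).hom
  | n + 1, _, _, h, m => by
    show AModX.res _ h (InvX.tmul (powS n m) m) = InvX.tmul _ _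
    refine (InvX.res_tmul h _ _).trans ?_
    rw [powS_res n h m]

theorem powS_smul : ∀ (n : ℕ) {W : X.Opens} (r : Γ(X, W)) (m : Γ(L, W)),
    powS n (r • m) = r ^ n • powS n m
  | 0, _, r, _ => by
    rw [pow_zero, one_smul]
    rfl
  | n + 1, _, r, m => by
    show InvX.tmul (powS n (r • m)) (r • m) = r ^ (n + 1) • InvX.tmul (powS n m) m
    rw [powS_smul n r m, InvX.tmul_smul_left, InvX.tmul_smul_right, ← mul_smul, ← pow_succ]

theorem isFrame_powS : ∀ (n : ℕ) {W : X.Opens} {e : Γ(L, W)}, IsFrame e → IsFrame (powS n e)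
  | 0, W, _, _ => InvX.isFrame_one W
  | n + 1, _, _, he => InvX.isFrame_tmul (isFrame_powS n he) he

variable (p : ℕ) [Fact p.Prime] [FrobSch.IsCharP X p]

theorem powS_add (hL : PicF.IsInvertible L) {W : X.Opens} (m m' : Γ(L, W)) :
    powS p (m + m') = powS p m + powS p m' := by
  refine AModX.eq_of_locally _ _ fun x hx => ?_
  obtain ⟨U, hxU, e, he⟩ := InvX.exists_frame hL x
  refine ⟨W ⊓ U, inf_le_left, ⟨hx, hxU⟩, ?_⟩
  obtain ⟨a, ha⟩ := he.exists_coord inf_le_right (AModX.res L (inf_le_left : W ⊓ U ≤ W) m)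
  obtain ⟨b, hb⟩ := he.exists_coord inf_le_right (AModX.res L (inf_le_left : W ⊓ U ≤ W) m')
  have hab : (a + b) ^ p = a ^ p + b ^ p :=
    (FrobSch.powHom p Γ(X, W ⊓ U) (FrobSch.natCast_eq_zero_app X p _)).map_add a b
  rw [map_add, powS_res, powS_res, powS_res, map_add, ha, hb, ← add_smul, powS_smul, powS_smul, powS_smul,
    hab, add_smul]

/-- `L ⟶ F_* L^{⊗p}`, `m ↦ m^p`. -/
def powPush (hL : PicF.IsInvertible L) :
    L ⟶ (Scheme.Modules.pushforward (FrobSch.frob X p)).obj (CohB1.tensorPow L p) :=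
  ⟨PresheafOfModules.homMk
    { app := fun U => AddCommGrpCat.ofHom
        (AddMonoidHom.mk' (powS p (W := U.unop) : Γ(L, U.unop) → Γ(CohB1.tensorPow L p, U.unop)) (powS_add p hL))
      naturality := fun U V i => by
        ext m
        exact (powS_res p i.unop.le m).symm }
    (fun U r m => powS_smul p r m)⟩

/-- **`F^* L ≅ L^{⊗p}`.** -/
theorem nonempty_pullback_iso (hL : PicF.IsInvertible L) :
    Nonempty ((Scheme.Modules.pullback (FrobSch.frob X p)).obj L ≅ CohB1.tensorPow L p) := by
  let F := FrobSch.frob X p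
  let adj := Scheme.Modules.pullbackPushforwardAdjunction F
  let ψ := (adj.homEquiv L (CohB1.tensorPow L p)).symm (powPush p hL)
  have hψ : adj.unit.app L ≫ (Scheme.Modules.pushforward F).map ψ = powPush p hL := by
    exact (adj.homEquiv_unit L _ ψ).symm.trans ((adj.homEquiv L _).apply_symm_apply _)
  suffices h : IsIso ψ from ⟨asIso ψ⟩
  refine ProjPush.isIso_of_locally ψ fun x => ?_
  obtain ⟨U, hU, e, he⟩ := InvX.exists_frame hL x
  refine ⟨U, hU, fun W hW => ?_⟩
  let e₁ : Γ((Scheme.Modules.pullback F).obj L, W) := InvX.pullElt F (AModX.res L hW e)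
  have he₁ : IsFrame e₁ := InvX.isFrame_pullElt F (he.res hW)
  have he₂ := isFrame_powS p (he.res hW)
  have hψe : ψ.app W e₁ = powS p (AModX.res L hW e) :=
    congrArg (fun γ : L ⟶ (Scheme.Modules.pushforward F).obj (CohB1.tensorPow L p) =>
      γ.app W (AModX.res L hW e)) hψ
  have h1 := he₁ W le_rfl
  have h2 := he₂ W le_rfl
  simp only [AModX.res_self] at h1 h2
  have hcomp : (fun z => ψ.app W z) ∘ (fun r : Γ(X, W) => r • e₁) = fun r => r • powS p (AModX.res L hW e) :=
    funext fun r => by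
      show ψ.app W (r • e₁) = _
      rw [Scheme.Modules.Hom.app_smul, hψe]
  exact (Function.Bijective.of_comp_iff _ h1).1 (hcomp ▸ h2)

/-- Vanishing of `H¹` descends along Frobenius for an invertible module. -/
theorem subsingleton_HH_one_of_pow {k : Type u} [Field k] [IsAlgClosed k] [X.Over (Spec (CommRingCat.of k))]
    [IsProper (X ↘ Spec (CommRingCat.of k))] [IsIntegral X] (hXn : Pi1.IsNormalScheme X)
    (hL : PicF.IsInvertible L)
    (h0 : Subsingleton (Coh.HH X (CohB1.tensorMod (CohB1.tensorPow L p) (Omega.sheaf (X ↘ Spec (CommRingCat.of k)))) 0))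
    (h1 : Subsingleton (Coh.HH X (CohB1.tensorPow L p) 1)) : Subsingleton (Coh.HH X L 1) := by
  obtain ⟨e⟩ := nonempty_pullback_iso p hL
  haveI := FrobSchLib.isIntegralHom_frob p X
  have hinj := FrobUnit.injective_H_one p k hXn (H23.PullPush.isFinLocFree_of_isInvertible hL)
    (QCoh.subsingleton_HH_of_iso ((AmpleVan.tw _).mapIso e).symm 0 h0)
  have hsub : Subsingleton (Coh.HH X ((Scheme.Modules.pushforward (FrobSch.frob X p)).obj
      ((Scheme.Modules.pullback (FrobSch.frob X p)).obj L)) 1) := by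
    have h2 : Subsingleton (Coh.HH X ((Scheme.Modules.pullback (FrobSch.frob X p)).obj L) 1) :=
      QCoh.subsingleton_HH_of_iso e.symm 1 h1
    obtain ⟨E⟩ := QCoh.HH_push_of_isAffineHom (FrobSch.frob X p) (QCoh.isQCoh_pullback _ (QCoh.isQCoh_of_isFinLocFree
      (H23.PullPush.isFinLocFree_of_isInvertible hL))) 1
    exact E.toEquiv.subsingleton_congr.1 h2
  exact ⟨fun a b => hinj (@Subsingleton.elim _ hsub _ _)⟩

end Groth.Agent.H75.FrobPow
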