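import Groth.Agent.H75.FrobKerAlg
import Groth.Agent.H75.MulRestrict
import Groth.Agent.H23.Frame
import Groth.Agent.QCoh.PullbackBC
import Groth.Agent.QCoh.CokerQC
import Groth.Agent.QCoh.TensorSections
import Groth.Agent.OmegaUniv.ToSectIso
import Groth.Agent.OmegaUniv.Unram
import Groth.Agent.ResSurf.Normal
import Groth.Agent.Lib.PnDualExt
import Groth.Agent.FrobSchLib.Basic
import Groth.Agent.ZClosLib.Basic

/-!
# The unit `E → F_* F^* E` of Frobenius on first cohomology
-/

universe u

open CategoryTheory CategoryTheory.Limits AlgebraicGeometry TopologicalSpace Opposite MonoidalCategory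
open scoped TensorProduct
open Groth.Agent.InvX

set_option backward.isDefEq.respectTransparency false
set_option backward.isDefEq.respectTransparency.types false
set_option linter.style.haveILetI false
set_option linter.unusedSectionVars false

attribute [local instance] HasDerivedCategory.standard

noncomputable section

namespace Groth.Agent.H75.FrobUnit

open Groth.Agent

/-- Inverse images of a basis of sections form a basis. -/
theorem bijective_pullSec_comb {X X' : Scheme.{u}} (φ : X' ⟶ X) {M : X.Modules} (hM : Coh.IsQCoh M)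
    {V : X.Opens} (hV : IsAffineOpen V) {W : X'.Opens} (hW : IsAffineOpen W) (hle : W ≤ φ ⁻¹ᵁ V) {n : ℕ}
    (s : Fin n → Γ(M, V)) (hs : Function.Bijective fun c : Fin n → Γ(X, V) => ∑ i, c i • s i) :
    Function.Bijective fun c : Fin n → Γ(X', W) => ∑ i, c i • QCoh.pullSec φ M hle (s i) := by
  letI : Algebra Γ(X, V) Γ(X', W) := (φ.appLE V W hle).hom.toAlgebra
  let P := (Scheme.Modules.pullback φ).obj M
  letI : Module Γ(X, V) Γ(P, W) := Module.compHom _ (algebraMap Γ(X, V) Γ(X', W))
  haveI : IsScalarTower Γ(X, V) Γ(X', W) Γ(P, W) := .of_algebraMap_smul fun _ _ => rfl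
  let l : Γ(M, V) →ₗ[Γ(X, V)] Γ(P, W) :=
    { toFun := QCoh.pullSec φ M hle
      map_add' := QCoh.pullSec_add φ M hle
      map_smul' := fun r x => QCoh.pullSec_smul φ M hle r x }
  have hl : IsBaseChange Γ(X', W) l :=
    QCoh.isBaseChange_pullback hV φ hW hM hle (fun _ => rfl) l fun _ => rfl
  let e : (Fin n → Γ(X, V)) →ₗ[Γ(X, V)] Γ(M, V) := Fintype.linearCombination Γ(X, V) s
  have he : ⇑e = fun c : Fin n → Γ(X, V) => ∑ i, c i • s i :=
    funext fun c => Fintype.linearCombination_apply _ _ c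
  let b : Module.Basis (Fin n) Γ(X, V) Γ(M, V) :=
    Module.Basis.ofEquivFun (LinearEquiv.ofBijective e (he ▸ hs)).symm
  have hb : ∀ i, b i = s i := fun i => by
    classical
    simp [b, Module.Basis.coe_ofEquivFun, e, Fintype.linearCombination_apply_single]
  let B := (b.baseChange Γ(X', W)).map hl.equiv
  have hB : ∀ i, B i = QCoh.pullSec φ M hle (s i) := fun i => by
    simp [B, IsBaseChange.equiv_tmul, hb]
    rfl
  have : (fun c : Fin n → Γ(X', W) => ∑ i, c i • QCoh.pullSec φ M hle (s i)) = ⇑B.equivFun.symm :=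
    funext fun c => by simp [Module.Basis.equivFun_symm_apply, hB]
  rw [this]
  exact B.equivFun.symm.bijective

/-- Tensors with the elements of a basis vanish only trivially. -/
theorem eq_zero_of_sum_tmul {A P Q : Type u} [CommRing A] [AddCommGroup P] [Module A P] [AddCommGroup Q]
    [Module A Q] {n : ℕ} (s : Fin n → P) (hs : Function.Bijective fun c : Fin n → A => ∑ i, c i • s i)
    (q : Fin n → Q) (h : ∑ i, s i ⊗ₜ[A] q i = 0) (j : Fin n) : q j = 0 := by
  classical
  let e : (Fin n → A) →ₗ[A] P := Fintype.linearCombination A s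
  have he : ⇑e = fun c : Fin n → A => ∑ i, c i • s i :=
    funext fun c => Fintype.linearCombination_apply _ _ c
  let E := LinearEquiv.ofBijective e (he ▸ hs)
  let f : P →ₗ[A] A := LinearMap.proj j ∘ₗ E.symm.toLinearMap
  have hf : ∀ i, f (s i) = (Pi.single i (1 : A) : Fin n → A) j := fun i => by
    have : E.symm (s i) = Pi.single i 1 := E.symm_apply_eq.2 (by simp [E, e, Fintype.linearCombination_apply_single])
    exact congrFun this j
  have h1 := congrArg (fun z => TensorProduct.lid A Q (LinearMap.rTensor Q f z)) h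
  simp only [map_sum, LinearMap.rTensor_tmul, TensorProduct.lid_tmul, map_zero, hf] at h1
  simpa [Pi.single_apply, Finset.sum_ite_eq] using h1

variable (p : ℕ) [Fact p.Prime] {X Y : Scheme.{u}} [FrobSch.IsCharP X p] (g : X ⟶ Y) [QuasiSeparated g]
  (E : X.Modules)

/-- The target of the connection. -/
abbrev tgt : X.Modules :=
  CohB1.tensorMod ((Scheme.Modules.pullback (FrobSch.frob X p)).obj E) (Omega.sheaf g)

/-- The inverse image of a section by Frobenius. -/
def pb {W : X.Opens} (m : Γ(E, W)) : Γ((Scheme.Modules.pullback (FrobSch.frob X p)).obj E, W) :=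
  QCoh.pullSec (FrobSch.frob X p) E (le_refl W) m

theorem pb_add {W : X.Opens} (m m' : Γ(E, W)) : pb p E (m + m') = pb p E m + pb p E m' :=
  QCoh.pullSec_add _ E _ m m'

theorem pb_smul {W : X.Opens} (r : Γ(X, W)) (m : Γ(E, W)) : pb p E (r • m) = r ^ p • pb p E m := by
  refine (QCoh.pullSec_smul (FrobSch.frob X p) E (le_refl W) r m).trans ?_
  congr 1
  rw [Scheme.Hom.appLE, CommRingCat.comp_apply]
  exact (congrArg _ (FrobSch.frob_app X p W r)).trans (QCoh.ringMap_id _ _)

theorem pb_eq {W : X.Opens} (m : Γ(E, W)) : pb p E m =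
    (show Γ((Scheme.Modules.pullback (FrobSch.frob X p)).obj E, W) from
      ((Scheme.Modules.pullbackPushforwardAdjunction (FrobSch.frob X p)).unit.app E).app W m) :=
  AModX.res_self _

theorem pb_res {V W : X.Opens} (h : W ≤ V) (m : Γ(E, V)) :
    AModX.res _ h (pb p E m) = pb p E (AModX.res E h m) := by
  rw [pb_eq, pb_eq]
  exact (AModX.app_res ((Scheme.Modules.pullbackPushforwardAdjunction (FrobSch.frob X p)).unit.app E) h m).symm

/-- The differential. -/
def d (W : X.Opens) (s : Γ(X, W)) : Γ(Omega.sheaf g, W) := OmegaSh.dSect g W s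

theorem d_pow (W : X.Opens) (r : Γ(X, W)) : d g W (r ^ p) = 0 := by
  have key : ∀ m : ℕ, d g W (r ^ (m + 1)) = ((m + 1 : ℕ) : Γ(X, W)) • (r ^ m • d g W r) := by
    intro m
    induction m with
    | zero => simp [d]
    | succ m ih =>
      show OmegaSh.dSect g W (r ^ (m + 1 + 1)) = _ • (_ • OmegaSh.dSect g W r)
      rw [pow_succ, OmegaSh.dSect_mul, show OmegaSh.dSect g W (r ^ (m + 1)) = _ from ih]
      show r ^ (m + 1) • OmegaSh.dSect g W r + r • (_ • (_ • OmegaSh.dSect g W r)) = _
      rw [← mul_smul, ← mul_smul, ← mul_smul, ← add_smul]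
      congr 1
      push_cast
      ring
  obtain ⟨m, hm⟩ := Nat.exists_eq_add_one.2 (Fact.out : p.Prime).pos
  rw [hm, key, ← hm, FrobSch.natCast_eq_zero_app, zero_smul]

theorem d_one (W : X.Opens) : d g W 1 = 0 := by
  have h := OmegaSh.dSect_mul g W 1 1
  rw [one_mul, one_smul] at h
  exact left_eq_add.1 h

theorem d_zero (W : X.Opens) : d g W 0 = 0 := by
  have h := OmegaSh.dSect_add g W 0 0
  rw [add_zero] at h
  exact left_eq_add.1 h

theorem d_sum (W : X.Opens) {ι : Type*} (t : Finset ι) (f : ι → Γ(X, W)) :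
    d g W (∑ i ∈ t, f i) = ∑ i ∈ t, d g W (f i) :=
  map_sum (AddMonoidHom.mk' (d g W) (OmegaSh.dSect_add g W)) f t

theorem d_pow_mul (W : X.Opens) (r a : Γ(X, W)) : d g W (r ^ p * a) = r ^ p • d g W a := by
  rw [d, OmegaSh.dSect_mul, show OmegaSh.dSect g W (r ^ p) = 0 from d_pow p g W r, smul_zero, add_zero]
  rfl

theorem d_res {V W : X.Opens} (h : W ≤ V) (a : Γ(X, V)) :
    AModX.res _ h (d g V a) = d g W (AModX.resR h a) := (OmegaSh.dSect_map g h a).symm

theorem tmul_sum_left {W : X.Opens} {M N : X.Modules} {ι : Type*} (t : Finset ι) (f : ι → Γ(M, W))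
    (b : Γ(N, W)) : InvX.tmul (∑ i ∈ t, f i) b = ∑ i ∈ t, InvX.tmul (f i) b := by
  classical
  induction t using Finset.induction with
  | empty => simp only [Finset.sum_empty]; exact AmpleVan.tmul_zero_left b
  | insert a t ha ih => rw [Finset.sum_insert ha, Finset.sum_insert ha, AmpleVan.tmul_add_left, ih]

/-- A frame of inverse images. -/
structure Frm (W : X.Opens) where
  n : ℕ
  s : Fin n → Γ(E, W)
  span : Function.Surjective fun c : Fin n → Γ(X, W) => ∑ i, c i • s i
  basis : Function.Bijective fun c : Fin n → Γ(X, W) => ∑ i, c i • pb p E (s i)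

variable {p E}

/-- The coordinates. -/
def coord {W : X.Opens} (F : Frm p E W) (t : Γ((Scheme.Modules.pullback (FrobSch.frob X p)).obj E, W)) :
    Fin F.n → Γ(X, W) :=
  Function.surjInv F.basis.2 t

theorem sum_coord {W : X.Opens} (F : Frm p E W)
    (t : Γ((Scheme.Modules.pullback (FrobSch.frob X p)).obj E, W)) :
    ∑ i, coord F t i • pb p E (F.s i) = t :=
  Function.surjInv_eq F.basis.2 t

theorem coord_sum {W : X.Opens} (F : Frm p E W) (c : Fin F.n → Γ(X, W)) :
    coord F (∑ i, c i • pb p E (F.s i)) = c :=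
  F.basis.1 (Function.surjInv_eq F.basis.2 _)

/-- The connection in a frame. -/
def nab {W : X.Opens} (F : Frm p E W) :
    Γ((Scheme.Modules.pullback (FrobSch.frob X p)).obj E, W) →+ Γ(tgt p g E, W) :=
  AddMonoidHom.mk' (fun t => ∑ i, InvX.tmul (pb p E (F.s i)) (d g W (coord F t i))) fun t t' => by
    have h : coord F (t + t') = coord F t + coord F t' := by
      conv_lhs => rw [← sum_coord F t, ← sum_coord F t', ← Finset.sum_add_distrib]
      simp only [← add_smul]
      exact coord_sum F _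
    simp only [h, Pi.add_apply, d, OmegaSh.dSect_add, MulR.tmul_add_right, Finset.sum_add_distrib]

theorem nab_smul_pb {W : X.Opens} (F : Frm p E W) (a : Γ(X, W)) (m : Γ(E, W)) :
    nab g F (a • pb p E m) = InvX.tmul (pb p E m) (d g W a) := by
  obtain ⟨c, rfl⟩ := F.span m
  have hpb : pb p E (∑ i, c i • F.s i) = ∑ i, c i ^ p • pb p E (F.s i) := by
    rw [show pb p E (∑ i, c i • F.s i) = ∑ i, pb p E (c i • F.s i) from
      map_sum (AddMonoidHom.mk' (pb p E (W := W)) (pb_add p E)) _ _]
    exact Finset.sum_congr rfl fun i _ => pb_smul p E _ _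
  rw [hpb, Finset.smul_sum, tmul_sum_left]
  simp only [← mul_smul]
  show ∑ i, InvX.tmul (pb p E (F.s i)) (d g W (coord F _ i)) = _
  rw [coord_sum]
  refine Finset.sum_congr rfl fun i _ => ?_
  rw [mul_comm a, d_pow_mul, InvX.tmul_smul_right, InvX.tmul_smul_left]

theorem nab_indep {W : X.Opens} (F F' : Frm p E W)
    (t : Γ((Scheme.Modules.pullback (FrobSch.frob X p)).obj E, W)) : nab g F t = nab g F' t := by
  conv_lhs => rw [← sum_coord F' t, map_sum]
  exact Finset.sum_congr rfl fun i _ => nab_smul_pb g F _ _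

theorem nab_res {V W : X.Opens} (h : W ≤ V) (F : Frm p E V) (F' : Frm p E W)
    (t : Γ((Scheme.Modules.pullback (FrobSch.frob X p)).obj E, V)) :
    AModX.res _ h (nab g F t) = nab g F' (AModX.res _ h t) := by
  conv_rhs => rw [← sum_coord F t, map_sum, map_sum]
  rw [show nab g F t = ∑ i, InvX.tmul (pb p E (F.s i)) (d g V (coord F t i)) from rfl, map_sum]
  refine Finset.sum_congr rfl fun i _ => ?_
  rw [InvX.res_tmul, d_res, pb_res, AModX.res_smul, pb_res, nab_smul_pb]

theorem nab_pb {W : X.Opens} (F : Frm p E W) (m : Γ(E, W)) : nab g F (pb p E m) = 0 := by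
  rw [← one_smul Γ(X, W) (pb p E m), nab_smul_pb, d_one, MulR.tmul_zero_right]

variable (p)

/-- Frames exist on small affine opens. -/
theorem exists_frm (hE : FlatMod.IsFinLocFree E) (x : X) :
    ∃ U : X.Opens, x ∈ U ∧ ∀ W ≤ U, IsAffineOpen W → Nonempty (Frm p E W) := by
  obtain ⟨U, n, hx, ⟨e⟩⟩ := hE x
  obtain ⟨s, hs⟩ := H23.Frame.exists_frame e
  refine ⟨U, hx, fun W hW hWa => ⟨⟨n, fun i => E.presheaf.map (homOfLE hW).op (s i), (hs W hW).2, ?_⟩⟩⟩
  exact bijective_pullSec_comb (FrobSch.frob X p) (QCoh.isQCoh_of_isFinLocFree hE) hWa hWa le_rfl _ (hs W hW)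

section Main

variable (k : Type u) [Field k] [IsAlgClosed k] {X : Scheme.{u}} [X.Over (Spec (CommRingCat.of k))]
  [IsProper (X ↘ Spec (CommRingCat.of k))] [IsIntegral X] [FrobSch.IsCharP X p] {E : X.Modules}

/-- A function with vanishing differential on an affine open of a normal variety is a `p`-th power. -/
theorem exists_pow_eq_of_d_eq_zero (hXn : Pi1.IsNormalScheme X) {W : X.Opens} [Nonempty W] (hW : IsAffineOpen W)
    {a : Γ(X, W)} (ha : d (X ↘ Spec (CommRingCat.of k)) W a = 0) : ∃ c, c ^ p = a := by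
  let f := X ↘ Spec (CommRingCat.of k)
  obtain ⟨ψ, -, hψ⟩ := OmegaUniv.exists_retraction f hW (isAffineOpen_top (Spec (CommRingCat.of k)))
    (show W ≤ f ⁻¹ᵁ ⊤ from le_top)
  letI : Algebra Γ(Spec (CommRingCat.of k), ⊤) Γ(X, W) := (f.appLE ⊤ W le_top).hom.toAlgebra
  have h1 : KaehlerDifferential.D Γ(Spec (CommRingCat.of k), ⊤) Γ(X, W) a = 0 := by
    rw [← hψ a, show OmegaSh.dSect f W a = 0 from ha, map_zero]
  let φ : k →+* Γ(Spec (CommRingCat.of k), ⊤) := (Scheme.ΓSpecIso (CommRingCat.of k)).inv.hom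
  letI : Algebra k Γ(X, W) := ((f.appLE ⊤ W le_top).hom.comp φ).toAlgebra
  have h2 := FrobKerAlg.D_eq_zero_of_surjective φ
    (ConcreteCategory.bijective_of_isIso (Scheme.ΓSpecIso (CommRingCat.of k)).inv).2 (fun _ => rfl) h1
  haveI : CharP Γ(X, W) p := (CharP.charP_iff_prime_eq_zero Fact.out).2 (FrobSch.natCast_eq_zero_app X p W)
  haveI := ResSurf.isIntegrallyClosed_affine hXn hW
  exact FrobKerAlg.exists_pow_eq_of_D_eq_zero_normal p k h2

/-- The unit of Frobenius. -/
abbrev η (E : X.Modules) :=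
  (Scheme.Modules.pullbackPushforwardAdjunction (FrobSch.frob X p)).unit.app E

theorem η_app {W : X.Opens} (m : Γ(E, W)) :
    (show Γ((Scheme.Modules.pullback (FrobSch.frob X p)).obj E, W) from (η p E).app W m) = pb p E m :=
  (AModX.res_self _).symm

theorem mono_η (hE : FlatMod.IsFinLocFree E) : Mono (η p E) := by
  have hinj : ∀ (V : X.Opens) (m : Γ(E, V)), (η p E).app V m = 0 → m = 0 := by
    intro V m hm
    refine AModX.eq_of_locally _ _ fun x hx => ?_
    obtain ⟨U, hxU, hF⟩ := exists_frm p hE x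
    obtain ⟨W, hW, hxW, hWUV⟩ := exists_isAffineOpen_mem_and_subset (show x ∈ U ⊓ V from ⟨hxU, hx⟩)
    have hWV : W ≤ V := le_trans hWUV inf_le_right
    refine ⟨W, hWV, hxW, ?_⟩
    obtain ⟨F⟩ := hF W (le_trans hWUV inf_le_left) hW
    rw [map_zero]
    obtain ⟨c, hc⟩ := F.span (AModX.res E hWV m)
    have h0 : pb p E (AModX.res E hWV m) = 0 := by
      rw [← pb_res]
      show AModX.res _ hWV (pb p E m) = 0
      rw [← η_app, hm]
      exact map_zero _
    rw [← hc, show pb p E (∑ i, c i • F.s i) = ∑ i, pb p E (c i • F.s i) from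
      map_sum (AddMonoidHom.mk' (pb p E (W := W)) (pb_add p E)) _ _] at h0
    simp only [pb_smul] at h0
    have hc0 : (fun i => c i ^ p) = 0 := F.basis.1 (h0.trans (by simp))
    rw [← hc]
    refine Finset.sum_eq_zero fun i _ => ?_
    rw [IsReduced.eq_zero (c i) ⟨p, congrFun hc0 i⟩, zero_smul]
  refine ⟨fun {Z} α β h => QCoh.hom_ext_app fun W s => sub_eq_zero.1 (hinj W _ ?_)⟩
  rw [map_sub]
  exact sub_eq_zero.2 (congrArg (fun γ : Z ⟶ _ => γ.app W s) h)

/-- **Injectivity of `H¹(E) → H¹(F_* F^* E)`.** -/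
theorem injective_H_one (hXn : Pi1.IsNormalScheme X) (hE : FlatMod.IsFinLocFree E)
    (h0 : Subsingleton (Coh.HH X (tgt p (X ↘ Spec (CommRingCat.of k)) E) 0)) :
    Function.Injective (Sheaf.H.map ((SheafOfModules.toSheaf X.ringCatSheaf).map (η p E)) 1) := by
  let g := X ↘ Spec (CommRingCat.of k)
  haveI : X.IsSeparated := ⟨by
    rw [Subsingleton.elim (terminal.from X) (g ≫ terminal.from _)]
    infer_instance⟩
  haveI := mono_η p hE
  let S := ShortComplex.mk (η p E) (cokernel.π (η p E)) (cokernel.condition _)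
  have hS : S.ShortExact :=
    ShortComplex.ShortExact.mk' (ShortComplex.exact_of_g_is_cokernel _ (cokernelIsCokernel _))
      inferInstance inferInstance
  -- sections of the cokernel vanish
  have hB : ∀ b : Γ(cokernel (η p E), ⊤), b = 0 := by
    intro b
    have hloc : ∀ x : X, ∃ (W : X.Opens) (_ : x ∈ W) (_ : IsAffineOpen W) (_ : Frm p E W)
        (t : Γ((Scheme.Modules.pullback (FrobSch.frob X p)).obj E, W)),
        (cokernel.π (η p E)).app W t = AModX.res _ (le_top : W ≤ ⊤) b ∧
        (∀ V ≤ W, IsAffineOpen V → Nonempty (Frm p E V)) := by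
      intro x
      obtain ⟨U₁, ι₁, hxU₁, t₁, ht₁⟩ := QCoh.exists_local_preimage (cokernel.π (η p E)) b (x := x) trivial
      obtain ⟨U, hxU, hF⟩ := exists_frm p hE x
      obtain ⟨W, hW, hxW, hWle⟩ := exists_isAffineOpen_mem_and_subset (show x ∈ U ⊓ U₁ from ⟨hxU, hxU₁⟩)
      have hWU₁ : W ≤ U₁ := le_trans hWle inf_le_right
      have hWU : W ≤ U := le_trans hWle inf_le_left
      refine ⟨W, hxW, hW, (hF W hWU hW).some, AModX.res _ hWU₁ t₁, ?_, fun V hV hVa => hF V (hV.trans hWU) hVa⟩
      have := AModX.app_res (cokernel.π (η p E)) hWU₁ t₁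
      refine this.trans ?_
      refine (congrArg (AModX.res _ hWU₁) (show (cokernel.π (η p E)).app U₁ t₁ = AModX.res _ ι₁ b from ht₁)).trans ?_
      exact AModX.res_res _ _ _
    choose W hxW hWa F t ht hFV using hloc
    have hker : ∀ (V : X.Opens) (s : Γ((Scheme.Modules.pullback (FrobSch.frob X p)).obj E, V)),
        (cokernel.π (η p E)).app V s = 0 → ∃ m : Γ(E, V), pb p E m = s := by
      intro V s hs
      obtain ⟨m, hm⟩ := TopCat.Sheaf.sections_exact_of_left_exact (U := V) (QCoh.toAb_shortExact hS).exact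
        (QCoh.toAb_shortExact hS).mono_f s hs
      exact ⟨m, (η_app p m).symm.trans hm⟩
    obtain ⟨w, hw, -⟩ := AModX.existsUnique_glue (M := tgt p g E) (V := ⊤) W (fun _ => le_top)
      (fun x _ => ⟨x, hxW x⟩) (fun x => nab g (F x) (t x)) fun x y => by
        have hVa : IsAffineOpen (W x ⊓ W y) := (hWa x).inf (hWa y)
        obtain ⟨G⟩ := hFV x (W x ⊓ W y) inf_le_left hVa
        rw [nab_res g inf_le_left (F x) G, nab_res g inf_le_right (F y) G, ← sub_eq_zero, ← map_sub]
        obtain ⟨m, hm⟩ := hker _ (AModX.res _ inf_le_left (t x) -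
            AModX.res _ (inf_le_right : W x ⊓ W y ≤ W y) (t y)) (by
          refine (map_sub _ _ _).trans (sub_eq_zero.2 ?_)
          refine ((AModX.app_res (cokernel.π (η p E)) inf_le_left (t x)).trans ?_).trans
            (AModX.app_res (cokernel.π (η p E)) (inf_le_right : W x ⊓ W y ≤ W y) (t y)).symm
          refine ((congrArg (AModX.res _ inf_le_left) (ht x)).trans ?_).trans
            (congrArg (AModX.res _ (inf_le_right : W x ⊓ W y ≤ W y)) (ht y)).symm
          exact (AModX.res_res _ _ _).trans (AModX.res_res _ _ _).symm)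
        rw [← hm, nab_pb]
    have hw0 : w = 0 := by
      have := (Sheaf.H.equiv₀ ((SheafOfModules.toSheaf X.ringCatSheaf).obj (tgt p g E))
        isTerminalTop).symm.injective
      exact this (h0.elim _ _)
    refine AModX.eq_of_locally _ _ fun x _ => ⟨W x, le_top, hxW x, ?_⟩
    haveI : Nonempty (W x) := ⟨⟨x, hxW x⟩⟩
    rw [map_zero, ← ht x]
    have h1 : nab g (F x) (t x) = 0 := by rw [← hw x, hw0, map_zero]
    have hpq : ∀ i, d g (W x) (coord (F x) (t x) i) = 0 := by
      refine eq_zero_of_sum_tmul (fun i => pb p E ((F x).s i)) (F x).basis _ ?_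
      refine (QCoh.bijective_tmLin (QCoh.isQCoh_pullback _ (QCoh.isQCoh_of_isFinLocFree hE))
        (OmegaUniv.isQCoh_omega g) (hWa x)).1 ?_
      rw [map_zero, map_sum]
      exact Eq.trans (Finset.sum_congr rfl fun i _ => QCoh.tmLin_tmul _ _ _ _) h1
    choose c hc using fun i => exists_pow_eq_of_d_eq_zero p k hXn (hWa x) (hpq i)
    have ht' : t x = pb p E (∑ i, c i • (F x).s i) := by
      conv_lhs => rw [← sum_coord (F x) (t x)]
      rw [show pb p E (∑ i, c i • (F x).s i) = ∑ i, pb p E (c i • (F x).s i) from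
        map_sum (AddMonoidHom.mk' (pb p E (W := W x)) (pb_add p E)) _ _]
      exact Finset.sum_congr rfl fun i _ => by rw [pb_smul, hc]
    rw [ht', ← η_app]
    exact congrArg (fun γ : E ⟶ cokernel (η p E) => γ.app (W x) (∑ i, c i • (F x).s i))
      (cokernel.condition (η p E))
  have hsub : Subsingleton (Coh.HH X (cokernel (η p E)) 0) :=
    ⟨fun a b => (Sheaf.H.equiv₀ ((SheafOfModules.toSheaf X.ringCatSheaf).obj (cokernel (η p E)))
      isTerminalTop).injective ((hB _).trans (hB _).symm)⟩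
  refine (injective_iff_map_eq_zero _).2 fun x hx => ?_
  obtain ⟨y, rfl⟩ := (PnDual.H_map_f_eq_zero_iff (Y := X.toPresheafedSpace.carrier)
    (T := S.map (QCoh.toAbFunctor X)) (QCoh.toAb_shortExact hS) 0 x).1 hx
  rw [show y = 0 from @Subsingleton.elim _ hsub _ _]
  exact map_zero _

end Main

end Groth.Agent.H75.FrobUnit
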