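import Groth.Agent.H75.ProjPush
import Groth.Agent.S3572
import Groth.Agent.Lib.ProjRegularPn
import Groth.Agent.ExistEasy.PP.HatLemmas
import Groth.Agent.Growth22.GenBy
import Groth.Agent.AmpleVan.FinGen
import Groth.Agent.AmpleX.Proj
import Groth.Agent.PnCoh.Chow.Proper
import Groth.Agent.SegreX.Basic
import Groth.Agent.H23.PicMul

/-!
# Multiplication of sections of high powers of a globally generated invertible module
-/

universe u

open CategoryTheory CategoryTheory.Limits AlgebraicGeometry TopologicalSpace Opposite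
open Groth.Agent.InvX
open scoped Groth.Agent.H23.PicMul

set_option backward.isDefEq.respectTransparency false
set_option backward.isDefEq.respectTransparency.types false
set_option linter.style.haveILetI false

noncomputable section

namespace Groth.Agent.H75.GGMul

open Groth.Agent

variable {k : Type u} [Field k] {n : ℕ}

local notation "P" => CohB1.ProjSpace n k
local notation "O(" d ")" => Twist.twistProjSpace n k d

theorem isAmple_one : CohB1.IsAmple (Twist.twistProjSpace n k 1) := by
  classical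
  let T : Finset (MvPolynomial (Fin (n + 1)) k) := Finset.univ.image MvPolynomial.X
  refine AmpleX.isAmple_twist_one _ T (fun g hg => ?_) ?_
  · obtain ⟨i, -, rfl⟩ := Finset.mem_image.1 hg
    exact ProjPt.X_mem i
  · refine Proj.iSup_basicOpen_eq_top _ _ ((SegreX.irrelevant_le_span n k).trans ?_)
    refine Ideal.span_mono ?_
    rintro _ ⟨i, rfl⟩
    exact ⟨⟨_, Finset.mem_image.2 ⟨i, Finset.mem_univ _, rfl⟩⟩, rfl⟩

theorem isInvertible_twist (d : ℤ) : PicF.IsInvertible O(d) :=
  PnCoh.Finite.isInvertible_twist (ProjRegular.coords k n) ProjRegular.coords_mem ProjRegular.coords_cover d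

theorem tensorPow_twist (d : ℕ) : Nonempty (O((d : ℤ)) ≅ CohB1.tensorPow (Twist.twistProjSpace n k 1) d) :=
  PnCoh.Finite.twist_tensorPow_iso (ProjRegular.coords k n) ProjRegular.coords_mem ProjRegular.coords_cover d

/-- High twists of a coherent module on projective space are regular. -/
theorem exists_regular {G : (CohB1.ProjSpace n k).Modules} (hG : Coh.IsCoh G) :
    ∃ a₀ : ℕ, ∀ a : ℕ, a₀ ≤ a → Curv2.IsMRegular k n G (a : ℤ) := by
  haveI : IsProper ((CohB1.ProjSpace n k) ↘ Spec (CommRingCat.of k)) := PnCoh.Chow.isProper_toSpec n k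
  obtain ⟨d₀, hd₀⟩ := AmpleVan.exists_vanishing (A := k) isAmple_one hG
  refine ⟨d₀ + n, fun a ha i hi hin => ?_⟩
  obtain ⟨q, rfl⟩ := Nat.exists_eq_add_of_le hi
  obtain ⟨e, he⟩ : ∃ e : ℕ, (a : ℤ) - ((1 + q : ℕ) : ℤ) = e := ⟨a - (1 + q), by omega⟩
  rw [he, add_comm 1 q]
  obtain ⟨φ⟩ := tensorPow_twist (k := k) (n := n) e
  refine QCoh.subsingleton_HH_of_iso (((DCoh.tensorBi.obj G).mapIso φ).symm) (q + 1) ?_
  exact hd₀ e (by omega) q

/-- On projective space multiplication by sections of nonnegative twists is onto after a high twist. -/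
theorem exists_surjective_twist {G : (CohB1.ProjSpace n k).Modules} (hG : Coh.IsCoh G) :
    ∃ a₀ : ℕ, ∀ a b : ℕ, a₀ ≤ a →
      Function.Surjective (MulR.mu (CohB1.tensorMod G (Twist.twistProjSpace n k (a : ℤ))) O((b : ℤ))) := by
  obtain ⟨a₀, h⟩ := exists_regular hG
  exact ⟨a₀, fun a b ha => ProjRegular.surjective_toSheafify ProjRegular.coords_mem ProjRegular.coords_cover
    (ProjRegular.reg0_of_isMRegular hG (h a ha)) b⟩

/-- Multiplication of sections of high powers of a globally generated invertible module is onto. -/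
theorem exists_surjective_mu {X : Scheme.{u}} (f : X ⟶ Spec (CommRingCat.of k)) [IsProper f]
    {L : X.Modules} (hL : PicF.IsInvertible L) (hLg : Curv2.IsGloballyGenerated L)
    {F : X.Modules} (hF : Coh.IsCoh F) :
    ∃ a₀ : ℕ, ∀ a b : ℕ, a₀ ≤ a →
      Function.Surjective (MulR.mu (CohB1.tensorMod F (CohB1.tensorPow L a)) (CohB1.tensorPow L b)) := by
  haveI : CompactSpace X := QuasiCompact.compactSpace_of_compactSpace f
  haveI : IsLocallyNoetherian X := LocallyOfFiniteType.isLocallyNoetherian f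
  obtain ⟨ι, s, hs⟩ := Growth22.exists_generatedBy_of_isGloballyGenerated hL hLg
  obtain ⟨m, j, hj⟩ := AmpleVan.exists_fin_generatedBy (CurveDeg.isCoh_of_isInvertible hL) s hs
  let t : Fin (m + 1) → ProjUP.Γm L := Fin.cons (0 : ProjUP.Γm L) (s ∘ j)
  have ht : ProjUP.GeneratedBy L t := fun x => top_le_iff.1 <| (hj x).ge.trans <| Submodule.span_mono <| by
    rintro _ ⟨i, rfl⟩
    exact ⟨i.succ, by simp [t]⟩
  obtain ⟨r, hr, τ, -⟩ := S3572.result m f L hL t ht
  haveI : IsProper (CohB1.ProjSpace.toSpec m k) := PnCoh.Chow.isProper_toSpec m k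
  haveI : IsProper r := by
    haveI : IsProper (r ≫ CohB1.ProjSpace.toSpec m k) := hr ▸ ‹IsProper f›
    exact IsProper.of_comp r (CohB1.ProjSpace.toSpec m k)
  haveI hP : IsNoetherian (Proj (CohB1.polyGrading m k)) := Proj16.isNoetherian_proj _
  haveI : IsLocallyNoetherian (CohB1.ProjSpace m k) := hP.toIsLocallyNoetherian
  have hfF := ExistEasy.isCoh_pushforward_proper r hF
  obtain ⟨a₀, h⟩ := exists_surjective_twist hfF
  have hpow : ∀ d : ℕ, Nonempty ((Scheme.Modules.pullback r).obj (Twist.twistProjSpace m k (d : ℤ)) ≅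
      CohB1.tensorPow L d) := fun d => by
    obtain ⟨φ⟩ := tensorPow_twist (k := k) (n := m) d
    refine H23.PicMul.cl_eq_iff.1 ?_
    have h1 : PicF.cl ((Scheme.Modules.pullback r).obj (Twist.twistProjSpace m k (d : ℤ))) =
        PicF.cl ((Scheme.Modules.pullback r).obj (CohB1.tensorPow (Twist.twistProjSpace m k 1) d)) :=
      H23.PicMul.cl_eq_iff.2 ⟨(Scheme.Modules.pullback r).mapIso φ⟩
    have h2 : PicF.cl ((Scheme.Modules.pullback r).obj (CohB1.tensorPow (Twist.twistProjSpace m k 1) d)) =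
        PicF.cl ((Scheme.Modules.pullback r).obj (Twist.twistProjSpace m k 1)) ^ d :=
      ((congrArg (PicF.pullCl r) (H23.PicMul.cl_tensorPow _ d))).trans
        (H23.PicMul.pullCl_pow r (PicF.cl (Twist.twistProjSpace m k 1)) d)
    rw [h1, h2, H23.PicMul.cl_tensorPow, H23.PicMul.cl_eq_iff.2 ⟨τ⟩]
  refine ⟨a₀, fun a b ha => ?_⟩
  obtain ⟨ea⟩ := hpow a
  obtain ⟨eb⟩ := hpow b
  have hM : Coh.IsCoh (CohB1.tensorMod F (CohB1.tensorPow L a)) :=
    AmpleVan.isCoh_tensor hF (AmpleVan.isCoh_invertible (InvX.isInvertible_tensorPow hL a))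
  haveI := ProjPush.isIso_projMod_invertible r hF.1 hfF.1 (isInvertible_twist (k := k) (n := m) (a : ℤ))
  let e := asIso (KFlatLib.projMod r F (Twist.twistProjSpace m k (a : ℤ))) ≪≫
    (Scheme.Modules.pushforward r).mapIso ((DCoh.tensorBi.obj F).mapIso ea)
  exact ProjPush.surjective_mu_pullback r hM.1 (ExistEasy.isCoh_pushforward_proper r hM).1
    (isInvertible_twist (b : ℤ)) eb (ProjPush.surjective_mu_of_iso e (Iso.refl _) (h a b ha))

end Groth.Agent.H75.GGMul
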