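import Groth.Agent.AmpleX.SemiAmple
import Groth.Agent.AmpleX.Generated
import Groth.Agent.AmpleX.QAGenerated
import Groth.Agent.AmpleVan.Tw

/-!
# Non-zero sections of invertible modules on integral schemes
-/

universe u

open CategoryTheory CategoryTheory.Limits AlgebraicGeometry TopologicalSpace
open Groth.Agent.H23.PicMul

set_option backward.isDefEq.respectTransparency false
set_option backward.isDefEq.respectTransparency.types false
set_option linter.style.haveILetI false

namespace Groth.Agent.H75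

open Groth.Agent

variable {X : Scheme.{u}} {L M N : X.Modules}

/-- `one` determines the morphism. -/
lemma eq_zero_of_one_eq (s : Coh.structureModule X ⟶ L) (h : InvX.one s = 0) : s = 0 :=
  AmpleX.eq_zero_of_one_eq_zero s h

/-- A section of an invertible module on an integral scheme is non-zero iff its generating locus is
non-empty. -/
theorem ne_zero_iff [IsIntegral X] (hL : PicF.IsInvertible L) (s : Coh.structureModule X ⟶ L) :
    s ≠ 0 ↔ CohB1.genLocus L s ≠ ⊥ := by
  constructor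
  · intro hs h
    refine hs (eq_zero_of_one_eq s (AmpleX.eq_zero_of_locus_eq_bot hL _ ?_))
    rw [← AmpleX.genLocus_eq_locus s]
    exact h
  · rintro hs rfl
    obtain ⟨x, hx⟩ : ((CohB1.genLocus L (0 : Coh.structureModule X ⟶ L)) : Set X).Nonempty := by
      rw [Set.nonempty_iff_ne_empty]
      exact fun h => hs (Opens.ext h)
    obtain ⟨U, hxU, hU⟩ := InvX.mem_genLocus hx
    have h1 : AModX.res L (le_top : U ≤ ⊤) (InvX.one (0 : Coh.structureModule X ⟶ L)) = 0 := map_zero _
    rw [h1] at hU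
    haveI : Nonempty U := ⟨⟨x, hxU⟩⟩
    exact one_ne_zero (hU.coord_unique (r := (1 : Γ(X, U))) (r' := 0) le_rfl (by simp))

/-- Products of non-zero sections are non-zero. -/
theorem mulHom_ne_zero [IsIntegral X] (hM : PicF.IsInvertible M) (hN : PicF.IsInvertible N)
    {s : Coh.structureModule X ⟶ M} {t : Coh.structureModule X ⟶ N} (hs : s ≠ 0) (ht : t ≠ 0) :
    InvX.mulHom s t ≠ 0 := by
  rw [ne_zero_iff (InvX.isInvertible_tensorMod hM hN), InvX.genLocus_mulHom hM hN]
  obtain ⟨x, hx⟩ : (CohB1.genLocus M s : Set X).Nonempty := Set.nonempty_iff_ne_empty.2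
    fun h => (ne_zero_iff hM s).1 hs (Opens.ext h)
  obtain ⟨y, hy⟩ : (CohB1.genLocus N t : Set X).Nonempty := Set.nonempty_iff_ne_empty.2
    fun h => (ne_zero_iff hN t).1 ht (Opens.ext h)
  intro h
  obtain ⟨z, hz⟩ := nonempty_preirreducible_inter (CohB1.genLocus M s).2 (CohB1.genLocus N t).2
    ⟨x, hx⟩ ⟨y, hy⟩
  have : z ∈ (⊥ : X.Opens) := h ▸ (show z ∈ CohB1.genLocus M s ⊓ CohB1.genLocus N t from hz)
  exact this.elim

/-- Having a non-zero section depends only on the class. -/
theorem exists_ne_zero_of_cl (h : PicF.cl M = PicF.cl N)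
    (hM : ∃ s : Coh.structureModule X ⟶ M, s ≠ 0) : ∃ t : Coh.structureModule X ⟶ N, t ≠ 0 := by
  obtain ⟨s, hs⟩ := hM
  obtain ⟨e⟩ := cl_eq_iff.1 h
  exact ⟨s ≫ e.hom, fun h0 => hs (by rw [← cancel_mono e.hom, h0, zero_comp])⟩

/-- Non-zero sections multiply. -/
theorem exists_ne_zero_mul [IsIntegral X] (hM : PicF.IsInvertible M) (hN : PicF.IsInvertible N)
    (h₁ : ∃ s : Coh.structureModule X ⟶ M, s ≠ 0) (h₂ : ∃ t : Coh.structureModule X ⟶ N, t ≠ 0) :
    ∃ u : Coh.structureModule X ⟶ CohB1.tensorMod M N, u ≠ 0 :=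
  let ⟨_, hs⟩ := h₁
  let ⟨_, ht⟩ := h₂
  ⟨_, mulHom_ne_zero hM hN hs ht⟩

/-- The structure sheaf has a non-zero section. -/
theorem exists_ne_zero_one [IsIntegral X] : ∃ s : Coh.structureModule X ⟶ Coh.structureModule X, s ≠ 0 := by
  refine ⟨𝟙 _, fun h => ?_⟩
  have h1 : (1 : Γ(X, ⊤)) = 0 := by
    have := congrArg InvX.one h
    exact this
  exact one_ne_zero h1

/-- Powers of a module with a non-zero section have non-zero sections. -/
theorem exists_ne_zero_tensorPow [IsIntegral X] (hL : PicF.IsInvertible L)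
    (h : ∃ s : Coh.structureModule X ⟶ L, s ≠ 0) :
    ∀ n, ∃ s : Coh.structureModule X ⟶ CohB1.tensorPow L n, s ≠ 0
  | 0 => exists_ne_zero_one
  | n + 1 => exists_ne_zero_mul (InvX.isInvertible_tensorPow hL n) hL (exists_ne_zero_tensorPow hL h n) h

/-- A monomorphism carries non-zero sections to non-zero sections. -/
theorem exists_ne_zero_of_mono (φ : M ⟶ N) [Mono φ]
    (hM : ∃ s : Coh.structureModule X ⟶ M, s ≠ 0) : ∃ t : Coh.structureModule X ⟶ N, t ≠ 0 :=
  let ⟨s, hs⟩ := hM
  ⟨s ≫ φ, fun h => hs (by rw [← cancel_mono φ, h, zero_comp])⟩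

/-- Tensoring with an invertible module preserves monomorphisms. -/
theorem exists_mono_tensor (hN : PicF.IsInvertible N) (φ : L ⟶ M) [Mono φ] :
    ∃ ψ : CohB1.tensorMod L N ⟶ CohB1.tensorMod M N, Mono ψ := by
  haveI := AmpleVan.isEquivalence_tw hN
  exact ⟨(AmpleVan.tw N).map φ, inferInstance⟩

/-- Large twists by an ample module have non-zero sections. -/
theorem exists_ne_zero_twist [IsIntegral X] [CompactSpace X] [X.IsSeparated] (hL : CohB1.IsAmple L)
    (hM : PicF.IsInvertible M) :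
    ∃ n₀ : ℕ, 0 < n₀ ∧ ∀ n, n₀ ≤ n →
      ∃ s : Coh.structureModule X ⟶ CohB1.tensorMod (CohB1.tensorPow L n) M, s ≠ 0 := by
  have hft : CohB1.IsFT M :=
    QCoh.isFT_of_isFP (QCoh.isFP_of_isFinLocFree (H23.PullPush.isFinLocFree_of_isInvertible hM))
  obtain ⟨n₀, h⟩ := AmpleX.eventually_generated hL (ProjUPX.isQCoh_of_isInvertible hM) hft
  refine ⟨n₀ + 1, Nat.succ_pos _, fun n hn => ?_⟩
  obtain ⟨G, iso, ι, s, hs⟩ := h n (by omega)
  have hG : PicF.IsInvertible G := H23.PicMul.isInvertible_of_iso iso.symm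
    (InvX.isInvertible_tensorMod hM (InvX.isInvertible_tensorPow hL.1 n))
  obtain ⟨x⟩ : Nonempty X := inferInstance
  obtain ⟨i, U, hx, hU⟩ := InvX.exists_frame_of_generated hG s x (hs x)
  refine exists_ne_zero_of_cl (M := G) ?_ ⟨InvX.ofSect (s i), (ne_zero_iff hG _).2 fun h0 => ?_⟩
  · rw [cl_eq_iff.2 ⟨iso⟩, cl_tensor, cl_tensor, mul_comm]
  · have : x ∈ CohB1.genLocus G (InvX.ofSect (s i)) :=
      InvX.le_genLocus _ (by rw [InvX.one_ofSect]; exact hU) hx
    rw [h0] at this
    exact this.elim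

end Groth.Agent.H75

namespace Groth.Agent.H75

variable {X : Scheme.{u}} {L : X.Modules}

/-- A non-zero morphism from the structure sheaf makes `H⁰` non-trivial. -/
theorem nontrivial_HH_zero {M : X.Modules} (h : ∃ s : Coh.structureModule X ⟶ M, s ≠ 0) :
    Nontrivial (Coh.HH X M 0) := by
  obtain ⟨s, hs⟩ := h
  let e := Sheaf.H.equiv₀ (Coh.toAb M) (isTerminalTop : IsTerminal (⊤ : Opens X))
  refine ⟨e.symm (InvX.one s), 0, fun h0 => hs (eq_zero_of_one_eq s ?_)⟩
  have h1 := congrArg e h0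
  rw [AddEquiv.apply_symm_apply] at h1
  exact h1.trans (map_zero e)

/-- If two consecutive powers have non-zero sections then so do all large powers. -/
theorem exists_ne_zero_eventually [IsIntegral X] (hL : PicF.IsInvertible L) {m : ℕ} (hm : 0 < m)
    (h₁ : ∃ s : Coh.structureModule X ⟶ CohB1.tensorPow L m, s ≠ 0)
    (h₂ : ∃ s : Coh.structureModule X ⟶ CohB1.tensorPow L (m + 1), s ≠ 0) (N : ℕ) (hN : m * (m + 1) ≤ N) :
    ∃ s : Coh.structureModule X ⟶ CohB1.tensorPow L N, s ≠ 0 := by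
  have hr : N % m < m := Nat.mod_lt _ hm
  have hq : N % m ≤ N / m := by
    refine hr.le.trans ((Nat.le_div_iff_mul_le hm).2 (le_trans ?_ hN))
    nlinarith
  have key : (N / m - N % m) * m + N % m * (m + 1) = N := by
    have := Nat.div_add_mod N m
    zify [hq] at *
    linarith [this]
  refine exists_ne_zero_of_cl ?_ (exists_ne_zero_mul
    (InvX.isInvertible_tensorPow (InvX.isInvertible_tensorPow hL m) _)
    (InvX.isInvertible_tensorPow (InvX.isInvertible_tensorPow hL (m + 1)) _)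
    (exists_ne_zero_tensorPow (InvX.isInvertible_tensorPow hL m) h₁ (N / m - N % m))
    (exists_ne_zero_tensorPow (InvX.isInvertible_tensorPow hL (m + 1)) h₂ (N % m)))
  rw [cl_tensor, cl_tensorPow, cl_tensorPow, cl_tensorPow, cl_tensorPow, cl_tensorPow, ← pow_mul, ← pow_mul,
    ← pow_add]
  congr 1
  linarith [key]

end Groth.Agent.H75
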