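import Groth.Agent.VarBase.NakaiCrit
import Groth.Agent.VarBase.Decomp
import Groth.Agent.VanGrowth.Big
import Groth.Agent.IntNum47.Push
import Groth.Agent.IntNum47.NumInv
import Groth.Agent.H75.Sections
import Groth.Prelude.Def_NumR
import Mathlib.Topology.Algebra.Ring.Real
import Mathlib.Topology.Order.Compact

/-!
# Kleiman's positivity of nef invertible modules

On projective schemes the mixed intersection numbers of a nef and an ample module are non-negative,
and a nef module plus an ample one is ample.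
-/

universe u

open CategoryTheory CategoryTheory.Limits AlgebraicGeometry TopologicalSpace
open Groth.Agent.HilbPoly (iterD mult DimLT additive_iterD additive_euler)
open Groth.Agent.H23.PicMul

set_option backward.isDefEq.respectTransparency false
set_option backward.isDefEq.respectTransparency.types false
set_option linter.style.haveILetI false
set_option linter.unusedSectionVars false

attribute [local instance] HasDerivedCategory.standard

noncomputable section

namespace Groth.Agent.H75.Kleiman

open Groth.Agent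

/-- `a` copies of `L` and `b` copies of `A`. -/
abbrev lst {X : Scheme.{u}} (L A : X.Modules) (a b : ℕ) : List X.Modules :=
  List.replicate a L ++ List.replicate b A

section General

variable (k : Type u) [Field k] {X : Scheme.{u}} [X.Over (Spec (CommRingCat.of k))]
  [IsProper (X ↘ Spec (CommRingCat.of k))]

/-- The intersection number of a list of modules on a coherent module. -/
abbrev num (l : List X.Modules) (F : X.Modules) : ℤ := iterD l (Curv2.euler k X) F

theorem inv_lst {L A : X.Modules} (hL : PicF.IsInvertible L) (hA : PicF.IsInvertible A) (a b : ℕ) :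
    ∀ N ∈ lst L A a b, PicF.IsInvertible N := fun N hN =>
  (List.mem_append.1 hN).elim (fun h => List.eq_of_mem_replicate h ▸ hL) (fun h => List.eq_of_mem_replicate h ▸ hA)

theorem num_pow {L : X.Modules} (hL : PicF.IsInvertible L) {l : List X.Modules}
    (hl : ∀ C ∈ l, PicF.IsInvertible C) {F : X.Modules} (hF : Coh.IsCoh F) (hd : DimLT F (l.length + 2)) :
    ∀ p : ℕ, num k (CohB1.tensorPow L p :: l) F = p * num k (L :: l) F
  | 0 => by
    rw [Nat.cast_zero, zero_mul]
    exact IntNum47.iterD_structure (IntNum47.isoInv_euler k) l F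
  | p + 1 => by
    show num k (CohB1.tensorMod (CohB1.tensorPow L p) L :: l) F = _
    rw [num, IntNum47.iterD_tensor_one k (InvX.isInvertible_tensorPow hL p) hL hF hl rfl hd,
      show iterD (CohB1.tensorPow L p :: l) (Curv2.euler k X) F = _ from num_pow hL hl hF hd p]
    push_cast
    ring

/-- The combination `L^p ⊗ H^q`. -/
abbrev comb (L H : X.Modules) (p q : ℕ) : X.Modules :=
  CohB1.tensorMod (CohB1.tensorPow L p) (CohB1.tensorPow H q)

theorem inv_comb {L H : X.Modules} (hL : PicF.IsInvertible L) (hH : PicF.IsInvertible H) (p q : ℕ) :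
    PicF.IsInvertible (comb L H p q) :=
  InvX.isInvertible_tensorMod (InvX.isInvertible_tensorPow hL p) (InvX.isInvertible_tensorPow hH q)

theorem num_comb {L H : X.Modules} (hL : PicF.IsInvertible L) (hH : PicF.IsInvertible H) {l : List X.Modules}
    (hl : ∀ C ∈ l, PicF.IsInvertible C) {F : X.Modules} (hF : Coh.IsCoh F) (hd : DimLT F (l.length + 2))
    (p q : ℕ) : num k (comb L H p q :: l) F = p * num k (L :: l) F + q * num k (H :: l) F := by
  rw [← num_pow k hL hl hF hd, ← num_pow k hH hl hF hd]
  exact IntNum47.iterD_tensor_one k (InvX.isInvertible_tensorPow hL p) (InvX.isInvertible_tensorPow hH q)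
    hF hl rfl hd

/-- The homogeneous form `(L + tH)^r · L^a · H^b`, as a function of `t`. -/
def poly (f : ℕ → ℕ → ℝ) : ℕ → ℕ → ℕ → ℝ → ℝ
  | 0, a, b, _ => f a b
  | r + 1, a, b, t => poly f r (a + 1) b t + t * poly f r a (b + 1) t

theorem continuous_poly (f : ℕ → ℕ → ℝ) : ∀ r a b, Continuous (poly f r a b)
  | 0, _, _ => continuous_const
  | r + 1, a, b => (continuous_poly f r (a + 1) b).add (continuous_id.mul (continuous_poly f r a (b + 1)))

theorem poly_zero (f : ℕ → ℕ → ℝ) : ∀ r a b, poly f r a b 0 = f (a + r) b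
  | 0, _, _ => rfl
  | r + 1, a, b => by
    rw [poly, zero_mul, add_zero, poly_zero f r (a + 1) b, Nat.add_right_comm, Nat.add_assoc]

theorem poly_ge (f : ℕ → ℕ → ℝ) {t : ℝ} (ht : 0 ≤ t) : ∀ r a b,
    (∀ a' b', a' + b' = r + a + b → b ≤ b' → 0 ≤ f a' b') →
      0 ≤ poly f r a b t ∧ t ^ r * f a (b + r) ≤ poly f r a b t
  | 0, a, b, h => ⟨h a b (by omega) le_rfl, by simp [poly]⟩
  | r + 1, a, b, h => by
    obtain ⟨h1, -⟩ := poly_ge f ht r (a + 1) b fun a' b' e hb => h a' b' (by omega) hb
    obtain ⟨h2, h2'⟩ := poly_ge f ht r a (b + 1) fun a' b' e hb => h a' b' (by omega) (by omega)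
    refine ⟨add_nonneg h1 (mul_nonneg ht h2), ?_⟩
    rw [poly, show b + (r + 1) = b + 1 + r by omega, pow_succ, mul_right_comm, mul_comm _ t]
    exact (mul_le_mul_of_nonneg_left h2' ht).trans (le_add_of_nonneg_left h1)

theorem tendsto_poly (f : ℕ → ℕ → ℝ) : ∀ r a b,
    Filter.Tendsto (fun t => poly f r a b t / t ^ r) Filter.atTop (nhds (f a (b + r)))
  | 0, a, b => by simpa [poly] using tendsto_const_nhds
  | r + 1, a, b => by
    have h1 := ((tendsto_poly f r (a + 1) b).mul tendsto_inv_atTop_zero).add (tendsto_poly f r a (b + 1))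
    rw [mul_zero, zero_add, show b + 1 + r = b + (r + 1) by omega] at h1
    refine h1.congr' ?_
    filter_upwards [Filter.eventually_gt_atTop (0 : ℝ)] with t ht
    rw [poly, pow_succ]
    field_simp

/-- Expanding powers of `L^p ⊗ H^q`. -/
theorem num_eq_poly {L H : X.Modules} (hL : PicF.IsInvertible L) (hH : PicF.IsInvertible H) {F : X.Modules}
    (hF : Coh.IsCoh F) {p q : ℕ} (hp : 0 < p) : ∀ (r a b : ℕ), DimLT F (r + a + b + 1) →
      (num k (List.replicate r (comb L H p q) ++ lst L H a b) F : ℝ) =
        (p : ℝ) ^ r * poly (fun a' b' => (num k (lst L H a' b') F : ℝ)) r a b ((q : ℝ) / p)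
  | 0, a, b, _ => by simp [poly]
  | r + 1, a, b, hd => by
    let A := comb L H p q
    let l := List.replicate r A ++ lst L H a b
    have hl : ∀ C ∈ l, PicF.IsInvertible C := fun C hC => (List.mem_append.1 hC).elim
      (fun h => List.eq_of_mem_replicate h ▸ inv_comb hL hH p q) (inv_lst hL hH a b C)
    have hlen : l.length = r + a + b := by simp [l, lst]; omega
    have h0 : num k (List.replicate (r + 1) A ++ lst L H a b) F =
        p * num k (List.replicate r A ++ lst L H (a + 1) b) F + q * num k (List.replicate r A ++ lst L H a (b + 1)) F := by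
      rw [show List.replicate (r + 1) A ++ lst L H a b = A :: l by simp [l, List.replicate_succ],
        num_comb k hL hH hl hF (by rw [hlen]; exact (show r + 1 + a + b + 1 = r + a + b + 2 by omega) ▸ hd)]
      refine congrArg₂ (fun x y => (p : ℤ) * x + (q : ℤ) * y) ?_ ?_
      · refine IntNum47.iterD_perm (IntNum47.isoInv_euler k) ?_ F
        exact List.perm_middle.symm.trans (by simp [lst, List.replicate_succ])
      · refine IntNum47.iterD_perm (IntNum47.isoInv_euler k) ?_ F
        refine List.perm_middle.symm.trans (List.Perm.append_left _ ?_)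
        exact List.perm_middle.symm
    rw [h0, poly]
    push_cast
    rw [num_eq_poly hL hH hF hp r (a + 1) b ((show r + 1 + a + b + 1 = r + (a + 1) + b + 1 by omega) ▸ hd),
      num_eq_poly hL hH hF hp r a (b + 1) ((show r + 1 + a + b + 1 = r + a + (b + 1) + 1 by omega) ▸ hd)]
    field_simp
    ring

theorem num_lst_zero (H : X.Modules) (b : ℕ) (L F : X.Modules) :
    num k (lst L H 0 b) F = mult k H b F := by
  simp [num, lst, mult, HilbPoly.lead]

/-- Cutting by an effective module. -/
theorem cut_nonneg [IsIntegral X] {E : X.Modules} (hE : PicF.IsInvertible E)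
    {s : Coh.structureModule X ⟶ E} (hs : s ≠ 0) {d : ℕ} (hd : topologicalKrullDim X = ((d + 1 : ℕ) : WithBot ℕ∞))
    {l : List X.Modules} (hl : ∀ C ∈ l, PicF.IsInvertible C)
    (h : ∀ C : X.Modules, Coh.IsCoh C → topologicalKrullDim ↥(CohB1.support C) ≤ (d : WithBot ℕ∞) → 0 ≤ num k l C) :
    0 ≤ num k (E :: l) (Coh.structureModule X) := by
  haveI := CurveCohLib.isNoetherian_of_proper (k := k) (X := X)
  haveI := InvEnd.mono_of_ne_zero CurveDeg.isInvertible_structureModule hE s hs
  have hEc := AmpleVan.isCoh_invertible hE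
  have hC := QCoh.isCoh_cokernel QCoh.isQCoh_structureModule hEc s
  obtain ⟨x, hx⟩ : (CohB1.genLocus E s : Set X).Nonempty :=
    (TopologicalSpace.Opens.ne_bot_iff_nonempty _).1 ((ne_zero_iff hE s).1 hs)
  obtain ⟨U, hU, hxU⟩ : ∃ U : X.Opens, IsIso ((Scheme.Modules.restrictFunctor U.ι).map s) ∧ x ∈ U :=
    Opens.mem_sSup.1 hx
  haveI : IsIso ((Scheme.Modules.restrictFunctor U.ι).map s) := hU
  have hη : genericPoint X ∈ U :=
    ((genericPoint_spec X).mem_open_set_iff U.2).2 (by simpa using ⟨x, hxU⟩)
  have hξC : genericPoint X ∉ CohB1.support (cokernel s) :=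
    HilbPoly.notMem_support_of_isZero_restrict (HilbPoly.isZero_restrict_cokernel U s) hη
  have hcl : (Set.univ : Set X) = closure {genericPoint X} := (genericPoint_spec X).def.symm
  have hdim : topologicalKrullDim ↥(CohB1.support (cokernel s)) ≤ (d : WithBot ℕ∞) :=
    HilbPoly.le_of_lt_succ (HilbPoly.dim_lt_closure (by rw [← hcl, VanGrowth.dim_univ, hd])
      (QCoh.isClosed_support_of_isFT hC.1 hC.2) (hcl ▸ Set.subset_univ _) hξC)
  have hadd := (additive_iterD (additive_euler k (X := X)) hl).add
    (ShortComplex.mk s (cokernel.π s) (cokernel.condition s))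
    (.mk' (ShortComplex.exact_of_g_is_cokernel _ (cokernelIsCokernel s)) inferInstance inferInstance)
    QCoh.isCoh_structureModule' hEc hC
  change num k l E = num k l (Coh.structureModule X) + num k l (cokernel s) at hadd
  show 0 ≤ num k l ((AmpleVan.tw E).obj (Coh.structureModule X)) - num k l (Coh.structureModule X)
  rw [show num k l ((AmpleVan.tw E).obj (Coh.structureModule X)) = num k l E from
    IntNum47.isoInv_iterD (IntNum47.isoInv_euler k) l (CurveTensor.structureTensorIso E)]
  have := h _ hC hdim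
  linarith

/-- Cutting by an ample module. -/
theorem cut_ample_nonneg [IsIntegral X] {A : X.Modules} (hA : CohB1.IsAmple A) {d : ℕ}
    (hd : topologicalKrullDim X = ((d + 1 : ℕ) : WithBot ℕ∞))
    {l : List X.Modules} (hl : ∀ C ∈ l, PicF.IsInvertible C) (hlen : l.length = d)
    (h : ∀ C : X.Modules, Coh.IsCoh C → topologicalKrullDim ↥(CohB1.support C) ≤ (d : WithBot ℕ∞) → 0 ≤ num k l C) :
    0 ≤ num k (A :: l) (Coh.structureModule X) := by
  haveI := CurveCohLib.isNoetherian_of_proper (k := k) (X := X)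
  haveI := AmpleVan.isSeparated_of_proper (X := X) (A := k)
  obtain ⟨m, hm, s, hs, -⟩ := (AmpleX.isAmple_iff.1 hA).2.2 (genericPoint X)
  have hAm := InvX.isInvertible_tensorPow hA.1 m
  have h1 := cut_nonneg k hAm (VanGrowth.ne_zero_of_mem_genLocus hAm hs) hd hl h
  rw [num_pow k hA.1 hl QCoh.isCoh_structureModule' (by
    show topologicalKrullDim ↥(CohB1.support (Coh.structureModule X)) < _
    rw [VanGrowth.support_structureModule, VanGrowth.dim_univ, hd, hlen]
    exact_mod_cast Nat.lt_succ_self (d + 1))] at h1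
  exact pos_of_mul_nonneg h1 hm
where
  pos_of_mul_nonneg {m : ℕ} {x : ℤ} (h : 0 ≤ (m : ℤ) * x) (hm : 0 < m) : 0 ≤ x := by
    rcases le_or_gt 0 x with hx | hx
    · exact hx
    · nlinarith [show (0 : ℤ) < m by exact_mod_cast hm]

end General

variable (k : Type u) [Field k]

/-- Mixed numbers of a nef and an ample module in dimension `d` are non-negative. -/
def Mixed (d : ℕ) : Prop :=
  ∀ (X : Scheme.{u}) [X.Over (Spec (CommRingCat.of k))] [IsProper (X ↘ Spec (CommRingCat.of k))]
    (L : X.Modules), PicF.IsInvertible L → NumR.IsNef k X L →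
    ∀ A : X.Modules, CohB1.IsAmple A → ∀ F : X.Modules, Coh.IsCoh F →
      topologicalKrullDim ↥(CohB1.support F) ≤ (d : WithBot ℕ∞) →
      ∀ a b : ℕ, a + b = d → 0 ≤ num k (lst L A a b) F

/-- A nef module restricts to a nef module. -/
theorem isNef_pullback {X Z : Scheme.{u}} [X.Over (Spec (CommRingCat.of k))]
    [IsProper (X ↘ Spec (CommRingCat.of k))] [Z.Over (Spec (CommRingCat.of k))]
    (i : Z ⟶ X) [IsClosedImmersion i] (hi : i ≫ (X ↘ Spec (CommRingCat.of k)) = Z ↘ Spec (CommRingCat.of k))
    {L : X.Modules} (h : NumR.IsNef k X L) :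
    NumR.IsNef k Z ((Scheme.Modules.pullback i).obj L) := by
  intro Y j _ hY hY1
  have h1 := h Y (j ≫ i) hY hY1
  rw [← hi]
  rw [Category.assoc] at h1
  refine le_of_le_of_eq h1 ?_
  letI : Y.Over (Spec (CommRingCat.of k)) := ⟨j ≫ i ≫ (X ↘ Spec (CommRingCat.of k))⟩
  unfold Pic13.curveDeg
  refine congrArg (· - _) ?_
  exact IntNum47eulerLE k ((Scheme.Modules.pullbackComp j i).app L).symm
where
  IntNum47eulerLE (k : Type u) [Field k] {Y : Scheme.{u}} [Y.Over (Spec (CommRingCat.of k))] {M N : Y.Modules}
      (e : M ≅ N) : FGA.eulerCharLE k Y M 1 = FGA.eulerCharLE k Y N 1 := by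
    unfold FGA.eulerCharLE
    exact Finset.sum_congr rfl fun n _ => by rw [HilbPoly.finrank_HH_iso k e n]

variable {k}

section Top

variable {X : Scheme.{u}} [X.Over (Spec (CommRingCat.of k))] [IsProper (X ↘ Spec (CommRingCat.of k))]
  [IsIntegral X] {L : X.Modules}

theorem dimLT_structure {n : ℕ} (hn : topologicalKrullDim X = (n : WithBot ℕ∞)) :
    DimLT (Coh.structureModule X) (n + 1) := by
  show topologicalKrullDim ↥(CohB1.support (Coh.structureModule X)) < _
  rw [VanGrowth.support_structureModule, VanGrowth.dim_univ, hn]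
  exact_mod_cast Nat.lt_succ_self n

theorem top_nonneg_of_ample_pos {d : ℕ} (IH : Mixed k d)
    (hd : topologicalKrullDim X = ((d + 1 : ℕ) : WithBot ℕ∞)) (hL : PicF.IsInvertible L) (hnef : NumR.IsNef k X L)
    {A : X.Modules} (hA : CohB1.IsAmple A) {a b : ℕ} (hab : a + b = d) :
    0 ≤ num k (lst L A a (b + 1)) (Coh.structureModule X) := by
  rw [num, IntNum47.iterD_perm (IntNum47.isoInv_euler k) (l' := A :: lst L A a b)
    (by rw [lst, List.replicate_succ]; exact List.perm_middle)]
  exact cut_ample_nonneg k hA hd (inv_lst hL hA.1 a b) (by simp [lst, hab])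
    fun C hC hCd => IH X L hL hnef A hA C hC hCd a b hab

/-- Where its top power is positive, `L^p ⊗ H^q` is ample. -/
theorem isAmple_comb_of_pos {n : ℕ} (IH : ∀ e < n, Mixed k e) (hn : topologicalKrullDim X = (n : WithBot ℕ∞))
    (hL : PicF.IsInvertible L) (hnef : NumR.IsNef k X L) {H : X.Modules} (hH : CohB1.IsAmple H)
    {p q : ℕ} (hp : 0 < p) (hq : 0 < q) (hpos : 0 < mult k (comb L H p q) n (Coh.structureModule X)) :
    CohB1.IsAmple (comb L H p q) := by
  haveI := CurveCohLib.isNoetherian_of_proper (k := k) (X := X)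
  refine VarBase.isAmple_of_posOn k (inv_comb hL hH.1 p q) fun Z i hi hZ e he hdim => ?_
  haveI := hi
  haveI := hZ
  by_cases hr : Set.range i = Set.univ
  · haveI : Surjective i := ⟨Set.range_eq_univ.1 hr⟩
    haveI : IsIso i := isIso_of_isClosedImmersion_of_surjective i
    have hne : e = n := by
      have h1 := VarBase.dim_range (X := X) i
      rw [hr, VanGrowth.dim_univ, hn, hdim] at h1
      exact_mod_cast h1.symm
    subst hne
    haveI := CurveTensor.isIso_unit_of_isIso i (Coh.structureModule X)
    let e' : (Coh.push i).obj (Coh.structureModule Z) ≅ Coh.structureModule X :=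
      (Coh.push i).mapIso (Scheme.Modules.restrictUnitIso i).symm ≪≫
        (asIso ((Scheme.Modules.restrictAdjunction i).unit.app (Coh.structureModule X))).symm
    rw [show mult k (comb L H p q) e ((Coh.push i).obj (Coh.structureModule Z)) = _ from
      IntNum47.isoInv_iterD (IntNum47.isoInv_euler k) _ e']
    exact hpos
  · have hlt : e < n := by
      have h1 := H23.TopDim.dim_lt_of_ssubset (X := ↥X)
        (by rw [hn]; exact WithBot.coe_injective.ne (a₁ := (n : ℕ∞)) (a₂ := ⊤) (ENat.natCast_ne_top _))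
        i.isClosedEmbedding.isClosed_range hr
      rw [VarBase.dim_range (X := X) i, hdim, hn] at h1
      exact_mod_cast h1
    set F := (Coh.push i).obj (Coh.structureModule Z)
    have hF : Coh.IsCoh F := QCoh.isCoh_push_structure i
    have hFd : topologicalKrullDim ↥(CohB1.support F) ≤ (e : WithBot ℕ∞) :=
      ((H23.TopDim.dim_le_dim_of_subset (QCoh.support_push_subset i QCoh.isQCoh_structureModule)).trans
        (VarBase.dim_range (X := X) i).le).trans hdim.le
    have hHpos := VarBase.posOn_of_isAmple k hH Z i hi hZ e he hdim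
    have h0 := num_eq_poly k hL hH.1 hF (p := p) (q := q) hp e 0 0 (by simpa using HilbPoly.lt_succ_of_le hFd)
    simp only [lst, List.replicate_zero, List.append_nil] at h0
    have h1 : (0 : ℝ) < poly (fun a' b' => (num k (lst L H a' b') F : ℝ)) e 0 0 ((q : ℝ) / p) := by
      refine lt_of_lt_of_le ?_ (poly_ge _ (by positivity) e 0 0 fun a' b' hab _ => ?_).2
      · rw [zero_add]
        exact mul_pos (by positivity) (by rw [num_lst_zero]; exact_mod_cast hHpos)
      · exact_mod_cast IH e hlt X L hL hnef H hH F hF hFd a' b' (by omega)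
    have h2 : (0 : ℝ) < (num k (List.replicate e (comb L H p q)) F : ℝ) := by rw [h0]; positivity
    exact_mod_cast h2

/-- The top power of a nef module is non-negative. -/
theorem top_nonneg {d : ℕ} (IH : ∀ e ≤ d + 1, Mixed k e)
    (hd : topologicalKrullDim X = ((d + 2 : ℕ) : WithBot ℕ∞)) (hL : PicF.IsInvertible L) (hnef : NumR.IsNef k X L)
    {H : X.Modules} (hH : CohB1.IsAmple H) :
    0 ≤ num k (lst L H (d + 2) 0) (Coh.structureModule X) := by
  haveI := CurveCohLib.isNoetherian_of_proper (k := k) (X := X)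
  have hO : Coh.IsCoh (Coh.structureModule X) := QCoh.isCoh_structureModule'
  set f : ℕ → ℕ → ℝ := fun a b => (num k (lst L H a b) (Coh.structureModule X) : ℝ) with hf
  set P := poly f (d + 2) 0 0 with hPdef
  set c := f 0 (d + 2) with hcdef
  have hc : 0 < c := by
    simp only [hcdef, hf, num_lst_zero]
    exact_mod_cast (HilbPoly.mult_nonneg_and_pos k hH (d + 2) _ hO
      (by rw [VanGrowth.support_structureModule, VanGrowth.dim_univ, hd])).2
      (by rw [VanGrowth.support_structureModule, VanGrowth.dim_univ, hd])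
  -- at rational points where it is positive the form dominates the ample term
  have key : ∀ p q : ℕ, 0 < p → 0 < q → 0 < P ((q : ℝ) / p) → ((q : ℝ) / p) ^ (d + 2) * c ≤ P ((q : ℝ) / p) := by
    intro p q hp hq hP
    set t : ℝ := (q : ℝ) / p
    have ht : 0 ≤ t := by positivity
    have h0 := num_eq_poly k hL hH.1 hO (p := p) (q := q) hp (d + 2) 0 0 (by simpa using dimLT_structure hd)
    simp only [lst, List.replicate_zero, List.append_nil] at h0
    have hmpos : (0 : ℝ) < (num k (List.replicate (d + 2) (comb L H p q)) (Coh.structureModule X) : ℝ) := by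
      rw [h0]; positivity
    have hamp := isAmple_comb_of_pos (fun e he => IH e (by omega)) hd hL hnef hH hp hq
      (by exact_mod_cast hmpos)
    have hQ : 0 ≤ poly f (d + 1) 1 0 t := by
      have h1 := num_eq_poly k hL hH.1 hO (p := p) (q := q) hp (d + 1) 1 0 (by simpa [add_assoc] using dimLT_structure hd)
      have h2 := top_nonneg_of_ample_pos (IH (d + 1) le_rfl) hd hL hnef hamp (a := 1) (b := d) (by omega)
      have h3 : num k (List.replicate (d + 1) (comb L H p q) ++ lst L H 1 0) (Coh.structureModule X) =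
          num k (lst L (comb L H p q) 1 (d + 1)) (Coh.structureModule X) :=
        IntNum47.iterD_perm (IntNum47.isoInv_euler k) (by simp [lst]) _
      have h4 : (0 : ℝ) ≤ (p : ℝ) ^ (d + 1) * poly f (d + 1) 1 0 t := by
        rw [← h1, h3]; exact_mod_cast h2
      exact nonneg_of_mul_nonneg_right h4 (by positivity)
    have hR := (poly_ge f ht (d + 1) 0 1 fun a' b' hab hb => by
      obtain ⟨b'', rfl⟩ := Nat.exists_eq_add_of_le' hb
      exact Int.cast_nonneg (top_nonneg_of_ample_pos (IH (d + 1) le_rfl) hd hL hnef hH (a := a') (b := b'') (by omega))).2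
    show t ^ (d + 2) * c ≤ poly f (d + 1) 1 0 t + t * poly f (d + 1) 0 1 t
    rw [show (1 : ℕ) + (d + 1) = d + 2 by omega] at hR
    rw [pow_succ, mul_right_comm, mul_comm _ t]
    exact (mul_le_mul_of_nonneg_left hR ht).trans (le_add_of_nonneg_left hQ)
  by_contra hneg
  have hP0 : P 0 < 0 := by
    rw [hPdef, poly_zero, zero_add]
    exact Int.cast_lt_zero.2 (not_le.1 hneg)
  have hPc : Continuous P := continuous_poly f _ _ _
  obtain ⟨T, hT⟩ : ∃ T : ℝ, ∀ t, T ≤ t → 0 < P t := by
    have h := (tendsto_poly f (d + 2) 0 0).eventually_mem (Ioi_mem_nhds (show (0 : ℝ) < f 0 (0 + (d + 2)) by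
      rw [zero_add]; exact hc))
    obtain ⟨T, hT⟩ := Filter.eventually_atTop.1 (h.and (Filter.eventually_gt_atTop 0))
    refine ⟨T, fun t ht => ?_⟩
    obtain ⟨h1, h2⟩ := hT t ht
    exact (div_pos_iff_of_pos_right (pow_pos h2 _)).1 h1
  let S : Set ℝ := Set.Icc 0 T ∩ {t | P t ≤ 0}
  have hT0 : 0 ≤ T := le_of_not_gt fun h => hP0.not_ge (hT 0 h.le).le
  have hS : IsCompact S := isCompact_Icc.inter_right (isClosed_le hPc continuous_const)
  obtain ⟨t₀, ht₀⟩ := hS.exists_isGreatest ⟨0, ⟨le_rfl, hT0⟩, hP0.le⟩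
  have habove : ∀ t, t₀ < t → 0 < P t := fun t ht => by
    by_contra h
    rcases le_or_gt t T with hle | hgt
    · exact ht.not_ge (ht₀.2 ⟨⟨ht₀.1.1.1.trans ht.le, hle⟩, not_lt.1 h⟩)
    · exact h (hT t hgt.le)
  have ht₀pos : 0 < t₀ := by
    refine lt_of_le_of_ne ht₀.1.1.1 fun h0 => ?_
    have := hPc.continuousAt.eventually_mem (Iio_mem_nhds hP0)
    obtain ⟨t, htneg, htpos⟩ := ((this.filter_mono nhdsWithin_le_nhds).and
      (self_mem_nhdsWithin (s := Set.Ioi (0 : ℝ)))).exists
    exact (habove t (h0 ▸ htpos)).not_gt htneg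
  have hnb := hPc.continuousAt.eventually_mem (x := t₀)
    (Iio_mem_nhds (show P t₀ < t₀ ^ (d + 2) * c from ht₀.1.2.trans_lt (mul_pos (pow_pos ht₀pos _) hc)))
  obtain ⟨δ, hδ, hball⟩ := Metric.eventually_nhds_iff.1 hnb
  obtain ⟨r, hr1, hr2⟩ := exists_rat_btwn (show t₀ < t₀ + δ by linarith)
  have hr0 : (0 : ℚ) < r := by exact_mod_cast ht₀pos.trans hr1
  have hnum : (0 : ℤ) < r.num := Rat.num_pos.2 hr0
  obtain ⟨q, hq⟩ := Int.eq_ofNat_of_zero_le hnum.le
  have hrq : (r : ℝ) = (q : ℝ) / (r.den : ℝ) := by rw [Rat.cast_def, hq, Int.cast_natCast]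
  have hlt : P r < t₀ ^ (d + 2) * c := hball (by rw [Real.dist_eq, abs_of_pos (by linarith)]; linarith)
  have h5 := key r.den q r.pos (by omega) (hrq ▸ habove r hr1)
  rw [← hrq] at h5
  have h6 : t₀ ^ (d + 2) * c ≤ (r : ℝ) ^ (d + 2) * c :=
    mul_le_mul_of_nonneg_right (pow_le_pow_left₀ ht₀pos.le hr1.le _) hc.le
  linarith

/-- All mixed numbers in top dimension. -/
theorem mixed_integral {n : ℕ} (IH : ∀ e < n, Mixed k e) (hn : topologicalKrullDim X = (n : WithBot ℕ∞))
    (hL : PicF.IsInvertible L) (hnef : NumR.IsNef k X L) {A : X.Modules} (hA : CohB1.IsAmple A)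
    {a b : ℕ} (hab : a + b = n) (hn0 : 0 < n) : 0 ≤ num k (lst L A a b) (Coh.structureModule X) := by
  haveI := CurveCohLib.isNoetherian_of_proper (k := k) (X := X)
  rcases b with _ | b
  · obtain rfl : a = n := by omega
    match a, hn0 with
    | 1, _ =>
      have h := hnef X (𝟙 X) inferInstance (by rw [hn]; rfl)
      have h1 := IntNum47.iterD_push_structure_eq_curveDeg (X := X) (Y := X) k (𝟙 X) (Category.id_comp _)
        hn.le hL
      rw [← h1] at h
      refine le_of_le_of_eq h ?_
      exact IntNum47.isoInv_iterD (IntNum47.isoInv_euler k) [L]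
        ((Scheme.Modules.pushforwardId X).app (Coh.structureModule X))
    | d + 2, _ => exact top_nonneg (fun e he => IH e (by omega)) hn hL hnef hA
  · obtain ⟨d, rfl⟩ : ∃ d, n = d + 1 := ⟨a + b, by omega⟩
    exact top_nonneg_of_ample_pos (IH d (Nat.lt_succ_self d)) hn hL hnef hA (by omega)

end Top

variable (k)

/-- Kleiman's theorem. -/
theorem mixed : ∀ d, Mixed k d := by
  intro d
  induction d using Nat.strong_induction_on with
  | _ d IH =>
  intro X _ _ L hL hnef A hA F hF hFd a b hab
  haveI := CurveCohLib.isNoetherian_of_proper (k := k) (X := X)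
  rcases Nat.eq_zero_or_pos d with rfl | hd0
  · obtain ⟨rfl, rfl⟩ : a = 0 ∧ b = 0 := by omega
    rw [num_lst_zero]
    exact (HilbPoly.mult_nonneg_and_pos k hA 0 F hF hFd).1
  have hli := inv_lst hL hA.1 a b
  have hlen : (lst L A a b).length = d := by simp [lst, hab]
  have hΨ := additive_iterD (additive_euler k (X := X)) hli
  rw [show num k (lst L A a b) F = _ from VarBase.eq_compSum (iterD (lst L A a b) (Curv2.euler k X))
    hΨ.iso d hΨ.add (fun M hM hMd => HilbPoly.iterD_eq_zero d (additive_euler k) _ hlen hli M hM hMd) hF hFd]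
  refine finsum_nonneg fun ξ => ?_
  split_ifs with hξ
  swap
  · exact le_rfl
  refine smul_nonneg (Nat.zero_le _) ?_
  let I := VarBase.clIdeal ξ
  let Z := I.subscheme
  let i := I.subschemeι
  letI : Z.Over (Spec (CommRingCat.of k)) := ⟨i ≫ (X ↘ Spec (CommRingCat.of k))⟩
  haveI : IsProper (Z ↘ Spec (CommRingCat.of k)) := VarBase.isProper_sub i k
  have hr : Set.range i = closure {ξ} := VarBase.range_clIdeal ξ
  haveI : IrreducibleSpace Z := by
    haveI : IrreducibleSpace (Set.range i) :=
      Subtype.irreducibleSpace (hr ▸ isIrreducible_singleton.closure)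
    exact i.isEmbedding.toHomeomorph.symm.surjective.irreducibleSpace i.isEmbedding.toHomeomorph.symm.continuous
  haveI : IsIntegral Z := isIntegral_of_irreducibleSpace_of_isReduced _
  have hZd : topologicalKrullDim Z = (d : WithBot ℕ∞) := by
    rw [← VarBase.dim_range (X := X) i, hr, hξ]
  haveI : CompactSpace X := QuasiCompact.compactSpace_of_compactSpace (X ↘ Spec (CommRingCat.of k))
  haveI : CompactSpace Z := i.isClosedEmbedding.compactSpace
  haveI := CurveCohLib.isNoetherian_of_proper (k := k) (X := Z)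
  have hAZ := AmpleVan.isAmple_pullback_of_isEmbedding i i.isClosedEmbedding.isEmbedding hA
  have h1 := mixed_integral IH hZd (PicClLib.isInvertible_pullback i hL) (isNef_pullback k i rfl hnef) hAZ hab hd0
  refine le_of_le_of_eq h1 ?_
  have h2 := IntNum47.iterD_push k i rfl (lst L A a b) hli (Coh.structureModule Z) QCoh.isCoh_structureModule'
  simp only [lst, List.map_append, List.map_replicate] at h2
  exact h2.symm

section Consequences

variable {k} {X : Scheme.{u}} [X.Over (Spec (CommRingCat.of k))] [IsProper (X ↘ Spec (CommRingCat.of k))]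
  {L H : X.Modules}

/-- The mixed numbers are non-negative. -/
theorem num_nonneg (hL : PicF.IsInvertible L) (hnef : NumR.IsNef k X L) (hH : CohB1.IsAmple H) {F : X.Modules}
    (hF : Coh.IsCoh F) {a b : ℕ} (hd : topologicalKrullDim ↥(CohB1.support F) ≤ ((a + b : ℕ) : WithBot ℕ∞)) :
    0 ≤ num k (lst L H a b) F :=
  mixed k _ X L hL hnef H hH F hF hd a b rfl

/-- Self-intersections of nef modules are non-negative. -/
theorem mult_nonneg (hL : PicF.IsInvertible L) (hnef : NumR.IsNef k X L) (hH : CohB1.IsAmple H) {F : X.Modules}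
    (hF : Coh.IsCoh F) {d : ℕ} (hd : topologicalKrullDim ↥(CohB1.support F) ≤ (d : WithBot ℕ∞)) :
    0 ≤ mult k L d F := by
  have := num_nonneg hL hnef hH hF (a := d) (b := 0) (by simpa using hd)
  simpa [num, lst, mult, HilbPoly.lead] using this

include k in
/-- A nef module plus an ample one is ample. -/
theorem isAmple_comb (hL : PicF.IsInvertible L) (hnef : NumR.IsNef k X L) (hH : CohB1.IsAmple H) {p q : ℕ}
    (hp : 0 < p) (hq : 0 < q) : CohB1.IsAmple (comb L H p q) := by
  haveI := CurveCohLib.isNoetherian_of_proper (k := k) (X := X)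
  refine VarBase.isAmple_of_posOn k (inv_comb hL hH.1 p q) fun Z i hi hZ e he hdim => ?_
  haveI := hi
  haveI := hZ
  set F := (Coh.push i).obj (Coh.structureModule Z)
  have hF : Coh.IsCoh F := QCoh.isCoh_push_structure i
  have hFd : topologicalKrullDim ↥(CohB1.support F) ≤ (e : WithBot ℕ∞) :=
    ((H23.TopDim.dim_le_dim_of_subset (QCoh.support_push_subset i QCoh.isQCoh_structureModule)).trans
      (VarBase.dim_range (X := X) i).le).trans hdim.le
  have hHpos := VarBase.posOn_of_isAmple k hH Z i hi hZ e he hdim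
  have h0 := num_eq_poly k hL hH.1 hF (p := p) (q := q) hp e 0 0 (by simpa using HilbPoly.lt_succ_of_le hFd)
  simp only [lst, List.replicate_zero, List.append_nil] at h0
  have h1 : (0 : ℝ) < poly (fun a' b' => (num k (lst L H a' b') F : ℝ)) e 0 0 ((q : ℝ) / p) := by
    refine lt_of_lt_of_le ?_ (poly_ge _ (by positivity) e 0 0 fun a' b' hab _ => ?_).2
    · rw [zero_add]
      exact mul_pos (by positivity) (by rw [num_lst_zero]; exact_mod_cast hHpos)
    · exact_mod_cast num_nonneg hL hnef hH hF (hFd.trans (le_of_eq (by rw [show a' + b' = e by omega])))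
  have h2 : (0 : ℝ) < (num k (List.replicate e (comb L H p q)) F : ℝ) := by rw [h0]; positivity
  exact_mod_cast h2

end Consequences

end Groth.Agent.H75.Kleiman
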