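import Groth.Agent.PBC50.PolyProj
import Groth.Agent.Proj16.Map
import Mathlib.LinearAlgebra.Matrix.ToLin

/-! Linear embeddings of projective spaces given by an injective matrix. -/

noncomputable section

set_option autoImplicit false
set_option linter.style.haveILetI false
set_option backward.isDefEq.respectTransparency false
set_option backward.isDefEq.respectTransparency.types false

universe u

open CategoryTheory AlgebraicGeometry HomogeneousLocalization MvPolynomial

namespace Groth.Agent.H75.LinEmb

variable {k : Type u} [CommRing k] {N n : ℕ} (v : Fin (N + 1) → Fin (n + 1) → k)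

/-- The values of the coordinates. -/
def val (i : Fin (N + 1)) : MvPolynomial (Fin (n + 1)) k := ∑ t, v i t • X t

theorem val_homog (i : Fin (N + 1)) : (val v i).IsHomogeneous 1 := by
  refine (mem_homogeneousSubmodule _ _).1 (Submodule.sum_mem _ fun t _ => Submodule.smul_mem _ _ ?_)
  exact (mem_homogeneousSubmodule _ _).2 (isHomogeneous_X _ _)

/-- A linear substitution, as a graded ring homomorphism. -/
def hom : CohB1.polyGrading N k →+*ᵍ CohB1.polyGrading n k where
  __ := (aeval (R := k) (val v)).toRingHom
  map_mem {i x} hx := by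
    refine (mem_homogeneousSubmodule _ _).2 ?_
    have h := ((mem_homogeneousSubmodule _ _).1 hx).aeval (g := val v) (n := 1) (val_homog v)
    rw [one_mul] at h
    exact h

theorem hom_apply (x : MvPolynomial (Fin (N + 1)) k) : hom v x = aeval (val v) x := rfl

/-- The substitution of a linear form. -/
theorem hom_linear (c : Fin (N + 1) → k) :
    hom v (∑ i, c i • X i) = ∑ t, (∑ i, c i * v i t) • X t := by
  simp only [hom_apply, map_sum, map_smul, aeval_X, val, Finset.smul_sum, smul_smul, Finset.sum_smul]
  exact Finset.sum_comm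

variable {v} {w : Fin (n + 1) → Fin (N + 1) → k} (hw : ∀ t t', ∑ i, w t i * v i t' = if t = t' then 1 else 0)
include hw

theorem hom_surjective : Function.Surjective (hom v) := by
  intro p
  induction p using MvPolynomial.induction_on with
  | C a => exact ⟨C a, by simp [hom_apply]⟩
  | add p q hp hq =>
    obtain ⟨a, rfl⟩ := hp; obtain ⟨b, rfl⟩ := hq
    exact ⟨a + b, map_add _ _ _⟩
  | mul_X p j hp =>
    obtain ⟨a, rfl⟩ := hp
    refine ⟨a * ∑ i, w j i • X i, ?_⟩
    rw [map_mul, hom_linear]
    simp [hw]

theorem irrelevant_le :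
    HomogeneousIdeal.irrelevant (CohB1.polyGrading n k) ≤
      (HomogeneousIdeal.irrelevant (CohB1.polyGrading N k)).map (hom v) := by
  intro x hx
  refine (Ideal.span_le.2 ?_) (PBC50.mem_span_X_of_mem_irrelevant n hx)
  rintro _ ⟨j, rfl⟩
  have hmem : (∑ i, w j i • X i : MvPolynomial (Fin (N + 1)) k) ∈
      (HomogeneousIdeal.irrelevant (CohB1.polyGrading N k)).toIdeal :=
    sum_mem fun i _ => by
      rw [smul_eq_C_mul]
      exact Ideal.mul_mem_left _ _ (PBC50.X_mem_irrelevant (R := k) N i)
  have h := Ideal.mem_map_of_mem (hom v) hmem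
  rw [hom_linear] at h
  simpa [hw] using h

/-- The linear embedding. -/
def emb : CohB1.ProjSpace n k ⟶ CohB1.ProjSpace N k := Proj.map (hom v) (irrelevant_le hw)

theorem isClosedImmersion_emb : IsClosedImmersion (emb hw) :=
  Proj16.isClosedImmersion_map _ _ (hom_surjective hw)

theorem emb_toSpec : emb hw ≫ CohB1.ProjSpace.toSpec N k = CohB1.ProjSpace.toSpec n k := by
  refine (Proj.mapAffineOpenCover (hom v) (irrelevant_le hw)).openCover.hom_ext _ _ ?_
  rintro ⟨⟨i, hi⟩, ⟨f, hf₀⟩⟩
  have hf : f ∈ CohB1.polyGrading N k i := hf₀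
  show Proj.awayι (CohB1.polyGrading n k) (hom v f) ((hom v).map_mem hf) hi ≫
      Proj.map (hom v) (irrelevant_le hw) ≫ Proj.toSpecZero (CohB1.polyGrading N k) ≫
        Spec.map (CommRingCat.ofHom (algebraMap k (CohB1.polyGrading N k 0))) =
    Proj.awayι (CohB1.polyGrading n k) (hom v f) ((hom v).map_mem hf) hi ≫
      Proj.toSpecZero (CohB1.polyGrading n k) ≫
        Spec.map (CommRingCat.ofHom (algebraMap k (CohB1.polyGrading n k 0)))
  rw [Proj.awayι_comp_map_assoc (hom v) (irrelevant_le hw) hi f hf,
    Proj.awayι_toSpecZero_assoc, Proj.awayι_toSpecZero_assoc, ← Spec.map_comp, ← Spec.map_comp, ← Spec.map_comp]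
  refine congrArg Spec.map ?_
  ext r
  show (Away.map (hom v) _ (fromZeroRingHom _ _ (algebraMap k (CohB1.polyGrading N k 0) r))).val =
    (fromZeroRingHom (CohB1.polyGrading n k) _ (algebraMap k (CohB1.polyGrading n k 0) r)).val
  simp only [fromZeroRingHom, Away.map, RingHom.coe_mk, MonoidHom.coe_mk, OneHom.coe_mk]
  erw [HomogeneousLocalization.map_mk, HomogeneousLocalization.val_mk, HomogeneousLocalization.val_mk]
  simp [NumDenSameDeg.map, hom_apply, MvPolynomial.algebraMap_eq]

end Groth.Agent.H75.LinEmb
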