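import Groth.Agent.VarDim.Proj
import Groth.Agent.H75.LinEmb
import Groth.Agent.CIX45.Scheme
import Groth.Agent.SerreVan45.FormDeg
import Groth.Agent.LC.GorLoc
import Groth.Agent.PnCoh.Chow.Proper
import Groth.Agent.CurveCohLib.Proper

/-! Linear subspaces meeting a closed set in finitely many points. -/

noncomputable section

set_option autoImplicit false
set_option linter.style.haveILetI false
set_option backward.isDefEq.respectTransparency false
set_option backward.isDefEq.respectTransparency.types false

universe u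

open CategoryTheory AlgebraicGeometry MvPolynomial TopologicalSpace

namespace Groth.Agent.H75

open Groth.Agent Groth.Agent.VarDim Groth.Agent.VarDim.ProjN

/-- A closed subset of closed points in a Noetherian sober space is finite. -/
theorem finite_of_isClosed_of_closed_points {T : Type u} [TopologicalSpace T] [NoetherianSpace T] [QuasiSober T]
    {Z : Set T} (hZ : IsClosed Z) (h : ∀ y ∈ Z, IsClosed ({y} : Set T)) : Z.Finite := by
  haveI : QuasiSober Z := hZ.isClosedEmbedding_subtypeVal.quasiSober
  have hfin : (irreducibleComponents Z).Finite := NoetherianSpace.finite_irreducibleComponents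
  refine Set.finite_coe_iff.1 (Finite.of_finite_univ ?_)
  refine (hfin.biUnion (t := fun C => C) fun C hC => ?_).subset fun x _ =>
    Set.mem_biUnion (irreducibleComponent_mem_irreducibleComponents x) mem_irreducibleComponent
  obtain ⟨g, hg⟩ := QuasiSober.sober hC.1 (isClosed_of_mem_irreducibleComponents C hC)
  have hgc : IsClosed ({g} : Set Z) := by
    have : ({g} : Set Z) = Subtype.val ⁻¹' {g.1} := Set.ext fun z => Subtype.val_injective.eq_iff.symm
    rw [this]
    exact (h g.1 g.2).preimage continuous_subtype_val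
  rw [← hg.def, hgc.closure_eq]
  exact Set.finite_singleton g

variable {k : Type u} [Field k] {n : ℕ}

/-- The linear form with given coefficients. -/
def linForm : (Fin (n + 1) → k) →ₗ[k] MvPolynomial (Fin (n + 1)) k :=
  Fintype.linearCombination k fun i => X i

theorem linForm_apply (c : Fin (n + 1) → k) : linForm c = ∑ i, c i • X i := rfl

theorem isHomogeneous_linForm (c : Fin (n + 1) → k) : linForm c ∈ CohB1.polyGrading n k 1 := by
  rw [linForm_apply]
  exact Submodule.sum_mem _ fun t _ =>
    Submodule.smul_mem _ _ ((mem_homogeneousSubmodule _ _).2 (isHomogeneous_X _ _))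

variable [Infinite k]

/-- Successive generic linear forms cut the dimension down. -/
theorem exists_linForms (J : Ideal (MvPolynomial (Fin (n + 1)) k)) (hJ : J.IsHomogeneous (CohB1.polyGrading n k))
    (s : ℕ) (hdim : ∀ x : ProjectiveSpectrum (CohB1.polyGrading n k), J ≤ (pp x).asIdeal → pdim x ≤ s) :
    ∀ t ≤ s, ∃ c : Fin t → Fin (n + 1) → k, ∀ x : ProjectiveSpectrum (CohB1.polyGrading n k),
      J ≤ (pp x).asIdeal → (∀ a, linForm (c a) ∈ (pp x).asIdeal) → pdim x + t ≤ s := by
  intro t
  induction t with
  | zero => exact fun _ => ⟨Fin.elim0, fun x hx _ => hdim x hx⟩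
  | succ t ih =>
    intro ht
    obtain ⟨c, hc⟩ := ih (by omega)
    let J' := J ⊔ Ideal.span (Set.range fun a => linForm (c a))
    have hJ' : J'.IsHomogeneous (CohB1.polyGrading n k) := hJ.sup (Ideal.homogeneous_span _ _ (by
      rintro _ ⟨a, rfl⟩
      exact ⟨1, isHomogeneous_linForm _⟩))
    haveI : IsNoetherianRing (MvPolynomial (Fin (n + 1)) k) := inferInstance
    let I : Type u := {P : Ideal (MvPolynomial (Fin (n + 1)) k) // P ∈ J'.minimalPrimes ∧ P ≠ vertex k n}
    haveI : Finite I := Set.Finite.to_subtype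
      ((Ideal.finite_minimalPrimes_of_isNoetherianRing _ J').subset fun P hP => hP.1)
    let p : I → Submodule k (Fin (n + 1) → k) := fun P =>
      Submodule.comap linForm (P.1.restrictScalars k)
    have hp : ∀ P : I, p P ≠ ⊤ := fun P h => P.2.2 (by
      refine le_antisymm (le_vertex_of_isHomogeneous (minimalPrimes_isHomogeneous hJ' P.2.1) P.2.1.1.1.ne_top) ?_
      refine (irrelevant_eq_vertex (k := k) (n := n)).symm.le.trans ?_
      intro a ha
      refine (Ideal.span_le.2 ?_) (PBC50.mem_span_X_of_mem_irrelevant n ha)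
      rintro _ ⟨i, rfl⟩
      have hi : (Pi.single i 1 : Fin (n + 1) → k) ∈ p P := by rw [h]; trivial
      have hi' : linForm (Pi.single i 1 : Fin (n + 1) → k) ∈ P.1 := hi
      simpa [linForm] using hi')
    obtain ⟨v, hv⟩ := Submodule.exists_forall_notMem_of_forall_ne_top p hp
    refine ⟨Fin.snoc c v, fun x hx hxc => ?_⟩
    have hxJ : J' ≤ (pp x).asIdeal := sup_le hx (Ideal.span_le.2 (by
      rintro _ ⟨a, rfl⟩
      simpa using hxc a.castSucc))
    obtain ⟨P, hP, hPx⟩ := Ideal.exists_minimalPrimes_le hxJ
    have hne : P ≠ vertex k n := fun h =>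
      (pp_lt_vertexPoint x).not_ge (show (vertex k n) ≤ (pp x).asIdeal from h ▸ hPx)
    obtain ⟨z, hz⟩ := exists_point_minimal hJ' hP hne
    have hzx : z ≤ x := pp_le_pp.1 (hz.trans_le hPx)
    have hne' : z ≠ x := by
      intro h
      have hlast := hxc (Fin.last t)
      rw [Fin.snoc_last] at hlast
      exact hv ⟨P, hP, hne⟩ (show linForm v ∈ P by rw [← hz, h]; exact hlast)
    have hlt := pdim_strictAnti (lt_of_le_of_ne hzx hne')
    have := hc z (le_sup_left.trans (hP.1.2.trans hz.symm.le))
      (fun a => (hP.1.2.trans hz.symm.le) (Ideal.mem_sup_right (Ideal.subset_span ⟨a, rfl⟩)))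
    omega

/-- A linear subspace of dimension `c` meeting a closed set of dimension `s` in finitely many points. -/
theorem exists_linear_subspace_finite {r : ℕ} {a : Fin r → ℕ} (ha : ∀ j, 1 ≤ a j)
    (G : ∀ j, LefPen.Form n k (a j)) (s c : ℕ) (hsc : s + c = n)
    (hdim : topologicalKrullDim ((LefPen.ciIdeal G).support : Set (CohB1.ProjSpace n k)) = s) :
    ∃ j : CohB1.ProjSpace c k ⟶ CohB1.ProjSpace n k, IsClosedImmersion j ∧
      j ≫ CohB1.ProjSpace.toSpec n k = CohB1.ProjSpace.toSpec c k ∧
      (j ⁻¹' ((LefPen.ciIdeal G).support : Set (CohB1.ProjSpace n k))).Finite := by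
  have hZ : IsClosed (X := ProjectiveSpectrum (CohB1.polyGrading n k))
      ((LefPen.ciIdeal G).support : Set ↥(CohB1.ProjSpace n k)) := (LefPen.ciIdeal G).support.isClosed'
  have hd : ∀ x : ProjectiveSpectrum (CohB1.polyGrading n k),
      CIX45.pI G ≤ (pp x).asIdeal → pdim x ≤ s := fun x hx => by
    have h := le_topologicalKrullDim hZ ((CIX45.mem_support_ciIdeal ha G x).2 hx)
    have h' : (pdim x : WithBot ℕ∞) ≤ (s : WithBot ℕ∞) := hdim ▸ h
    exact_mod_cast h'
  obtain ⟨cf, hcf⟩ := exists_linForms (CIX45.pI G) (CIX45.isHomogeneous_pI G) s hd s le_rfl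
  let L : (Fin (n + 1) → k) →ₗ[k] (Fin s → k) :=
    LinearMap.pi fun a => Fintype.linearCombination k (cf a)
  have hker : c + 1 ≤ Module.finrank k (LinearMap.ker L) := by
    have h1 := LinearMap.finrank_range_add_finrank_ker L
    have h2 := Submodule.finrank_le (LinearMap.range L)
    rw [Module.finrank_pi, Fintype.card_fin] at h1 h2
    omega
  obtain ⟨e, he⟩ : ∃ e : (Fin (c + 1) → k) →ₗ[k] LinearMap.ker L, Function.Injective e := by
    obtain ⟨f, hf⟩ := exists_linearIndependent_of_le_finrank hker
    exact ⟨Fintype.linearCombination k f, hf.fintypeLinearCombination_injective⟩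
  let A : (Fin (c + 1) → k) →ₗ[k] (Fin (n + 1) → k) := (LinearMap.ker L).subtype.comp e
  have hA : Function.Injective A := Subtype.val_injective.comp he
  obtain ⟨B, hB⟩ := A.exists_leftInverse_of_injective (LinearMap.ker_eq_bot.2 hA)
  let v : Fin (n + 1) → Fin (c + 1) → k := fun i t => A (Pi.single t 1) i
  let w : Fin (c + 1) → Fin (n + 1) → k := fun t i => B (Pi.single i 1) t
  have hw : ∀ t t', ∑ i, w t i * v i t' = if t = t' then 1 else 0 := fun t t' => by
    have h : B (A (Pi.single t' 1)) = Pi.single t' 1 := LinearMap.congr_fun hB (Pi.single t' 1)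
    have h2 : ∑ i, A (Pi.single t' 1) i • B (Pi.single i 1) = B (A (Pi.single t' 1)) := by
      conv_rhs => rw [pi_eq_sum_univ' (A (Pi.single t' 1))]
      rw [map_sum]
      exact Finset.sum_congr rfl fun i _ => (map_smul _ _ _).symm
    have h3 := congrFun (h2.trans h) t
    simp only [Finset.sum_apply, Pi.smul_apply, smul_eq_mul, Pi.single_apply] at h3
    rw [← h3]
    exact Finset.sum_congr rfl fun i _ => mul_comm _ _
  refine ⟨LinEmb.emb hw, LinEmb.isClosedImmersion_emb hw, LinEmb.emb_toSpec hw, ?_⟩
  have hzero : ∀ a, LinEmb.hom v (linForm (cf a)) = 0 := fun a => by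
    rw [linForm_apply, LinEmb.hom_linear]
    refine Finset.sum_eq_zero fun t _ => ?_
    have h := congrFun (LinearMap.mem_ker.1 (e (Pi.single t 1)).2) a
    simp only [L, LinearMap.pi_apply, Fintype.linearCombination_apply, smul_eq_mul, Pi.zero_apply] at h
    rw [show ∑ i, cf a i * v i t = 0 from Eq.trans (Finset.sum_congr rfl fun i _ => mul_comm _ _) h, zero_smul]
  set j := LinEmb.emb hw
  haveI := LinEmb.isClosedImmersion_emb hw
  have hT : IsClosed (j ⁻¹' ((LefPen.ciIdeal G).support : Set (CohB1.ProjSpace n k))) :=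
    (LefPen.ciIdeal G).support.isClosed'.preimage j.continuous
  haveI : NoetherianSpace ↥(CohB1.ProjSpace c k) :=
    haveI : IsProper ((CohB1.ProjSpace c k) ↘ Spec (CommRingCat.of k)) := PnCoh.Chow.isProper_toSpec c k
    haveI := CurveCohLib.isNoetherian_of_proper (k := k) (X := CohB1.ProjSpace c k)
    inferInstance
  refine finite_of_isClosed_of_closed_points hT fun y hy => ?_
  have hyI : CIX45.pI G ≤ (pp (j y)).asIdeal := (CIX45.mem_support_ciIdeal ha G (j y)).1 hy
  have hyl : ∀ a, linForm (cf a) ∈ (pp (j y)).asIdeal := fun a => by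
    show LinEmb.hom v (linForm (cf a)) ∈ y.asHomogeneousIdeal
    rw [hzero]
    exact zero_mem _
  have h0 : pdim (j y) = 0 := by have := hcf _ hyI hyl; omega
  have hmax : IsMax (α := ProjectiveSpectrum (CohB1.polyGrading n k)) (j y) := fun x hx => by
    by_contra h
    have := pdim_strictAnti (lt_of_le_not_ge hx h)
    omega
  have hcl : IsClosed ({j y} : Set (CohB1.ProjSpace n k)) := by
    refine closure_subset_iff_isClosed.1 fun x hx => ?_
    have h := (ProjectiveSpectrum.le_iff_mem_closure _ (j y : ProjectiveSpectrum (CohB1.polyGrading n k)) x).2 hx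
    show x = j y
    exact (le_antisymm (α := ProjectiveSpectrum (CohB1.polyGrading n k)) h (hmax h)).symm
  have : ({y} : Set (CohB1.ProjSpace c k)) = j ⁻¹' {j y} :=
    Set.ext fun z => ⟨fun h => congrArg j h, fun h => j.isClosedEmbedding.injective h⟩
  rw [this]
  exact hcl.preimage j.continuous

end Groth.Agent.H75
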