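import Mathlib.RingTheory.Ideal.KrullsHeightTheorem

/-!
# Powers of a nonzero element of a Noetherian local domain lie only in linearly many powers of `m`
-/

universe u

open IsLocalRing

set_option linter.style.haveILetI false

namespace Groth.Agent.H75

variable {B : Type u} [CommRing B] [IsDomain B] [IsNoetherianRing B] [IsLocalRing B]

/-- If every nonzero prime contains `g`, then the maximal ideal is the radical of `(g)`. -/
theorem maximalIdeal_le_radical_span {g : B} (hg : g ≠ 0)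
    (hall : ∀ q : Ideal B, q.IsPrime → q ≠ ⊥ → g ∈ q) :
    maximalIdeal B ≤ (Ideal.span {g}).radical := by
  classical
  by_cases hu : IsUnit g
  · rw [Ideal.span_singleton_eq_top.2 hu, Ideal.radical_top]; exact le_top
  have hg0 : g ∈ maximalIdeal B := hu
  have hfin : (Ideal.span {g}).minimalPrimes.Finite := Ideal.finite_minimalPrimes_of_isNoetherianRing B _
  have hm : maximalIdeal B ∈ (Ideal.span {g}).minimalPrimes := by
    by_contra hm
    have hnot : ¬ (maximalIdeal B : Set B) ⊆ ⋃ P ∈ (Ideal.span {g}).minimalPrimes, (P : Set B) := by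
      intro hsub
      obtain ⟨P, hP, hle⟩ := (Ideal.subset_union_prime_finite hfin (f := id) ⊤ ⊤
        (fun P hP _ _ => hP.1.1)).1 hsub
      have h1 : P = maximalIdeal B :=
        le_antisymm (IsLocalRing.le_maximalIdeal hP.1.1.ne_top) hle
      exact hm (h1 ▸ hP)
    obtain ⟨a, ha, ha'⟩ := Set.not_subset.1 hnot
    have ha0 : a ≠ 0 := fun h => by
      obtain ⟨P, hP, -⟩ := Ideal.exists_minimalPrimes_le ((Ideal.span_singleton_le_iff_mem _).2 hg0)
      exact ha' (Set.mem_biUnion hP (by rw [h]; exact P.zero_mem))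
    obtain ⟨P', hP', -⟩ := Ideal.exists_minimalPrimes_le ((Ideal.span_singleton_le_iff_mem _).2 ha)
    haveI := hP'.1.1
    have haP : a ∈ P' := hP'.1.2 (Ideal.mem_span_singleton_self a)
    have hht := Ideal.height_le_one_of_isPrincipal_of_mem_minimalPrimes (Ideal.span {a}) P' hP'
    have hgP : g ∈ P' := hall P' hP'.1.1 fun h => ha0 (by rwa [h, Ideal.mem_bot] at haP)
    obtain ⟨P, hP, hle⟩ := Ideal.exists_minimalPrimes_le ((Ideal.span_singleton_le_iff_mem _).2 hgP)
    haveI := hP.1.1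
    rcases eq_or_lt_of_le hle with h | h
    · exact ha' (Set.mem_biUnion hP (h ▸ haP))
    · have hlt := Ideal.height_strict_mono_of_isPrime h
      have hP0 : P.height = 0 := by
        rcases hc : P.height with _ | n
        · rw [hc] at hlt; exact absurd hlt not_top_lt
        · rw [hc] at hlt
          have : ((n : ℕ∞)) < 1 := lt_of_lt_of_le hlt hht
          have hn : n = 0 := by
            have := ENat.natCast_lt_natCast.1 (this : ((n : ℕ∞)) < ((1 : ℕ) : ℕ∞))
            omega
          subst hn; rfl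
      have hbot : P = ⊥ := Ideal.height_eq_zero_iff_eq_bot.1 hP0
      have : g ∈ P := hP.1.2 (Ideal.mem_span_singleton_self g)
      rw [hbot, Ideal.mem_bot] at this
      exact hg this
  rw [Ideal.radical_eq_sInf]
  refine le_sInf fun q hq => ?_
  exact hm.2 ⟨hq.2, hq.1⟩ (IsLocalRing.le_maximalIdeal hq.2.ne_top)

/-- Powers of a nonzero element of a Noetherian local domain lie only in linearly many powers of `m`. -/
theorem exists_pow_not_mem {f : B} (hf : f ≠ 0) :
    ∃ N : ℕ, ∀ t : ℕ, 0 < t → f ^ t ∉ maximalIdeal B ^ (N * t) := by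
  by_cases hu : IsUnit f
  · exact ⟨1, fun t ht h => (IsLocalRing.notMem_maximalIdeal.2 (hu.pow t))
      (Ideal.pow_le_self (by omega) h)⟩
  obtain ⟨p, ⟨hp, hfp⟩, hmax⟩ : ∃ p, (p.IsPrime ∧ f ∉ p) ∧ ∀ q : Ideal B, q.IsPrime ∧ f ∉ q → p ≤ q → q ≤ p := by
    obtain ⟨p, hp⟩ := exists_maximal_of_wellFoundedGT (fun q : Ideal B => q.IsPrime ∧ f ∉ q)
      ⟨⊥, Ideal.isPrime_bot, by simpa using hf⟩
    exact ⟨p, hp.1, fun q hq h => hp.2 hq h⟩
  haveI := hp
  haveI : IsLocalRing (B ⧸ p) :=
    .of_surjective' (Ideal.Quotient.mk p) Ideal.Quotient.mk_surjective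
  let g := Ideal.Quotient.mk p f
  have hall : ∀ q : Ideal (B ⧸ p), q.IsPrime → q ≠ ⊥ → g ∈ q := by
    intro q hq hq0
    by_contra hgq
    refine hq0 (le_bot_iff.1 fun x hx => ?_)
    obtain ⟨y, rfl⟩ := Ideal.Quotient.mk_surjective x
    rw [Ideal.mem_bot, Ideal.Quotient.eq_zero_iff_mem]
    exact hmax _ ⟨hq.comap _, hgq⟩ (fun z hz => by
      rw [Ideal.mem_comap, Ideal.Quotient.eq_zero_iff_mem.2 hz]; exact q.zero_mem) hx
  have hg : g ≠ 0 := fun h0 => hfp (Ideal.Quotient.eq_zero_iff_mem.1 h0)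
  obtain ⟨c, hc⟩ := Ideal.exists_pow_le_of_le_radical_of_fg (maximalIdeal_le_radical_span hg hall)
    (IsNoetherian.noetherian _)
  have hmap : (maximalIdeal B).map (Ideal.Quotient.mk p) ≤ maximalIdeal (B ⧸ p) :=
    Ideal.map_le_iff_le_comap.2 fun x hx hx' => by
      obtain ⟨y, hy⟩ := hx'.exists_right_inv
      obtain ⟨z, rfl⟩ := Ideal.Quotient.mk_surjective y
      rw [← map_mul, ← map_one (Ideal.Quotient.mk p), Ideal.Quotient.eq] at hy
      have h2 : (1 : B) ∈ maximalIdeal B := by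
        have h3 := (maximalIdeal B).sub_mem ((maximalIdeal B).mul_mem_right z hx)
          (IsLocalRing.le_maximalIdeal hp.ne_top hy)
        simpa using h3
      exact (maximalIdeal.isMaximal B).ne_top ((Ideal.eq_top_iff_one _).2 h2)
  refine ⟨2 * c, fun t ht h => ?_⟩
  have h1 : g ^ t ∈ maximalIdeal (B ⧸ p) ^ (2 * c * t) := by
    have := Ideal.mem_map_of_mem (Ideal.Quotient.mk p) h
    rw [Ideal.map_pow, map_pow] at this
    exact Ideal.pow_right_mono hmap _ this
  rw [show 2 * c * t = c * (2 * t) by ring, pow_mul] at h1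
  have h2 := Ideal.pow_right_mono hc (2 * t) h1
  rw [Ideal.span_singleton_pow, Ideal.mem_span_singleton] at h2
  obtain ⟨b, hb⟩ := h2
  have h3 : (1 : B ⧸ p) = g ^ t * b := mul_left_cancel₀ (pow_ne_zero t hg) <| by
    rw [mul_one]; nth_rw 1 [hb]; ring
  have h4 : IsUnit g := (isUnit_pow_iff ht.ne').1 (.of_mul_eq_one _ h3.symm)
  have h5 : Ideal.Quotient.mk p f ∈ maximalIdeal (B ⧸ p) := hmap (Ideal.mem_map_of_mem _ hu)
  exact h5 h4

end Groth.Agent.H75
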