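import Groth.Agent.H75.ColengthAlg
import Groth.Agent.SurfInt.Restrict
import Groth.Agent.GeomField.GlobalFunctions
import Groth.Agent.GrpSchLib.SmoothRegular
import Groth.Agent.CurveCohLib.SubBundle
import Groth.Agent.CurveCohLib.Proper
import Groth.Agent.PnCoh.PushNat
import Groth.Prelude.Def_W4c2seshadriposJets

/-! The colength of the powers of the ideal of a closed point on a smooth surface. -/

set_option autoImplicit false
set_option linter.style.haveILetI false
set_option backward.isDefEq.respectTransparency false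
set_option backward.isDefEq.respectTransparency.types false
attribute [-instance] CategoryTheory.catToReflQuiver
universe u
open CategoryTheory CategoryTheory.Limits AlgebraicGeometry IsLocalRing

noncomputable section

namespace Groth.Agent.H75

open Groth.Agent

theorem exists_pair_of_regular {B A : Type u} [CommRing B] [CommRing A] [Algebra B A] (M : Ideal B)
    [M.IsMaximal] [IsLocalization.AtPrime A M] [IsRegularLocalRing A] (hdim : ringKrullDim A ≤ (2 : ℕ)) :
    ∃ a b : B, a ∈ M ∧ b ∈ M ∧ M ≤ Ideal.span {a, b} ⊔ M ^ 2 := by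
  classical
  have hfg : (maximalIdeal A).FG := IsNoetherian.noetherian _
  have hcard : (Submodule.generators (maximalIdeal A)).ncard ≤ 2 := by
    rw [Submodule.FG.generators_ncard hfg]
    have h := IsRegularLocalRing.spanFinrank_maximalIdeal (R := A)
    rw [← h] at hdim
    exact_mod_cast hdim
  obtain ⟨x, y, hxy⟩ : ∃ x y : A, maximalIdeal A = Ideal.span {x, y} := by
    have hs := Submodule.span_generators (maximalIdeal A)
    have hfin := Submodule.FG.finite_generators hfg
    rcases Nat.lt_or_ge (Submodule.generators (maximalIdeal A)).ncard 1 with h | h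
    · have he : Submodule.generators (maximalIdeal A) = ∅ := (Set.ncard_eq_zero hfin).1 (by omega)
      rw [he] at hs
      exact ⟨0, 0, by rw [← hs, Submodule.span_empty]; simp⟩
    · rcases Nat.lt_or_ge (Submodule.generators (maximalIdeal A)).ncard 2 with h' | h'
      · obtain ⟨x, hx⟩ := Set.ncard_eq_one.1 (by omega : (Submodule.generators (maximalIdeal A)).ncard = 1)
        rw [hx] at hs
        exact ⟨x, x, by rw [← hs, Set.pair_eq_singleton]⟩
      · obtain ⟨x, y, -, hx⟩ := Set.ncard_eq_two.1 (by omega : (Submodule.generators (maximalIdeal A)).ncard = 2)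
        rw [hx] at hs
        exact ⟨x, y, hs.symm⟩
  obtain ⟨a, s, rfl⟩ := IsLocalization.exists_mk'_eq M.primeCompl x
  obtain ⟨b, t, rfl⟩ := IsLocalization.exists_mk'_eq M.primeCompl y
  have hx : ∀ (a : B) (s : M.primeCompl), IsLocalization.mk' A a s ∈ maximalIdeal A → a ∈ M := fun a s h =>
    (IsLocalization.AtPrime.mk'_mem_maximal_iff A M a s).1 h
  have ha : a ∈ M := hx a s (hxy ▸ Ideal.subset_span (Set.mem_insert _ _))
  have hb : b ∈ M := hx b t (hxy ▸ Ideal.subset_span (Set.mem_insert_of_mem _ rfl))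
  refine ⟨a, b, ha, hb, fun z hz => ?_⟩
  have hzA : algebraMap B A z ∈ maximalIdeal A := (IsLocalization.AtPrime.to_map_mem_maximal_iff A M z).2 hz
  rw [hxy, Ideal.mem_span_pair] at hzA
  obtain ⟨p, q, hpq⟩ := hzA
  let ε := IsLocalization.AtPrime.equivQuotMaximalIdealPow M A 2
  obtain ⟨p', hp'⟩ := ε.surjective (Ideal.Quotient.mk _ (p * IsLocalization.mk' A 1 s))
  obtain ⟨q', hq'⟩ := ε.surjective (Ideal.Quotient.mk _ (q * IsLocalization.mk' A 1 t))
  obtain ⟨p₀, rfl⟩ := Ideal.Quotient.mk_surjective p'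
  obtain ⟨q₀, rfl⟩ := Ideal.Quotient.mk_surjective q'
  have hz2 : z - (p₀ * a + q₀ * b) ∈ M ^ 2 := by
    rw [← Ideal.Quotient.eq_zero_iff_mem]
    apply ε.injective
    rw [map_zero, map_sub, map_add, map_mul, map_mul, map_sub, map_add, map_mul, map_mul, hp', hq']
    simp only [ε, IsLocalization.AtPrime.equivQuotMaximalIdealPow_apply_mk]
    rw [← map_mul, ← map_mul, ← map_add, ← map_sub, Ideal.Quotient.eq_zero_iff_mem]
    have e : ∀ (c : B) (u : M.primeCompl), IsLocalization.mk' A 1 u * algebraMap B A c = IsLocalization.mk' A c u :=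
      fun c u => by rw [IsLocalization.mk'_eq_mul_mk'_one (S := A) c u, mul_comm]
    rw [mul_assoc, mul_assoc, e, e, hpq, sub_self]
    exact zero_mem _
  have h1 : p₀ * a + q₀ * b ∈ Ideal.span {a, b} :=
    Ideal.mem_span_pair.2 ⟨p₀, q₀, rfl⟩
  simpa using add_mem (Submodule.mem_sup_left (T := (M ^ 2 : Ideal B)) h1) (Submodule.mem_sup_right hz2)

variable {X : Scheme.{u}} (k : Type u) [Field k] [X.Over (Spec (CommRingCat.of k))]

/-- The functions on the `s+1`-st infinitesimal neighbourhood of a closed point of a smooth surface. -/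
theorem two_mul_finrank_quot_pointIdeal_pow_le [IsAlgClosed k] [IsProper (X ↘ Spec (CommRingCat.of k))]
    [Smooth (X ↘ Spec (CommRingCat.of k))] (hdim : topologicalKrullDim X ≤ (2 : ℕ)) {x : X}
    (hx : IsClosed ({x} : Set X)) (s : ℕ) :
    2 * Module.finrank k (Coh.HH X (ClSub.quotMod ((W4c2seshadripos.pointIdeal x hx) ^ (s + 1))) 0) ≤
      (s + 1) * (s + 2) := by
  let f := X ↘ Spec (CommRingCat.of k)
  obtain ⟨_, ⟨U, hU, rfl⟩, hxU, -⟩ := X.isBasis_affineOpens.exists_subset_of_mem_open
    (Set.mem_univ x) isOpen_univ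
  let I := (W4c2seshadripos.pointIdeal x hx) ^ (s + 1)
  have hsupp : (I.support : Set X) ⊆ {x} := by
    rw [Scheme.IdealSheafData.support_pow_succ]
    simp [W4c2seshadripos.pointIdeal]
  have hpre : I.subschemeι ⁻¹ᵁ U = ⊤ := top_unique fun z _ => by
    have h : I.subschemeι z ∈ (I.support : Set X) := I.range_subschemeι ▸ ⟨z, rfl⟩
    show I.subschemeι z ∈ U
    rw [Set.mem_singleton_iff.1 (hsupp h)]
    exact hxU
  letI : Algebra k Γ(X, U) :=
    ((f.appLE ⊤ U le_top).hom.comp (Scheme.ΓSpecIso (CommRingCat.of k)).inv.hom).toAlgebra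
  haveI : Algebra.FiniteType k Γ(X, U) := by
    have h := HasRingHomProperty.appLE (P := @LocallyOfFiniteType) f inferInstance
      ⟨⊤, isAffineOpen_top _⟩ ⟨U, hU⟩ le_top
    exact RingHom.FiniteType.comp h (RingHom.FiniteType.of_surjective _
      (Scheme.ΓSpecIso (CommRingCat.of k)).symm.commRingCatIsoToRingEquiv.surjective)
  let M := (hU.primeIdealOf ⟨x, hxU⟩).asIdeal
  haveI : M.IsMaximal := hU.primeIdealOf_isMaximal_of_isClosed ⟨x, hxU⟩ hx
  have hsurj : Function.Surjective ((Ideal.Quotient.mk M).comp (algebraMap k Γ(X, U))) := by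
    letI := Ideal.Quotient.field M
    haveI : Algebra.FiniteType k (Γ(X, U) ⧸ M) :=
      Algebra.FiniteType.of_surjective (Ideal.Quotient.mkₐ k M) (Ideal.Quotient.mkₐ_surjective k M)
    haveI := finite_of_finite_type_of_isJacobsonRing k (Γ(X, U) ⧸ M)
    exact (IsAlgClosed.algebraMap_bijective_of_isIntegral (k := k) (K := Γ(X, U) ⧸ M)).2
  let A := X.presheaf.stalk x
  letI : Algebra Γ(X, U) A := (X.presheaf.germ U x hxU).hom.toAlgebra
  haveI : IsLocalization.AtPrime A M := hU.isLocalization_stalk ⟨x, hxU⟩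
  haveI : IsRegularLocalRing A := GrpSchLib.isRegularLocalRing_stalk_of_smooth f x
  obtain ⟨a, b, ha, hb, hab⟩ := exists_pair_of_regular (A := A) M
    ((CurveCohLib.ringKrullDim_stalk_le_topologicalKrullDim x).trans hdim)
  obtain ⟨hfin, hle⟩ := finite_and_finrank_quot_pow_le hsurj ha hb hab s
  have hIU : I.ideal ⟨U, hU⟩ = M ^ (s + 1) := by
    show ((W4c2seshadripos.pointIdeal x hx).ideal ⟨U, hU⟩) ^ (s + 1) = _
    congr 1
    rw [W4c2seshadripos.pointIdeal, Scheme.IdealSheafData.vanishingIdeal_ideal]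
    have hpre : hU.fromSpec ⁻¹' ((⟨{x}, hx⟩ : TopologicalSpace.Closeds X) : Set X) = {hU.primeIdealOf ⟨x, hxU⟩} :=
      Set.ext fun q => ⟨fun h => hU.fromSpec.isOpenEmbedding.injective
        ((Set.mem_singleton_iff.1 h).trans (hU.fromSpec_primeIdealOf ⟨x, hxU⟩).symm),
        fun h => by rw [Set.mem_singleton_iff.1 h]; exact hU.fromSpec_primeIdealOf ⟨x, hxU⟩⟩
    rw [hpre, PrimeSpectrum.vanishingIdeal_singleton]
  letI : I.subscheme.Over (Spec (CommRingCat.of k)) := ⟨I.subschemeι ≫ f⟩
  obtain ⟨e⟩ := PnCoh.exists_linearEquiv_push k I.subschemeι rfl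
    (QCoh.isQCoh_structureModule (X := I.subscheme)) 0
  refine le_of_eq_of_le (congrArg (2 * ·) (e.finrank_eq.symm.trans ?_)) hle
  rw [GeomField.finrank_HH_zero]
  letI := GeomField.globalAlgebra k I.subscheme
  let ψ : Γ(X, U) →ₐ[k] Γ(I.subscheme, ⊤) :=
    { (I.subschemeι.appLE U ⊤ hpre.ge).hom with
      commutes' := fun c => by
        show (f.appLE ⊤ U le_top ≫ I.subschemeι.appLE U ⊤ hpre.ge).hom
          ((Scheme.ΓSpecIso (CommRingCat.of k)).inv.hom c) = _
        rw [Scheme.Hom.appLE_comp_appLE]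
        show _ = ((I.subschemeι ≫ f).appTop).hom _
        rw [Scheme.Hom.appTop, ← Scheme.Hom.appLE_eq_app]
        rfl }
  have hψ : Function.Bijective (I.subscheme.presheaf.map (homOfLE hpre.ge).op).hom := by
    haveI : IsIso (homOfLE hpre.ge) := ⟨⟨homOfLE hpre.le, rfl, rfl⟩⟩
    exact ConcreteCategory.bijective_of_isIso (I.subscheme.presheaf.map (homOfLE hpre.ge).op)
  have hker : RingHom.ker ψ = M ^ (s + 1) := by
    rw [← hIU, ← I.ker_subschemeι_app ⟨U, hU⟩]
    ext z
    exact hψ.1.eq_iff' (map_zero _)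
  have hψs : Function.Surjective ψ := hψ.2.comp (I.subschemeι_app_surjective ⟨U, hU⟩)
  exact ((Ideal.quotientEquivAlgOfEq k hker.symm).trans
    (Ideal.quotientKerAlgEquivOfSurjective hψs)).toLinearEquiv.finrank_eq.symm

end Groth.Agent.H75
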