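import Groth.Agent.AmpleX.Generated
import Groth.Agent.AmpleVan.Mul
import Groth.Agent.QCoh.TensorSections
import Groth.Agent.QCoh.Support
import Groth.Agent.Lib.EffCompl
import Groth.Agent.Lib.AVAmple
import Groth.Agent.KZ.QuasiProj
import Groth.Agent.DEqLib.Sib.ResProp
import Groth.Agent.H23.PicMul
import Groth.Agent.RegUFD.Basic

/-!
# Coherent modules on separated regular schemes are quotients of locally free ones

The complement of an affine open is an effective Cartier divisor, and sections over the affine open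
extend after twisting by it.
-/

universe u

open CategoryTheory CategoryTheory.Limits AlgebraicGeometry TopologicalSpace Opposite
open scoped TensorProduct
open Groth.Agent.H23.PicMul

set_option backward.isDefEq.respectTransparency false
set_option backward.isDefEq.respectTransparency.types false
set_option linter.style.haveILetI false

attribute [local instance] Groth.Agent.QCoh.hasFiniteBiproducts

noncomputable section

namespace Groth.Agent.H75

open Groth.Agent

variable {X : Scheme.{u}}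

/-- On an affine open, tensoring with a frame loses nothing. -/
theorem eq_zero_of_tmul_frame {M N : X.Modules} (hM : Coh.IsQCoh M) (hN : Coh.IsQCoh N) {U : X.Opens}
    (hU : IsAffineOpen U) {e : Γ(N, U)} (he : InvX.IsFrame e) {a : Γ(M, U)}
    (h : InvX.tmul a e = 0) : a = 0 := by
  have hb : Function.Bijective (LinearMap.toSpanSingleton Γ(X, U) Γ(N, U) e) := by
    have := he U le_rfl
    rw [AModX.res_self] at this
    exact this
  let ε := LinearEquiv.ofBijective (LinearMap.toSpanSingleton Γ(X, U) Γ(N, U) e) hb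
  have h0 : QCoh.tmLin M N U (a ⊗ₜ[Γ(X, U)] e) = 0 := h
  have h1 : a ⊗ₜ[Γ(X, U)] e = 0 := (QCoh.bijective_tmLin hM hN hU).1 (h0.trans (map_zero _).symm)
  have h2 := congrArg ((TensorProduct.rid Γ(X, U) Γ(M, U)).toLinearMap ∘ₗ
    LinearMap.lTensor Γ(M, U) ε.symm.toLinearMap) h1
  have h3 : ε.symm e = 1 := by
    rw [LinearEquiv.symm_apply_eq]
    exact (one_smul Γ(X, U) e).symm
  simpa [h3] using h2

/-- Over an affine open which is the complement of an effective Cartier divisor, a coherent module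
is generated by a locally free one. -/
theorem exists_finLocFree_generating [IsNoetherian X] [X.IsSeparated] {F : X.Modules} (hF : Coh.IsCoh F)
    (G : X.Opens) (hG : IsAffineOpen G) (I : X.IdealSheafData) (hI : BlowUp.IsEffCartierIdeal I)
    (hsupp : (I.support : Set X) = (G : Set X)ᶜ) :
    ∃ (E : X.Modules) (h : E ⟶ F), FlatMod.IsFinLocFree E ∧
      ∀ (Q : X.Modules), Coh.IsCoh Q → ∀ q : F ⟶ Q, h ≫ q = 0 → ∀ t : Γ(F, G), q.app G t = 0 := by
  have hIi : PicF.IsInvertible (ClSub.idealMod I) := (S8914.result I).2 hI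
  obtain ⟨L, hL, ⟨d⟩⟩ := H23.PicInv.exists_inverse hIi
  obtain ⟨c⟩ := H23.PicMul.comm L (ClSub.idealMod I)
  obtain ⟨σ, hσ⟩ := AVAmple.exists_divisor_section I hI hL ⟨c ≪≫ d⟩
  let s := InvX.ofSect σ
  have hgen : CohB1.genLocus L s = G := by
    refine TopologicalSpace.Opens.ext (Set.ext fun y => ?_)
    show y ∈ H23.TrivBasic.locus σ ↔ _
    rw [hσ y, ← SetLike.mem_coe, hsupp]
    exact not_not
  obtain ⟨e, he⟩ : ∃ e : Γ(L, G), InvX.IsFrame e := hgen ▸ ⟨_, AmpleX.res_genLocus_frame s⟩
  haveI : Module.Finite Γ(X, G) Γ(F, G) := QCoh.finite_sections hF hG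
  obtain ⟨J, t, ht⟩ := Module.Finite.exists_fin (R := Γ(X, G)) (M := Γ(F, G))
  subst hgen
  choose n hn using fun j => AmpleX.exists_extend hF.1 hL s (t j)
  let m := Finset.univ.sup n
  choose T hT using fun j => hn j m (Finset.le_sup (Finset.mem_univ j))
  let P := CohB1.tensorPow L m
  have hP : PicF.IsInvertible P := InvX.isInvertible_tensorPow hL m
  obtain ⟨D, hD, ⟨d'⟩⟩ := H23.PicInv.exists_inverse hP
  obtain ⟨c'⟩ := H23.PicMul.comm D P
  let tP := AmpleVan.tw P
  haveI : tP.IsEquivalence := AmpleVan.isEquivalence_tw hP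
  let eD : tP.obj D ≅ Coh.structureModule X := c' ≪≫ d'
  let h₁ : ∀ j, D ⟶ F := fun j => tP.preimage (eD.hom ≫ InvX.ofSect (T j))
  refine ⟨⨁ fun _ : ULift.{u} (Fin J) => D, biproduct.desc fun j => h₁ j.down,
    KZ.QuasiProj.flf_biproduct _ fun _ => KZ.QuasiProj.flf_of_invertible hD, fun Q hQ q hq => ?_⟩
  have hjq : ∀ j, InvX.ofSect (T j) ≫ tP.map q = 0 := fun j => by
    have h1 : h₁ j ≫ q = 0 := by
      rw [← biproduct.ι_desc (fun j : ULift.{u} (Fin J) => h₁ j.down) ⟨j⟩, Category.assoc, hq, comp_zero]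
    have h2 := congrArg tP.map h1
    rw [Functor.map_comp, Functor.map_preimage, Functor.map_zero, Category.assoc] at h2
    exact (cancel_epi eD.hom).1 (h2.trans comp_zero.symm)
  let G := CohB1.genLocus L s
  let e' := AmpleX.powElt (AModX.res L (le_top : G ≤ ⊤) (InvX.one s)) m
  have hgen' : ∀ j, q.app G (t j) = 0 := fun j => by
    have h1 : (tP.map q).app ⊤ (T j) = 0 := by
      rw [← InvX.one_ofSect (T j)]
      exact congrArg InvX.one (hjq j)
    have h2 := congrArg (AModX.res (tP.obj Q) (le_top : G ≤ ⊤)) h1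
    rw [← AModX.app_res, map_zero] at h2
    have h4 : (tP.map q).app G (InvX.tmul (t j) e') = 0 :=
      (congrArg ((tP.map q).app G) (hT j)).symm.trans h2
    rw [AmpleVan.map_tmul_left] at h4
    exact eq_zero_of_tmul_frame hQ.1 (ProjUPX.isQCoh_of_isInvertible hP) hG
      (AmpleX.isFrame_powElt (AmpleX.res_genLocus_frame s) m) h4
  intro x
  have hx : x ∈ Submodule.span Γ(X, G) (Set.range t) := ht ▸ trivial
  induction hx using Submodule.span_induction with
  | mem y hy =>
    obtain ⟨j, rfl⟩ := hy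
    exact hgen' j
  | zero => exact map_zero _
  | add a b _ _ ha hb => rw [map_add, ha, hb, add_zero]
  | smul r a _ ha => rw [Scheme.Modules.Hom.app_smul, ha, smul_zero]

/-- On an integral separated Noetherian scheme with factorial local rings every coherent module is a
quotient of a finite locally free one. -/
theorem exists_epi_finLocFree_of_ufd [IsIntegral X] [IsNoetherian X] [X.IsSeparated]
    (hufd : ∀ x : X, UniqueFactorizationMonoid (X.presheaf.stalk x))
    (F : X.Modules) (hF : Coh.IsCoh F) :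
    ∃ (E : X.Modules) (p : E ⟶ F), FlatMod.IsFinLocFree E ∧ Epi p := by
  classical
  have hloc : ∀ x : X, ∃ (U : X.Opens), IsAffineOpen U ∧ x ∈ U ∧
      ∃ (E : X.Modules) (h : E ⟶ F), FlatMod.IsFinLocFree E ∧
        ∀ (Q : X.Modules), Coh.IsCoh Q → ∀ q : F ⟶ Q, h ≫ q = 0 → ∀ t : Γ(F, U), q.app U t = 0 := by
    intro x
    obtain ⟨_, ⟨U, hU, rfl⟩, hxU, -⟩ :=
      X.isBasis_affineOpens.exists_subset_of_mem_open (Set.mem_univ x) isOpen_univ
    obtain ⟨I, hI, hsupp⟩ := EffCompl.exists_effCartier_compl X (fun V W hV hW => hV.inf hW) U hU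
      (U.2.dense ⟨x, hxU⟩) fun y _ => ⟨inferInstance, hufd y⟩
    exact ⟨U, hU, hxU, exists_finLocFree_generating hF U hU I hI hsupp⟩
  choose U hU hxU E h hE hgen using hloc
  obtain ⟨S, hS⟩ := isCompact_univ.elim_finite_subcover (fun x => (U x : Set X)) (fun x => (U x).2)
    (fun x _ => Set.mem_iUnion.2 ⟨x, hxU x⟩)
  let T : S → X.Modules := fun i => E i
  have hT : FlatMod.IsFinLocFree (⨁ T) := KZ.QuasiProj.flf_biproduct T fun i => hE i
  let p : ⨁ T ⟶ F := biproduct.desc fun i => h i
  refine ⟨⨁ T, p, hT, Abelian.epi_of_cokernel_π_eq_zero _ ?_⟩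
  have hQ : Coh.IsCoh (cokernel p) := QCoh.isCoh_cokernel (KZ.LFRes.flf_isCoh hT).1 hF p
  refine DEqLib.Sib.ResProp.eq_zero_of_affine_cover hF.1 _ (fun i : S => U i) (fun i => hU i)
    (fun y => ?_) fun i t => hgen i _ hQ _ ?_ t
  · obtain ⟨i, hi, hy⟩ := Set.mem_iUnion₂.1 (hS (Set.mem_univ y))
    exact ⟨⟨i, hi⟩, hy⟩
  · have h1 : biproduct.ι T i ≫ p ≫ cokernel.π p = 0 := by rw [cokernel.condition, comp_zero]
    rw [← Category.assoc, biproduct.ι_desc] at h1
    exact h1

/-- Regular version. -/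
theorem exists_epi_finLocFree_of_regular [IsIntegral X] [IsNoetherian X] [X.IsSeparated]
    (hreg : ∀ x : X, IsRegularLocalRing (X.presheaf.stalk x))
    (F : X.Modules) (hF : Coh.IsCoh F) :
    ∃ (E : X.Modules) (p : E ⟶ F), FlatMod.IsFinLocFree E ∧ Epi p :=
  exists_epi_finLocFree_of_ufd (fun x => haveI := hreg x; (RegUFD.ufd _).2) F hF

end Groth.Agent.H75
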